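import Groth.Agent.AnLocal.Jet
import Mathlib.FieldTheory.IsAlgClosed.Basic
import Mathlib.Analysis.Complex.Polynomial.Basic

/-!
Pullback of germs along polynomial maps; Weierstrass division in an arbitrary coordinate;
continuity of roots and Weierstrass polynomials at the roots.
-/

open Filter Topology MvPolynomial

noncomputable section

namespace Groth.Agent.AnLocal

variable {m n l : ℕ}

/-- A polynomial map. -/
def polyMap (q : Fin n → MvPolynomial (Fin m) ℂ) (z : Fin m → ℂ) : Fin n → ℂ := fun i => eval z (q i)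

theorem differentiable_eval (p : MvPolynomial (Fin m) ℂ) : Differentiable ℂ fun z => eval z p := by
  induction p using MvPolynomial.induction_on with
  | C a => simp only [eval_C]; exact differentiable_const _
  | add p q hp hq => simp only [map_add]; exact hp.add hq
  | mul_X p i hp =>
    simp only [map_mul, eval_X]
    exact hp.mul (differentiable_apply (𝕜 := ℂ) (F' := fun _ : Fin m => ℂ) i)

theorem differentiable_polyMap (q : Fin n → MvPolynomial (Fin m) ℂ) : Differentiable ℂ (polyMap q) :=
  differentiable_pi.2 fun i => differentiable_eval (q i)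

theorem eval_aeval (q : Fin n → MvPolynomial (Fin m) ℂ) (p : MvPolynomial (Fin n) ℂ) (z : Fin m → ℂ) :
    eval z (aeval q p) = eval (polyMap q z) p := by
  have : (eval z).comp (aeval q).toRingHom = eval (polyMap q z) :=
    MvPolynomial.ringHom_ext (fun c => by simp) fun i => by simp [polyMap]
  exact RingHom.congr_fun this p

theorem polyMap_zero (q : Fin n → MvPolynomial (Fin m) ℂ) (h : ∀ i, eval 0 (q i) = 0) : polyMap q 0 = 0 :=
  _root_.funext h

/-- Composition with a polynomial map fixing the origin, on functions. -/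
def pmapFun (q : Fin n → MvPolynomial (Fin m) ℂ) (h : ∀ i, eval 0 (q i) = 0) : holFun n →+* holFun m :=
  compFun (polyMap q) (polyMap_zero q h) (Eventually.of_forall fun z => differentiable_polyMap q z)

theorem pmapFun_apply (q : Fin n → MvPolynomial (Fin m) ℂ) (h) (f : holFun n) (z : Fin m → ℂ) :
    (pmapFun q h f : (Fin m → ℂ) → ℂ) z = f.1 (polyMap q z) := rfl

/-- Pullback of germs along a polynomial map fixing the origin. -/
def pmap (q : Fin n → MvPolynomial (Fin m) ℂ) (h : ∀ i, eval 0 (q i) = 0) : O n →+* O m :=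
  comap (polyMap q) (polyMap_zero q h) (Eventually.of_forall fun z => differentiable_polyMap q z)

theorem pmap_mk (q : Fin n → MvPolynomial (Fin m) ℂ) (h) (f : holFun n) :
    pmap q h (mk n f) = mk m (pmapFun q h f) := comap_mk _ _ _ f

theorem pmap_polyHom (q : Fin n → MvPolynomial (Fin m) ℂ) (h) (p : MvPolynomial (Fin n) ℂ) :
    pmap q h (polyHom n p) = polyHom m (aeval q p) := by
  simp only [polyHom, RingHom.comp_apply, pmap_mk]
  congr 1
  refine Subtype.ext (_root_.funext fun z => ?_)
  rw [pmapFun_apply, polyFun_apply, polyFun_apply, eval_aeval]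

theorem pmap_pmap (q : Fin n → MvPolynomial (Fin m) ℂ) (h) (r : Fin m → MvPolynomial (Fin l) ℂ) (h')
    (h'' : ∀ i, eval 0 (aeval r (q i)) = 0) (g : O n) :
    pmap r h' (pmap q h g) = pmap (fun i => aeval r (q i)) h'' g := by
  obtain ⟨f, rfl⟩ := mk_surjective g
  simp only [pmap_mk]
  congr 1
  refine Subtype.ext (_root_.funext fun z => ?_)
  simp only [pmapFun_apply]
  exact congrArg f.1 (_root_.funext fun i => (eval_aeval r (q i) z).symm)

theorem pmap_congr {q q' : Fin n → MvPolynomial (Fin m) ℂ} (h h') (e : q = q') (g : O n) :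
    pmap q h g = pmap q' h' g := by subst e; rfl

theorem pmap_X (q : Fin n → MvPolynomial (Fin m) ℂ) (h) (i : Fin n) : pmap q h (X i) = polyHom m (q i) := by
  rw [← polyHom_X, pmap_polyHom, aeval_X]

theorem pmap_id (g : O n) (h) : pmap (fun i => MvPolynomial.X i) h g = g := by
  obtain ⟨f, rfl⟩ := mk_surjective g
  rw [pmap_mk]
  congr 1
  refine Subtype.ext (_root_.funext fun z => ?_)
  rw [pmapFun_apply]
  exact congrArg f.1 (_root_.funext fun i => eval_X i)

/-- Setting the variables in `s` to zero. -/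
def kill (s : Finset (Fin n)) (i : Fin n) : MvPolynomial (Fin n) ℂ := if i ∈ s then 0 else MvPolynomial.X i

theorem eval_zero_kill (s : Finset (Fin n)) (i : Fin n) : eval 0 (kill s i) = 0 := by
  unfold kill; split_ifs <;> simp

/-- Division in an arbitrary coordinate. -/
theorem exists_division_coord (i : Fin n) (f : holFun n)
    (hne : ¬ ∀ᶠ t in 𝓝 (0 : ℂ), f.1 (Pi.single i t) = 0) (g : O n) :
    ∃ (k : ℕ) (q : O n) (b : ℕ → O n),
      g = q * mk n f + ∑ j ∈ Finset.range k, X i ^ j * pmap (kill {i}) (eval_zero_kill _) (b j) := by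
  cases n with
  | zero => exact i.elim0
  | succ n =>
    let σ := Equiv.swap (0 : Fin (n + 1)) i
    let s : Fin (n + 1) → MvPolynomial (Fin (n + 1)) ℂ := fun k => MvPolynomial.X (σ k)
    have hs : ∀ k, eval 0 (s k) = 0 := fun k => by simp [s]
    have hss : ∀ g, pmap s hs (pmap s hs g) = g := by
      intro g
      rw [pmap_pmap _ _ _ _ (fun k => by simp [s])]
      refine (pmap_congr (q' := fun k => MvPolynomial.X k) _ (fun k => by simp) (_root_.funext fun k => ?_) g).trans
        (pmap_id g _)
      simp [s, σ]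
    obtain ⟨R, hR, hball⟩ := Metric.eventually_nhds_iff_ball.1 (pmapFun s hs f).2
    have hax : ∀ t, (pmapFun s hs f).1 (axis t) = f.1 (Pi.single i t) := by
      intro t
      rw [pmapFun_apply]
      refine congrArg f.1 (_root_.funext fun k => ?_)
      simp only [polyMap, s, eval_X, axis, σ]
      by_cases hk : k = i
      · subst hk; simp
      · rw [Function.update_of_ne (fun h => hk (by
          have := congrArg (Equiv.swap (0 : Fin (n + 1)) i) h
          rwa [Equiv.swap_apply_self, Equiv.swap_apply_left] at this)), Pi.single_eq_of_ne hk]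
        rfl
    obtain ⟨d, hd⟩ := exists_isRegular hR (fun z hz => (hball z hz).differentiableWithinAt)
      (fun h => hne (h.mono fun t ht => by rw [← hax t]; exact ht))
    obtain ⟨q, a, he⟩ := exists_division _ hd (pmap s hs g)
    have := congrArg (pmap s hs) he
    rw [hss, map_add, map_mul, map_sum, ← pmap_mk, hss] at this
    refine ⟨d, pmap s hs q, fun j => pmap s hs (tailMap n (a j)), this.trans ?_⟩
    congr 1
    refine Finset.sum_congr rfl fun j _ => ?_
    rw [map_mul, map_pow, pmap_X, show s 0 = MvPolynomial.X i from by simp [s, σ],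
      polyHom_X]
    congr 1
    have ht : tailMap n (a j) = pmap (fun k : Fin n => MvPolynomial.X k.succ) (fun k => by simp) (a j) := by
      obtain ⟨f', hf'⟩ := mk_surjective (a j)
      rw [← hf', tailMap, comap_mk, pmap_mk]
      congr 1
      refine Subtype.ext (_root_.funext fun z => congrArg f'.1 (_root_.funext fun k => ?_))
      exact (eval_X k.succ).symm
    beta_reduce
    rw [ht, pmap_pmap _ _ _ _ (fun k => by simp [s]), pmap_pmap _ _ _ _ (fun k => by simp [s, kill]; split_ifs <;> simp)]
    refine pmap_congr _ _ (_root_.funext fun k => ?_) _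
    have hk : σ k.succ ≠ i := fun h => Fin.succ_ne_zero k (by
      have := congrArg σ h
      simpa [σ] using this)
    simp [s, kill, hk]

/-- Continuity of the roots of a family of monic polynomials. -/
theorem eventually_exists_root_near {α : Type*} [TopologicalSpace α] [Zero α]
    (F : α → Polynomial ℂ) (e : ℕ) (hm : (F 0).Monic) (he : (F 0).natDegree = e)
    (hd : ∀ c, (F c).natDegree ≤ e) (hc : ∀ i, Tendsto (fun c => (F c).coeff i) (𝓝 0) (𝓝 ((F 0).coeff i)))
    {ε : ℝ} (hε : 0 < ε) :
    ∀ᶠ c in 𝓝 (0 : α), ∀ t, (F c).eval t = 0 → ∃ a ∈ (F 0).roots, ‖t - a‖ < ε := by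
  classical
  have hsplit : (F 0).Splits := IsAlgClosed.splits (F 0)
  obtain ⟨A, hA0, hA⟩ : ∃ A : ℝ, 0 ≤ A ∧ ∀ a ∈ (F 0).roots, ‖a‖ ≤ A :=
    ⟨∑ a ∈ (F 0).roots.toFinset, ‖a‖, Finset.sum_nonneg fun a _ => norm_nonneg a, fun a ha =>
      Finset.single_le_sum (f := fun a : ℂ => ‖a‖) (fun a _ => norm_nonneg a) (Multiset.mem_toFinset.2 ha)⟩
  set κ : ℝ := ((1 + A) / ε + 1)⁻¹
  have hκ : 0 < κ := inv_pos.2 (by positivity)
  have hsum : Tendsto (fun c => ∑ i ∈ Finset.range (e + 1), ‖(F c).coeff i - (F 0).coeff i‖) (𝓝 0) (𝓝 0) := by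
    have := tendsto_finsetSum (Finset.range (e + 1)) (fun i _ => ((hc i).sub_const ((F 0).coeff i)).norm)
    simpa using this
  filter_upwards [hsum.eventually_lt_const (pow_pos hκ e)] with c hc' t ht
  by_contra! hfar
  have h1 : ∀ a ∈ (F 0).roots, κ * (1 + ‖t‖) ≤ ‖t - a‖ := by
    intro a ha
    rw [inv_mul_le_iff₀ (by positivity)]
    have h2 : ‖t‖ ≤ ‖t - a‖ + ‖a‖ := norm_le_norm_sub_add t a
    have h3 : 1 + ‖a‖ ≤ (1 + A) / ε * ‖t - a‖ := by
      rw [div_mul_eq_mul_div, le_div_iff₀ hε]
      exact mul_le_mul (by linarith [hA a ha]) (hfar a ha) hε.le (by positivity)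
    calc 1 + ‖t‖ ≤ (1 + A) / ε * ‖t - a‖ + ‖t - a‖ := by linarith
      _ = _ := by ring
  have hcard : (F 0).roots.card = e := by rw [← hsplit.natDegree_eq_card_roots, he]
  have hlow : (κ * (1 + ‖t‖)) ^ e ≤ ‖(F 0).eval t‖ := by
    rw [hsplit.eval_eq_prod_roots_of_monic hm, ← hcard]
    clear_value κ
    generalize (F 0).roots = s at h1
    induction s using Multiset.induction_on with
    | empty => simp
    | cons a s ih =>
      simp only [Multiset.card_cons, pow_succ', Multiset.map_cons, Multiset.prod_cons, norm_mul]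
      exact mul_le_mul (h1 a (Multiset.mem_cons_self _ _)) (ih fun b hb => h1 b (Multiset.mem_cons_of_mem hb))
        (by positivity) (norm_nonneg _)
  have hup : ‖(F 0).eval t‖ ≤ (∑ i ∈ Finset.range (e + 1), ‖(F c).coeff i - (F 0).coeff i‖) * (1 + ‖t‖) ^ e := by
    have : (F 0).eval t = -∑ i ∈ Finset.range (e + 1), ((F c).coeff i - (F 0).coeff i) * t ^ i := by
      simp only [sub_mul, Finset.sum_sub_distrib]
      rw [← Polynomial.eval_eq_sum_range' (Nat.lt_succ_of_le (hd c)),
        ← Polynomial.eval_eq_sum_range' (Nat.lt_succ_of_le he.le), ht]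
      ring
    rw [this, norm_neg, Finset.sum_mul]
    refine (norm_sum_le _ _).trans (Finset.sum_le_sum fun i hi => ?_)
    rw [norm_mul, norm_pow]
    refine mul_le_mul_of_nonneg_left ?_ (norm_nonneg _)
    exact (pow_le_pow_left₀ (norm_nonneg t) (by linarith) i).trans
      (pow_le_pow_right₀ (by linarith [norm_nonneg t]) (Nat.lt_succ_iff.1 (Finset.mem_range.1 hi)))
  rw [mul_pow] at hlow
  exact (lt_of_lt_of_le (mul_lt_mul_of_pos_right hc' (by positivity)) hlow).not_ge hup

/-- The Weierstrass polynomial at a root `a` of a polynomial with coefficients holomorphic in parameters. -/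
theorem exists_weierstrass_at {d : ℕ} (f : Polynomial (holFun d)) (hm : f.Monic) (a : ℂ)
    (ha : (f.map ((Pi.evalRingHom (fun _ : Fin d → ℂ => ℂ) 0).comp (holFun d).subtype)).eval a = 0) :
    ∃ (W : Polynomial (holFun d)) (k : ℕ) (ρ : ℝ), 0 < ρ ∧
      W.map ((Pi.evalRingHom (fun _ : Fin d → ℂ => ℂ) 0).comp (holFun d).subtype) = Polynomial.X ^ k ∧
      ∀ (c : Fin d → ℂ) (t : ℂ), ‖c‖ < ρ → ‖t - a‖ < ρ →
        (f.map ((Pi.evalRingHom (fun _ : Fin d → ℂ => ℂ) c).comp (holFun d).subtype)).eval t = 0 →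
        (W.map ((Pi.evalRingHom (fun _ : Fin d → ℂ => ℂ) c).comp (holFun d).subtype)).eval (t - a) = 0 := by
  let ev : (Fin d → ℂ) → holFun d →+* ℂ := fun c => (Pi.evalRingHom (fun _ : Fin d → ℂ => ℂ) c).comp (holFun d).subtype
  let Φ : Polynomial (holFun d) →+* holFun (d + 1) := Polynomial.eval₂RingHom
    (pmapFun (fun k : Fin d => MvPolynomial.X k.succ) fun k => by simp)
    (polyFun _ (MvPolynomial.X 0 + MvPolynomial.C a))
  have hΦ : ∀ (P : Polynomial (holFun d)) (w : Fin (d + 1) → ℂ),
      (Φ P : (Fin (d + 1) → ℂ) → ℂ) w = (P.map (ev (Fin.tail w))).eval (w 0 + a) := by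
    intro P w
    have : ((Pi.evalRingHom (fun _ : Fin (d + 1) → ℂ => ℂ) w).comp (holFun (d + 1)).subtype).comp Φ =
        Polynomial.eval₂RingHom (ev (Fin.tail w)) (w 0 + a) := by
      refine Polynomial.ringHom_ext (fun c => ?_) ?_
      · simp [Φ, ev, pmapFun_apply]
        exact congrArg c.1 (_root_.funext fun k => eval_X _)
      · simp [Φ, polyFun_apply]
    rw [Polynomial.eval_map]
    exact RingHom.congr_fun this P
  have htail : ∀ t : ℂ, Fin.tail (axis (n := d) t) = 0 := fun t =>
    _root_.funext fun k => Function.update_of_ne (Fin.succ_ne_zero k) t (0 : Fin (d + 1) → ℂ)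
  have hax0 : ∀ t : ℂ, axis (n := d) t 0 = t := fun t => Function.update_self _ _ _
  obtain ⟨R, hR, hball⟩ := Metric.eventually_nhds_iff_ball.1 (Φ f).2
  have hne : ¬ ∀ᶠ t in 𝓝 (0 : ℂ), (Φ f).1 (axis t) = 0 := by
    intro h
    have hfin : {t : ℂ | (f.map (ev 0)).eval (t + a) = 0}.Finite := by
      refine ((f.map (ev 0)).roots.toFinset.finite_toSet.preimage (f := fun t : ℂ => t + a)
        (add_left_injective a).injOn).subset fun t ht => ?_
      simpa [hm.map (ev 0) |>.ne_zero] using ht
    have : {t : ℂ | (f.map (ev 0)).eval (t + a) = 0} ∈ 𝓝 (0 : ℂ) := by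
      filter_upwards [h] with t ht
      rwa [hΦ, htail, hax0] at ht
    exact (infinite_of_mem_nhds (0 : ℂ) this) hfin
  obtain ⟨k, hk⟩ := exists_isRegular hR (fun z hz => (hball z hz).differentiableWithinAt) hne
  obtain ⟨r, hr, q, b, hq, hb, heq⟩ := division hR (fun z hz => (hball z hz).differentiableWithinAt) hk
    (((differentiable_apply (𝕜 := ℂ) (F' := fun _ : Fin (d + 1) => ℂ) 0).pow k).differentiableOn
      (s := Metric.ball 0 R))
  let W : Polynomial (holFun d) := Polynomial.X ^ k -
    ∑ j ∈ Finset.range k, Polynomial.monomial j ⟨b j, mem_holFun_of_differentiableOn hr (hb j)⟩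
  have hW : ∀ c s, (W.map (ev c)).eval s = s ^ k - ∑ j ∈ Finset.range k, b j c * s ^ j := by
    intro c s
    simp [W, Polynomial.eval_finsetSum, ev, Polynomial.map_sum]
  refine ⟨W, k, r, hr, ?_, fun c t hc ht h0 => ?_⟩
  · let u : Fin (d + 1) → MvPolynomial (Fin 1) ℂ := fun j => if j = 0 then MvPolynomial.X 0 else 0
    have hu : ∀ j, MvPolynomial.eval 0 (u j) = 0 := fun j => by simp only [u]; split_ifs <;> simp
    have huax : ∀ z : Fin 1 → ℂ, polyMap u z = axis (z 0) := fun z => _root_.funext fun j => by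
      by_cases hj : j = 0
      · subst hj; simp [polyMap, u, hax0]
      · simp [polyMap, u, hj, axis]
    have hfk : pmap u hu (mk _ (Φ f)) ∈ IsLocalRing.maximalIdeal (O 1) ^ k := by
      have hD : DifferentiableOn ℂ (D^[k] (Φ f).1) (Metric.ball 0 R) :=
        differentiableOn_iterate_D hR (fun z hz => (hball z hz).differentiableWithinAt) k
      rw [show pmap u hu (mk _ (Φ f)) = X 0 ^ k * pmap u hu (ofFun hR hD) from ?_]
      · refine Ideal.mul_mem_right _ _ (Ideal.pow_mem_pow ?_ k)
        rw [mem_maximalIdeal_iff, ev0_X]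
      rw [ofFun, pmap_mk, pmap_mk, X, ← map_pow, ← map_mul, mk_eq_mk]
      refine Eventually.of_forall fun z => ?_
      show (Φ f).1 (polyMap u z) = z 0 ^ k * D^[k] (Φ f).1 (polyMap u z)
      rw [huax, expansion (Φ f).1 (axis (z 0)) k, hax0, add_eq_right]
      refine Finset.sum_eq_zero fun j hj => ?_
      rw [show P0 (D^[j] (Φ f).1) (axis (z 0)) = D^[j] (Φ f).1 0 from ?_, hk.2 j (Finset.mem_range.1 hj), mul_zero]
      show D^[j] (Φ f).1 (Function.update (axis (z 0)) 0 0) = _
      refine congrArg (D^[j] (Φ f).1) (_root_.funext fun i => ?_)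
      by_cases hi : i = 0
      · subst hi; simp
      · simp [hi, axis]
    let Q : Polynomial ℂ := W.map (ev 0)
    have hQ : Q.eval₂ (C 1) (X 0) = pmap u hu (ofFun hr hq) * pmap u hu (mk _ (Φ f)) := by
      have h1 : Q.eval₂ (C 1) (X 0) = polyHom 1 (Polynomial.aeval (MvPolynomial.X 0) Q) := by
        rw [Polynomial.aeval_def, Polynomial.hom_eval₂, polyHom_X]
        congr 1
        exact RingHom.ext fun c => (polyHom_C 1 c).symm
      rw [h1, ofFun, pmap_mk, pmap_mk, ← map_mul, polyHom, RingHom.comp_apply, mk_eq_mk]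
      have hz : Tendsto (fun z : Fin 1 → ℂ => axis (n := d) (z 0)) (𝓝 0) (𝓝 0) := by
        have hcont : Continuous fun z : Fin 1 → ℂ => polyMap u z := (differentiable_polyMap u).continuous
        have := hcont.tendsto 0
        rw [polyMap_zero u hu] at this
        simpa only [huax] using this
      filter_upwards [hz.eventually (Metric.ball_mem_nhds 0 hr)] with z hz
      rw [polyFun_apply]
      show MvPolynomial.eval z _ = q (polyMap u z) * (Φ f).1 (polyMap u z)
      have := heq _ hz
      simp only [Pi.pow_apply, hax0, htail] at this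
      rw [huax, Polynomial.aeval_def, Polynomial.hom_eval₂, MvPolynomial.eval_X,
        show (MvPolynomial.eval z).comp (algebraMap ℂ (MvPolynomial (Fin 1) ℂ)) = RingHom.id ℂ from
          RingHom.ext fun c => by simp, Polynomial.eval₂_id, hW, sub_eq_iff_eq_add, this]
      congr 1
      exact Finset.sum_congr rfl fun j _ => mul_comm _ _
    have hz := coeff_eq_zero_of_mem_pow Q (hQ ▸ Ideal.mul_mem_left _ _ hfk)
    ext j
    show Q.coeff j = _
    by_cases hj : j < k
    · rw [hz j hj, Polynomial.coeff_X_pow, if_neg hj.ne]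
    · simp only [Q, W, Polynomial.coeff_map, Polynomial.coeff_sub, Polynomial.coeff_X_pow,
        Polynomial.finsetSum_coeff, Polynomial.coeff_monomial]
      rw [Finset.sum_eq_zero (fun i hi => if_neg fun h : i = j => hj (h ▸ Finset.mem_range.1 hi)), sub_zero]
      split_ifs <;> simp
  · have hw : (Fin.cons (t - a) c : Fin (d + 1) → ℂ) ∈ Metric.ball 0 r := by
      rw [mem_ball_zero_iff, pi_norm_lt_iff hr]
      intro j
      induction j using Fin.cases with
      | zero => simpa using ht
      | succ j => simpa using lt_of_le_of_lt (norm_le_pi_norm c j) hc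
    have := heq _ hw
    simp only [Pi.pow_apply, Fin.cons_zero, Fin.tail_cons] at this
    rw [hΦ, Fin.tail_cons, Fin.cons_zero, sub_add_cancel, h0, mul_zero, zero_add] at this
    rw [hW, this, sub_eq_zero]
    exact Finset.sum_congr rfl fun j _ => mul_comm _ _

end Groth.Agent.AnLocal
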