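import Groth.Prelude.Def_AnHol
import Groth.Agent.AnPts.Affine
import Groth.Agent.AnLocal.PMap
import Mathlib.AlgebraicGeometry.Morphisms.FiniteType

/-!
A polynomial chart of a scheme of finite type over `ℂ` centred at a complex point.
-/

open AlgebraicGeometry CategoryTheory TopologicalSpace Filter Topology MvPolynomial

noncomputable section

namespace Groth.Agent.AnLocal

open An An.Pts

variable {X : Scheme.{0}} [X.Over SC]

/-- The constants in the functions on an open set. -/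
def strU (U : X.Opens) : ℂ →+* Γ(X, U) :=
  ((X ↘ SC).appLE ⊤ U le_top).hom.comp (Scheme.ΓSpecIso (CommRingCat.of ℂ)).inv.hom

theorem ev_strU (y : Pts X) (U : X.Opens) (h : y.pt ∈ U) (c : ℂ) : y.ev U h (strU U c) = c := by
  have : strU U c = X.presheaf.map (homOfLE le_top).op (strHom X c) := rfl
  rw [this, AnPts.ev_res, ← evTop, AnPts.evTop_strHom]

theorem pt_mem_basicOpen_iff (y : Pts X) (U : X.Opens) (hy : y.pt ∈ U) (h : Γ(X, U)) :
    y.pt ∈ X.basicOpen h ↔ y.ev U hy h ≠ 0 := by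
  refine ⟨fun hx h0 => ?_, fun h0 => ?_⟩
  · have hu := (X.toRingedSpace.isUnit_res_basicOpen h).map (AnPts.evHom y (X.basicOpen h) hx)
    apply hu.ne_zero
    exact (AnPts.ev_res y (X.basicOpen_le h) hx h).trans h0
  · have hu : IsUnit (y.1.appLE U ⊤ (top_le_preimage y hy) h) :=
      (isUnit_map_iff (Scheme.ΓSpecIso (CommRingCat.of ℂ)).commRingCatIsoToRingEquiv _).1
        (isUnit_iff_ne_zero.2 h0)
    have h2 : SC.basicOpen (y.1.appLE U ⊤ (top_le_preimage y hy) h) = ⊤ := Scheme.basicOpen_of_isUnit _ hu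
    rw [Scheme.basicOpen_appLE, top_inf_eq] at h2
    exact (h2.ge trivial : cpt ∈ y.1 ⁻¹ᵁ X.basicOpen h)

/-- A polynomial chart centred at `x`: an affine open with generators vanishing at `x`. -/
structure Chart (x : Pts X) where
  /-- the number of coordinates -/
  N : ℕ
  /-- the open set -/
  U : X.Opens
  hU : IsAffineOpen U
  mem : x.pt ∈ U
  /-- the generators -/
  s : Fin N → Γ(X, U)
  surj : Function.Surjective (eval₂Hom (strU U) s)
  center : ∀ i, x.ev U mem (s i) = 0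

theorem nonempty_chart [LocallyOfFiniteType (X ↘ SC)] (x : Pts X) : Nonempty (Chart x) := by
  obtain ⟨U, hU, hx⟩ := AnPts.exists_affine_nhd x.pt
  letI : Algebra ℂ Γ(X, U) := (strU U).toAlgebra
  have h : (strU U).FiniteType := by
    have h1 : ((X ↘ SC).appLE ⊤ U le_top).hom.FiniteType :=
      (X ↘ SC).finiteType_appLE (isAffineOpen_top SC) hU le_top
    exact h1.comp (RingHom.FiniteType.of_surjective _
      (Scheme.ΓSpecIso (CommRingCat.of ℂ)).commRingCatIsoToRingEquiv.symm.surjective)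
  haveI : Algebra.FiniteType ℂ Γ(X, U) := h
  obtain ⟨n, f, hf⟩ := Algebra.FiniteType.iff_quotient_mvPolynomial''.1 this
  let t : Fin n → ℂ := fun i => x.ev U hx (f (MvPolynomial.X i))
  let s : Fin n → Γ(X, U) := fun i => f (MvPolynomial.X i) - strU U (t i)
  refine ⟨⟨n, U, hU, hx, s, fun a => ?_, fun i => ?_⟩⟩
  · obtain ⟨p, rfl⟩ := hf a
    refine ⟨aeval (fun i => MvPolynomial.X i + MvPolynomial.C (t i)) p, ?_⟩
    have : (eval₂Hom (strU U) s).comp (aeval fun i => (MvPolynomial.X i + MvPolynomial.C (t i) : MvPolynomial (Fin n) ℂ)).toRingHom =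
        f.toRingHom :=
      MvPolynomial.ringHom_ext (fun c => by simp; rfl) fun i => by simp [s]
    exact RingHom.congr_fun this p
  · show AnPts.evHom x U hx _ = 0
    rw [map_sub, AnPts.evHom_apply, AnPts.evHom_apply, ev_strU, sub_self]

variable {x : Pts X} (c : Chart x)

namespace Chart

/-- The map from polynomials to functions on the chart. -/
def φ : MvPolynomial (Fin c.N) ℂ →+* Γ(X, c.U) := eval₂Hom (strU c.U) c.s

/-- The ideal of relations. -/
def I : Ideal (MvPolynomial (Fin c.N) ℂ) := RingHom.ker c.φ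

theorem isRadical_I [IsReduced X] : c.I.IsRadical := fun p ⟨k, hk⟩ => by
  rw [I, RingHom.mem_ker, map_pow] at hk
  exact RingHom.mem_ker.2 (IsNilpotent.eq_zero ⟨k, hk⟩)

/-- The coordinates. -/
def coord (y : Pts X) : Fin c.N → ℂ := fun i =>
  open Classical in if h : y.pt ∈ c.U then y.ev c.U h (c.s i) else 0

theorem coord_apply {y : Pts X} (h : y.pt ∈ c.U) (i : Fin c.N) : c.coord y i = y.ev c.U h (c.s i) := dif_pos h

theorem ev_φ {y : Pts X} (h : y.pt ∈ c.U) (p : MvPolynomial (Fin c.N) ℂ) :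
    y.ev c.U h (c.φ p) = eval (c.coord y) p := by
  have : (AnPts.evHom y c.U h).comp c.φ = eval (c.coord y) :=
    MvPolynomial.ringHom_ext (fun a => by simpa [φ, AnPts.evHom_apply] using ev_strU y c.U h a)
      fun i => by simp [φ, AnPts.evHom_apply, c.coord_apply h]
  exact RingHom.congr_fun this p

theorem coord_self : c.coord x = 0 := _root_.funext fun i => (c.coord_apply c.mem i).trans (c.center i)

theorem eval_eq_zero {y : Pts X} (h : y.pt ∈ c.U) {p : MvPolynomial (Fin c.N) ℂ} (hp : p ∈ c.I) :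
    eval (c.coord y) p = 0 := by
  rw [← c.ev_φ h, RingHom.mem_ker.1 hp, An.ev_zero]

theorem exists_pts (t : Fin c.N → ℂ) (ht : ∀ p ∈ c.I, eval t p = 0) :
    ∃ y : Pts X, y.pt ∈ c.U ∧ c.coord y = t := by
  let ψ : Γ(X, c.U) →+* ℂ := (eval₂Hom (strU c.U) c.s).liftOfSurjective c.surj
    ⟨eval t, fun p hp => ht p hp⟩
  have hψ : ∀ p, ψ (c.φ p) = eval t p := fun p => RingHom.liftOfRightInverse_comp_apply _ _ _ _ p
  let x₀ : SC ⟶ X := Spec.map (CommRingCat.ofHom ψ) ≫ c.hU.fromSpec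
  have hmem : x₀ cpt ∈ c.U := by
    have : Set.range c.hU.fromSpec = c.U := c.hU.range_fromSpec
    exact this.le ⟨_, rfl⟩
  have hle : (⊤ : SC.Opens) ≤ x₀ ⁻¹ᵁ c.U := fun p _ => by
    show x₀ p ∈ c.U
    rw [eq_cpt p]; exact hmem
  have happ : x₀.appLE c.U ⊤ hle = CommRingCat.ofHom ψ ≫ (Scheme.ΓSpecIso (CommRingCat.of ℂ)).inv := by
    rw [← Scheme.Hom.appLE_comp_appLE (Spec.map (CommRingCat.ofHom ψ)) c.hU.fromSpec c.U ⊤ ⊤
      (c.hU.fromSpec_preimage_self.ge) le_top]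
    have e : c.hU.fromSpec.appLE c.U ⊤ c.hU.fromSpec_preimage_self.ge = (Scheme.ΓSpecIso Γ(X, c.U)).inv := by
      simp [Scheme.Hom.appLE, c.hU.fromSpec_app_self, ← Functor.map_comp]
    rw [e, Scheme.ΓSpecIso_inv_naturality]
    rfl
  have hψc : ∀ a, ψ (strU c.U a) = a := fun a => by simpa [φ] using hψ (MvPolynomial.C a)
  have hx : x₀ ≫ (X ↘ SC) = 𝟙 SC := by
    refine ext_of_isAffine ?_
    have h : (x₀ ≫ (X ↘ SC)).appLE ⊤ ⊤ le_top = 𝟙 _ := by
      rw [← Scheme.Hom.appLE_comp_appLE x₀ (X ↘ SC) ⊤ c.U ⊤ le_top hle, happ,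
        ← cancel_mono (Scheme.ΓSpecIso (CommRingCat.of ℂ)).hom, Category.assoc, Category.assoc,
        Iso.inv_hom_id, Category.comp_id, ← cancel_epi (Scheme.ΓSpecIso (CommRingCat.of ℂ)).inv]
      ext a
      refine (hψc a).trans ?_
      simp [← CategoryTheory.comp_apply]
    simpa [Scheme.Hom.appLE] using h
  let y : Pts X := ⟨x₀, hx⟩
  refine ⟨y, hmem, _root_.funext fun i => ?_⟩
  rw [c.coord_apply (y := y) hmem]
  show (x₀.appLE c.U ⊤ hle ≫ (Scheme.ΓSpecIso (CommRingCat.of ℂ)).hom) (c.s i) = t i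
  rw [happ, Category.assoc, Iso.inv_hom_id, Category.comp_id]
  simpa [φ] using hψ (MvPolynomial.X i)

theorem exists_rational {W : X.Opens} (f : Γ(X, W)) (hx : x.pt ∈ W) :
    ∃ (G : holFun c.N) (r : ℝ), 0 < r ∧ ∀ y : Pts X, y.pt ∈ c.U → ‖c.coord y‖ < r →
      ∃ hy : y.pt ∈ W, y.ev W hy f = G.1 (c.coord y) := by
  obtain ⟨V, hVW, hVU, hxV⟩ : ∃ V : X.Opens, V ≤ W ∧ V ≤ c.U ∧ x.pt ∈ V :=
    ⟨W ⊓ c.U, inf_le_left, inf_le_right, hx, c.mem⟩
  obtain ⟨h, hhV, hxh⟩ := c.hU.exists_basicOpen_le ⟨x.pt, hxV⟩ c.mem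
  haveI := c.hU.isLocalization_basicOpen h
  obtain ⟨k, a, e⟩ := IsLocalization.Away.surj h (X.presheaf.map (homOfLE (hhV.trans hVW)).op f)
  rw [RingHom.algebraMap_toAlgebra] at e
  obtain ⟨pa, hpa⟩ := c.surj a
  obtain ⟨ph, hph⟩ := c.surj h
  change c.φ pa = a at hpa
  change c.φ ph = h at hph
  have h0 : eval 0 ph ≠ 0 := by
    rw [← c.coord_self, ← c.ev_φ c.mem, hph]
    exact (pt_mem_basicOpen_iff x c.U c.mem h).1 hxh
  have hne : ∀ᶠ z in 𝓝 (0 : Fin c.N → ℂ), eval z ph ≠ 0 :=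
    (MvPolynomial.continuous_eval ph).continuousAt.eventually_ne h0
  obtain ⟨r, hr, hball⟩ := Metric.eventually_nhds_iff_ball.1 hne
  have hG : (fun z => eval z pa / eval z ph ^ k) ∈ holFun c.N :=
    hne.mono fun z hz => by
      simp only [div_eq_mul_inv]
      exact ((differentiable_eval pa) z).mul ((((differentiable_eval ph) z).pow k).inv (pow_ne_zero _ hz))
  refine ⟨⟨_, hG⟩, r, hr, fun y hyU hy => ?_⟩
  have hy0 : eval (c.coord y) ph ≠ 0 := hball _ (mem_ball_zero_iff.2 hy)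
  have hyh : y.pt ∈ X.basicOpen h := by
    rw [pt_mem_basicOpen_iff y c.U hyU h, ← hph, c.ev_φ hyU]; exact hy0
  refine ⟨hVW (hhV hyh), ?_⟩
  have e' := congrArg (AnPts.evHom y (X.basicOpen h) hyh) e
  rw [map_mul, map_pow, AnPts.evHom_apply, AnPts.evHom_apply, AnPts.evHom_apply, AnPts.ev_res] at e'
  change y.ev W _ f * (y.ev _ hyh (X.presheaf.map (homOfLE (X.basicOpen_le h)).op h)) ^ k =
    y.ev _ hyh (X.presheaf.map (homOfLE (X.basicOpen_le h)).op a) at e'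
  rw [AnPts.ev_res, AnPts.ev_res] at e'
  show _ = eval (c.coord y) pa / eval (c.coord y) ph ^ k
  rw [← c.ev_φ hyU, ← c.ev_φ hyU, hpa, hph, eq_div_iff
    (pow_ne_zero _ ((pt_mem_basicOpen_iff y c.U hyU h).1 hyh))]
  exact e'

theorem continuousAt_coord : Tendsto c.coord (𝓝 x) (𝓝 0) := by
  rw [← c.coord_self, tendsto_pi_nhds]
  refine fun i => continuousAt_def.2 fun V hV => ?_
  obtain ⟨V', hV', hVo, hmemV⟩ := _root_.mem_nhds_iff.1 hV
  refine mem_of_superset ((isOpen_basicSet c.U (c.s i) hVo).mem_nhds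
    ⟨c.mem, by rwa [← c.coord_apply c.mem]⟩) fun y ⟨hy, hyV⟩ => hV' ?_
  show c.coord y i ∈ V'; rw [c.coord_apply hy]; exact hyV

theorem exists_ball_subset {O : Set (Pts X)} (hO : O ∈ 𝓝 x) :
    ∃ r > 0, ∀ y : Pts X, y.pt ∈ c.U → ‖c.coord y‖ < r → y ∈ O := by
  obtain ⟨O', hO', ho, hxO⟩ := _root_.mem_nhds_iff.1 hO
  suffices ∀ O : Set (Pts X), IsOpen O → x ∈ O → ∃ r > 0, ∀ y : Pts X, y.pt ∈ c.U → ‖c.coord y‖ < r → y ∈ O by
    obtain ⟨r, hr, h⟩ := this O' ho hxO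
    exact ⟨r, hr, fun y h1 h2 => hO' (h y h1 h2)⟩
  intro O ho
  induction ho with
  | basic S hS =>
    obtain ⟨W, f, V, hV, rfl⟩ := hS
    rintro ⟨hxW, hxV⟩
    obtain ⟨G, r, hr, h⟩ := c.exists_rational f hxW
    obtain ⟨_, hG⟩ := h x c.mem (by rw [c.coord_self, norm_zero]; exact hr)
    rw [c.coord_self] at hG
    have hc : ContinuousAt G.1 0 := G.2.self_of_nhds.continuousAt
    obtain ⟨r', hr', hball⟩ := Metric.mem_nhds_iff.1 (hc.preimage_mem_nhds (hV.mem_nhds (hG ▸ hxV)))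
    refine ⟨min r r', lt_min hr hr', fun y hy hyr => ?_⟩
    obtain ⟨hyW, e⟩ := h y hy (hyr.trans_le (min_le_left _ _))
    exact ⟨hyW, e ▸ hball (mem_ball_zero_iff.2 (hyr.trans_le (min_le_right _ _)))⟩
  | univ => exact fun _ => ⟨1, one_pos, fun _ _ _ => trivial⟩
  | inter S T _ _ ihS ihT =>
    rintro ⟨hS, hT⟩
    obtain ⟨r, hr, h⟩ := ihS hS
    obtain ⟨r', hr', h'⟩ := ihT hT
    exact ⟨min r r', lt_min hr hr', fun y hy hyr =>
      ⟨h y hy (hyr.trans_le (min_le_left _ _)), h' y hy (hyr.trans_le (min_le_right _ _))⟩⟩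
  | sUnion S _ ih =>
    rintro ⟨T, hT, hxT⟩
    obtain ⟨r, hr, h⟩ := ih T hT hxT
    exact ⟨r, hr, fun y hy hyr => ⟨T, hT, h y hy hyr⟩⟩

end Chart

end Groth.Agent.AnLocal
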