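import Groth.Agent.AnLocal.Stalk
import Mathlib.AlgebraicGeometry.Noetherian
import Mathlib.AlgebraicGeometry.Morphisms.FiniteType
import Mathlib.RingTheory.Ideal.Maps

/-!
The map from the algebraic to the analytic local ring: flat, unramified with trivial residue extension,
bijective modulo every power of the maximal ideal.
-/

open AlgebraicGeometry CategoryTheory TopologicalSpace Filter Topology MvPolynomial

noncomputable section

namespace Groth.Agent.AnLocal

open An An.Pts

theorem mem_idealOfVars_iff {N : ℕ} (p : MvPolynomial (Fin N) ℂ) :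
    p ∈ idealOfVars (Fin N) ℂ ↔ eval 0 p = 0 := by
  rw [← pow_one (idealOfVars (Fin N) ℂ), mem_pow_idealOfVars_iff', eval_zero]
  refine ⟨fun h => h 0 (by simp), fun h d hd => ?_⟩
  rw [Nat.lt_one_iff, Finsupp.degree_eq_zero_iff] at hd
  rwa [hd, ← constantCoeff_eq]

theorem exists_sub_mem_of_mem_map {N : ℕ} (J : Ideal (MvPolynomial (Fin N) ℂ)) (n : ℕ) {g : O N}
    (hg : g ∈ J.map (polyHom N)) :
    ∃ i ∈ J, g - polyHom N i ∈ IsLocalRing.maximalIdeal (O N) ^ n := by
  induction hg using Submodule.span_induction with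
  | mem g hg => obtain ⟨i, hi, rfl⟩ := hg; exact ⟨i, hi, by simp⟩
  | zero => exact ⟨0, zero_mem _, by simp⟩
  | add a b _ _ ha hb =>
    obtain ⟨i, hi, h⟩ := ha
    obtain ⟨j, hj, h'⟩ := hb
    refine ⟨i + j, add_mem hi hj, ?_⟩
    rw [map_add, add_sub_add_comm]; exact add_mem h h'
  | smul r a _ ha =>
    obtain ⟨i, hi, h⟩ := ha
    obtain ⟨q, hq⟩ := exists_poly_sub_mem N r n
    refine ⟨q * i, J.mul_mem_left q hi, ?_⟩
    rw [smul_eq_mul, map_mul, show r * a - polyHom N q * polyHom N i =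
      r * (a - polyHom N i) + (r - polyHom N q) * polyHom N i by ring]
    exact add_mem (Ideal.mul_mem_left _ _ h) (Ideal.mul_mem_right _ _ hq)

variable {X : Scheme.{0}} [X.Over SC]

theorem isNoetherianRing_stalk [LocallyOfFiniteType (X ↘ SC)] (p : X) :
    IsNoetherianRing (X.presheaf.stalk p) := by
  haveI : IsLocallyNoetherian X := LocallyOfFiniteType.isLocallyNoetherian (X ↘ SC)
  infer_instance

variable (x : Pts X)

/-- The map from the algebraic to the analytic local ring. -/
abbrev ψ : X.presheaf.stalk x.pt →+* (anSpace X).presheaf.stalk x :=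
  (PresheafedSpace.Hom.stalkMap (anToScheme X) x).hom

instance nontrivial_anStalk : Nontrivial ((anSpace X).presheaf.stalk x) := (val x).domain_nontrivial

variable {x} (c : Chart x)

theorem Chart.map_idealOfVars_α :
    (idealOfVars (Fin c.N) ℂ).map c.α = IsLocalRing.maximalIdeal (X.presheaf.stalk x.pt) := by
  refine le_antisymm (Ideal.map_le_iff_le_comap.2 fun p hp => ?_) fun a ha => ?_
  · rw [Ideal.mem_comap, IsLocalRing.mem_maximalIdeal, mem_nonunits_iff, c.isUnit_α_iff, not_not]
    exact (mem_idealOfVars_iff p).1 hp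
  · obtain ⟨p, h, hh, he⟩ := c.exists_α_eq a
    rw [IsLocalRing.mem_maximalIdeal, mem_nonunits_iff] at ha
    have hp : eval 0 p = 0 := by
      by_contra hp
      have := (c.isUnit_α_iff p).2 hp
      rw [← he] at this
      exact ha (IsUnit.mul_iff.1 this).1
    have hu := (c.isUnit_α_iff h).2 hh
    rw [← Ideal.mul_unit_mem_iff_mem _ hu, he]
    exact Ideal.mem_map_of_mem _ ((mem_idealOfVars_iff p).2 hp)

variable (x) [LocallyOfFiniteType (X ↘ SC)]

instance isLocalRing_anStalk : IsLocalRing ((anSpace X).presheaf.stalk x) :=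
  IsLocalRing.of_surjective' (nonempty_chart x).some.E (nonempty_chart x).some.E_surjective

instance isNoetherianRing_anStalk : IsNoetherianRing ((anSpace X).presheaf.stalk x) :=
  isNoetherianRing_of_surjective _ _ (nonempty_chart x).some.E (nonempty_chart x).some.E_surjective

theorem map_maximalIdeal : (IsLocalRing.maximalIdeal (X.presheaf.stalk x.pt)).map (ψ x) =
    IsLocalRing.maximalIdeal ((anSpace X).presheaf.stalk x) := by
  obtain ⟨c⟩ := nonempty_chart x
  haveI : IsLocalHom c.E := c.E_surjective.isLocalHom c.E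
  have h : IsLocalRing.maximalIdeal ((anSpace X).presheaf.stalk x) = (IsLocalRing.maximalIdeal (O c.N)).map c.E := by
    refine le_antisymm (fun b hb => ?_) (Ideal.map_le_iff_le_comap.2 fun a ha => ?_)
    · obtain ⟨g, rfl⟩ := c.E_surjective b
      exact Ideal.mem_map_of_mem _ ((IsLocalRing.mem_maximalIdeal _).2 fun hu => (IsLocalRing.mem_maximalIdeal _).1 hb (hu.map c.E))
    · rw [Ideal.mem_comap, IsLocalRing.mem_maximalIdeal, mem_nonunits_iff, isUnit_map_iff]
      exact (IsLocalRing.mem_maximalIdeal _).1 ha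
  rw [h, ← c.map_idealOfVars_α, ← map_idealOfVars, Ideal.map_map, Ideal.map_map]
  congr 1
  exact RingHom.ext fun p => (c.E_polyHom p).symm

instance isLocalHom_ψ : IsLocalHom (ψ x) :=
  ((IsLocalRing.local_hom_TFAE (ψ x)).out 0 2).2 (map_maximalIdeal x).le

theorem exists_sub_mem (b : (anSpace X).presheaf.stalk x) (n : ℕ) :
    ∃ a, b - ψ x a ∈ IsLocalRing.maximalIdeal ((anSpace X).presheaf.stalk x) ^ n := by
  obtain ⟨c⟩ := nonempty_chart x
  obtain ⟨g, rfl⟩ := c.E_surjective b
  obtain ⟨p, hp⟩ := exists_poly_sub_mem c.N g n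
  refine ⟨c.α p, ?_⟩
  have hmap := Ideal.mem_map_of_mem c.E hp
  rw [map_sub, c.E_polyHom, Ideal.map_pow] at hmap
  refine Ideal.pow_right_mono ?_ n hmap
  refine Ideal.map_le_iff_le_comap.2 fun a ha => ?_
  rw [Ideal.mem_comap, IsLocalRing.mem_maximalIdeal, mem_nonunits_iff]
  haveI : IsLocalHom c.E := c.E_surjective.isLocalHom c.E
  exact fun h => (IsLocalRing.mem_maximalIdeal _).1 ha ((isUnit_map_iff c.E a).1 h)

variable [IsReduced X]

theorem mem_pow_of_map_mem {a : X.presheaf.stalk x.pt} {n : ℕ}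
    (h : ψ x a ∈ IsLocalRing.maximalIdeal ((anSpace X).presheaf.stalk x) ^ n) :
    a ∈ IsLocalRing.maximalIdeal (X.presheaf.stalk x.pt) ^ n := by
  obtain ⟨c⟩ := nonempty_chart x
  obtain ⟨p, q, hq, he⟩ := c.exists_α_eq a
  have hu := (c.isUnit_α_iff q).2 hq
  rw [← Ideal.mul_unit_mem_iff_mem _ hu, he]
  have h1 : c.E (polyHom c.N p) ∈ ((IsLocalRing.maximalIdeal (O c.N)) ^ n).map c.E := by
    rw [c.E_polyHom, ← he]
    show ψ x (a * c.α q) ∈ _
    rw [map_mul, ← map_idealOfVars, ← Ideal.map_pow, Ideal.map_map,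
      show c.E.comp (polyHom c.N) = (ψ x).comp c.α from RingHom.ext c.E_polyHom, ← Ideal.map_map, Ideal.map_pow,
      c.map_idealOfVars_α, Ideal.map_pow, map_maximalIdeal]
    exact Ideal.mul_mem_right _ _ h
  rw [← Ideal.mem_comap, Ideal.comap_map_of_surjective' c.E c.E_surjective, c.ker_E, Submodule.mem_sup] at h1
  obtain ⟨u, hu', v, hv, huv⟩ := h1
  obtain ⟨i, hi, hiv⟩ := exists_sub_mem_of_mem_map c.I n hv
  have h2 : polyHom c.N (p - i) ∈ IsLocalRing.maximalIdeal (O c.N) ^ n := by
    rw [map_sub, ← huv, add_sub_assoc]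
    exact add_mem hu' hiv
  have h3 := Ideal.mem_map_of_mem c.α (mem_pow_of_polyHom_mem c.N h2)
  rwa [Ideal.map_pow, c.map_idealOfVars_α, map_sub,
    show c.α i = 0 by rw [Chart.α, RingHom.comp_apply, RingHom.mem_ker.1 hi, map_zero], sub_zero] at h3

theorem flat_ψ : (ψ x).Flat := by
  haveI := isNoetherianRing_stalk (X := X) x.pt
  algebraize [ψ x]
  refine LocalCrit.flat_of_forall_quotient_pow (B := (anSpace X).presheaf.stalk x)
    (IsLocalRing.maximalIdeal (X.presheaf.stalk x.pt)) ?_ fun n =>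
    LocalCrit.keepsInjective_of_bijective_mod (C := X.presheaf.stalk x.pt) _
      (Algebra.ofId _ ((anSpace X).presheaf.stalk x)) (fun b => ?_) fun a ha => ?_
  · show (IsLocalRing.maximalIdeal _).map (ψ x) ≤ _
    rw [map_maximalIdeal]
    exact IsLocalRing.maximalIdeal_le_jacobson _
  · obtain ⟨a, ha⟩ := exists_sub_mem x b n
    refine ⟨a, ?_⟩
    show b - ψ x a ∈ Ideal.map (ψ x) _
    rw [Ideal.map_pow, map_maximalIdeal]
    exact ha
  · rw [Algebra.algebraMap_self, Ideal.map_id]
    change ψ x a ∈ Ideal.map (ψ x) _ at ha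
    rw [Ideal.map_pow, map_maximalIdeal] at ha
    exact mem_pow_of_map_mem x ha

end Groth.Agent.AnLocal
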