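import Groth.Agent.AnLocal.Compare
import Mathlib.RingTheory.Henselian
import Mathlib.Algebra.Polynomial.Lifts
import Mathlib.Analysis.Calculus.Deriv.Polynomial
import Mathlib.Analysis.Calculus.Deriv.Mul
import Mathlib.Analysis.Calculus.Deriv.Comp

/-!
The rings of germs of holomorphic functions, hence the analytic local rings, are henselian: a simple
root is found by dividing by the equation.
-/

open Metric Filter Topology Set Polynomial IsLocalRing

noncomputable section

namespace Groth.Agent.AnLocal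

variable {n : ℕ}

theorem continuous_axis : Continuous (axis (n := n)) :=
  continuous_const.update 0 continuous_id

theorem axis_zero : axis (n := n) 0 = 0 := Function.update_eq_self (0 : Fin (n + 1)) (0 : Fin (n + 1) → ℂ)

/-- Restriction of a germ to the axis of the first coordinate. -/
def toAxis (n : ℕ) : O (n + 1) →+* Germ (𝓝 (0 : ℂ)) ℂ where
  toFun g := g.1.compTendsto axis (by simpa only [axis_zero] using (continuous_axis (n := n)).tendsto 0)
  map_one' := rfl
  map_mul' g h := by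
    obtain ⟨g, rfl⟩ := AnLocal.mk_surjective g
    obtain ⟨h, rfl⟩ := AnLocal.mk_surjective h
    rfl
  map_zero' := rfl
  map_add' g h := by
    obtain ⟨g, rfl⟩ := AnLocal.mk_surjective g
    obtain ⟨h, rfl⟩ := AnLocal.mk_surjective h
    rfl

theorem toAxis_mk (f : holFun (n + 1)) :
    toAxis n (AnLocal.mk _ f) = ((fun t : ℂ => f.1 (axis t) : ℂ → ℂ) : Germ (𝓝 (0 : ℂ)) ℂ) := rfl

theorem toAxis_X0 : toAxis n (AnLocal.X 0) = ((id : ℂ → ℂ) : Germ (𝓝 (0 : ℂ)) ℂ) := by
  rw [AnLocal.X, toAxis_mk]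
  exact congrArg (fun h : ℂ → ℂ => (h : Germ (𝓝 (0 : ℂ)) ℂ)) (_root_.funext fun t => by
    show axis (n := n) t 0 = t
    exact Function.update_self _ _ _)

theorem toAxis_tailMap (a : O n) :
    toAxis n (tailMap n a) = ((fun _ => ev0 n a : ℂ → ℂ) : Germ (𝓝 (0 : ℂ)) ℂ) := by
  obtain ⟨f, rfl⟩ := AnLocal.mk_surjective a
  rw [tailMap, comap_mk, toAxis_mk]
  refine congrArg (fun h : ℂ → ℂ => (h : Germ (𝓝 (0 : ℂ)) ℂ)) (_root_.funext fun t => ?_)
  show f.1 (Fin.tail (axis t)) = f.1 0
  refine congrArg f.1 (_root_.funext fun i => ?_)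
  exact Function.update_of_ne (Fin.succ_ne_zero i) t (0 : Fin (n + 1) → ℂ)

theorem exists_root (f : (O n)[X]) (a₀ : O n) (h0 : f.eval a₀ ∈ maximalIdeal (O n))
    (h1 : IsUnit (f.derivative.eval a₀)) : ∃ a, f.IsRoot a ∧ a - a₀ ∈ maximalIdeal (O n) := by
  set F : O (n + 1) := (f.map (tailMap n)).eval (AnLocal.X 0 + tailMap n a₀) with hF
  set P : ℂ[X] := f.map (ev0 n) with hP
  set e := ev0 n a₀ with he
  obtain ⟨FF, hFF⟩ := AnLocal.mk_surjective F
  have hP0 : P.eval e = 0 := by
    rw [hP, eval_map, he, Polynomial.eval₂_at_apply]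
    exact (mem_maximalIdeal_iff _).1 h0
  have hP1 : P.derivative.eval e ≠ 0 := by
    rw [hP, derivative_map, eval_map, he, Polynomial.eval₂_at_apply]
    exact (isUnit_iff _).1 h1
  have haxis : (fun t : ℂ => FF.1 (axis t)) =ᶠ[𝓝 0] fun t => P.eval (t + e) := by
    refine Germ.coe_eq.1 ?_
    rw [← toAxis_mk, hFF, hF, eval_map, hom_eval₂, map_add, toAxis_X0, toAxis_tailMap]
    let cst : ℂ →+* Germ (𝓝 (0 : ℂ)) ℂ := (Germ.coeRingHom _).comp (Pi.constRingHom ℂ ℂ)
    have hc : (toAxis n).comp (tailMap n) = cst.comp (ev0 n) := RingHom.ext fun a => toAxis_tailMap a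
    rw [hc, ← eval₂_map]
    show P.eval₂ cst ((Germ.coeRingHom _) (fun t : ℂ => t + e)) = _
    rw [← hom_eval₂]
    refine congrArg (Germ.coeRingHom _) (_root_.funext fun t => ?_)
    have := hom_eval₂ P (Pi.constRingHom ℂ ℂ) (Pi.evalRingHom (fun _ : ℂ => ℂ) t) (fun s : ℂ => s + e)
    exact this
  have hD : HasDerivAt (fun t : ℂ => FF.1 (axis t)) (P.derivative.eval e) 0 := by
    refine HasDerivAt.congr_of_eventuallyEq ?_ haxis
    have := (P.hasDerivAt (0 + e)).comp 0 ((hasDerivAt_id (0 : ℂ)).add_const e)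
    simpa [Function.comp_def] using this
  have hFF0 : FF.1 0 = 0 := by
    have := haxis.self_of_nhds
    simpa [axis_zero, hP0] using this
  have hreg : IsRegular FF.1 1 := by
    refine ⟨?_, fun j hj => by rw [Nat.lt_one_iff.1 hj]; exact hFF0⟩
    rw [← axis_zero, iterate_D_axis]
    show dslope (fun s => FF.1 (axis s)) 0 0 ≠ 0
    rw [dslope_same, hD.deriv]
    exact hP1
  obtain ⟨q, a, hdiv⟩ := exists_division FF hreg (AnLocal.X 0)
  simp only [Finset.range_one, Finset.sum_singleton, pow_zero, one_mul, hFF] at hdiv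
  obtain ⟨qq, hqq⟩ := AnLocal.mk_surjective q
  -- restrict the division to the axis
  have hax : (id : ℂ → ℂ) =ᶠ[𝓝 0] fun t => qq.1 (axis t) * FF.1 (axis t) + ev0 n (a 0) := by
    refine Germ.coe_eq.1 ?_
    have := congrArg (toAxis n) hdiv
    rw [map_add, map_mul, toAxis_X0, toAxis_tailMap, ← hqq, ← hFF, toAxis_mk, toAxis_mk] at this
    exact this
  have ha : ev0 n (a 0) = 0 := by
    have := hax.self_of_nhds
    simpa [axis_zero, hFF0] using this.symm
  have hq : qq.1 0 ≠ 0 := by
    intro hq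
    have hqd : DifferentiableAt ℂ (fun t : ℂ => qq.1 (axis t)) 0 := by
      have h : DifferentiableAt ℂ qq.1 (axis (0 : ℂ)) := by rw [axis_zero]; exact qq.2.self_of_nhds
      refine h.comp 0 (differentiableAt_pi.2 fun i => ?_)
      by_cases hi : i = 0
      · subst hi; simp [axis]
      · simp [axis, hi]
    have h2 := (hqd.hasDerivAt.mul hD).add_const (ev0 n (a 0))
    rw [axis_zero, hq, hFF0, mul_zero, zero_mul, add_zero] at h2
    have h3 := h2.congr_of_eventuallyEq hax
    exact one_ne_zero ((hasDerivAt_id (0 : ℂ)).unique h3)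
  -- substitute
  obtain ⟨A, hA⟩ := AnLocal.mk_surjective (a 0)
  have hA0 : A.1 0 = 0 := by rw [← ev0_mk, hA]; exact ha
  have hσ0 : (fun z : Fin n → ℂ => (Fin.cons (A.1 z) z : Fin (n + 1) → ℂ)) (0 : Fin n → ℂ) = 0 := by
    refine _root_.funext fun i => Fin.cases ?_ (fun j => ?_) i <;> simp [hA0]
  have hσd : ∀ᶠ z in 𝓝 (0 : Fin n → ℂ),
      DifferentiableAt ℂ (fun z : Fin n → ℂ => (Fin.cons (A.1 z) z : Fin (n + 1) → ℂ)) z := by
    filter_upwards [A.2] with z hz
    refine differentiableAt_pi.2 fun i => ?_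
    refine Fin.cases ?_ (fun j => ?_) i
    · simpa using hz
    · simpa using (differentiable_apply (𝕜 := ℂ) (F' := fun _ : Fin n => ℂ) j).differentiableAt
  let σ : O (n + 1) →+* O n := comap (fun z : Fin n → ℂ => (Fin.cons (A.1 z) z : Fin (n + 1) → ℂ)) hσ0 hσd
  have hσt : σ.comp (tailMap n) = RingHom.id (O n) := by
    refine RingHom.ext fun g => ?_
    obtain ⟨g, rfl⟩ := AnLocal.mk_surjective g
    rw [RingHom.comp_apply, tailMap, comap_mk, comap_mk]
    exact mk_eq_mk.2 (Eventually.of_forall fun z => congrArg g.1 (Fin.tail_cons (α := fun _ => ℂ) (A.1 z) z))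
  have hσX : σ (AnLocal.X 0) = a 0 := by
    rw [AnLocal.X, comap_mk, ← hA]
    exact mk_eq_mk.2 (Eventually.of_forall fun z => rfl)
  have hσF : σ F = f.eval (a 0 + a₀) := by
    have h' : σ (tailMap n a₀) = a₀ := RingHom.congr_fun hσt a₀
    rw [hF, eval_map, hom_eval₂, hσt, map_add, hσX, h', eval₂_id]
  have hu : IsUnit (σ q) := by
    rw [← hqq, comap_mk, isUnit_iff, ev0_mk]
    exact fun h => hq ((congrArg qq.1 hσ0).symm.trans h)
  have key : σ q * σ F = 0 := by
    have := congrArg σ hdiv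
    rw [map_add, map_mul, hσX, ← RingHom.comp_apply σ (tailMap n), hσt, RingHom.id_apply] at this
    exact left_eq_add.1 (this.trans (add_comm _ _))
  refine ⟨a 0 + a₀, ?_, ?_⟩
  · rw [IsRoot.def, ← hσF]
    exact (hu.mul_right_eq_zero).1 key
  · rw [add_sub_cancel_right, mem_maximalIdeal_iff]
    exact ha

instance henselianLocalRing_O (n : ℕ) : HenselianLocalRing (O n) where
  is_henselian f _ a₀ h0 h1 := exists_root f a₀ h0 h1

theorem henselianLocalRing_of_surjective' {A B : Type*} [CommRing A] [CommRing B] [HenselianLocalRing A]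
    [IsLocalRing B] (π : A →+* B) (hπ : Function.Surjective π) : HenselianLocalRing B := by
  haveI : IsLocalHom π := hπ.isLocalHom π
  refine { is_henselian := fun f hf b₀ h0 h1 => ?_ }
  obtain ⟨F, hF, -, hFm⟩ := lifts_and_natDegree_eq_and_monic ((mem_lifts f).2 (map_surjective π hπ f)) hf
  obtain ⟨a₀, rfl⟩ := hπ b₀
  rw [← hF, eval_map, eval₂_at_apply] at h0
  rw [← hF, derivative_map, eval_map, eval₂_at_apply] at h1
  obtain ⟨a, ha, ha'⟩ := HenselianLocalRing.is_henselian F hFm a₀
    (by rw [mem_maximalIdeal, mem_nonunits_iff] at h0 ⊢; exact fun h => h0 (h.map π))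
    ((isUnit_map_iff π _).1 h1)
  refine ⟨π a, ?_, ?_⟩
  · rw [IsRoot.def, ← hF, eval_map, eval₂_at_apply, ha.eq_zero, map_zero]
  · rw [← map_sub, mem_maximalIdeal, mem_nonunits_iff, isUnit_map_iff]
    exact ha'

open An An.Pts AlgebraicGeometry in
theorem henselianLocalRing_anStalk {X : Scheme.{0}} [X.Over SC] [LocallyOfFiniteType (X ↘ SC)] (x : Pts X) :
    HenselianLocalRing ((anSpace X).presheaf.stalk x) :=
  henselianLocalRing_of_surjective' (nonempty_chart x).some.E (nonempty_chart x).some.E_surjective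

end Groth.Agent.AnLocal
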