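import Groth.Agent.AnPts.Basic
import Mathlib.AlgebraicGeometry.Morphisms.Flat

/-!
Flatness of a morphism of schemes locally of finite type over `ℂ` is checked at the `ℂ`-points.
-/

open AlgebraicGeometry CategoryTheory TopologicalSpace

noncomputable section

namespace Groth.Agent.AnLocal

open An An.Pts

variable {X Y : Scheme.{0}} [X.Over SC] [LocallyOfFiniteType (X ↘ SC)]

theorem exists_pts_maximal {V : X.Opens} (hV : IsAffineOpen V) (P : Ideal Γ(X, V)) [hP : P.IsMaximal] :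
    ∃ x : Pts X, x.pt = hV.fromSpec (⟨P, hP.isPrime⟩ : PrimeSpectrum Γ(X, V)) := by
  set y : Spec Γ(X, V) := (⟨P, hP.isPrime⟩ : PrimeSpectrum Γ(X, V)) with hy
  have hc : IsClosed ({y} : Set (Spec Γ(X, V))) := (PrimeSpectrum.isClosed_singleton_iff_isMaximal _).2 hP
  have h1 : IsLocallyClosed (hV.fromSpec '' {y}) :=
    hc.isLocallyClosed.image hV.fromSpec.isOpenEmbedding.isInducing
      hV.fromSpec.isOpenEmbedding.isOpen_range.isLocallyClosed
  obtain ⟨x, hx⟩ := AnPts.exists_pt_mem h1 (Set.image_nonempty.2 (Set.singleton_nonempty y))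
  rw [Set.image_singleton, Set.mem_singleton_iff] at hx
  exact ⟨x, hx⟩

theorem flat_iff_forall_pts (f : X ⟶ Y) : Flat f ↔ ∀ x : Pts X, (f.stalkMap x.pt).hom.Flat := by
  refine ⟨fun h x => Flat.stalkMap f _, fun H => ?_⟩
  rw [HasRingHomProperty.iff_appLE (P := @Flat)]
  intro U V e
  algebraize [(f.appLE U.1 V.1 e).hom]
  show Module.Flat Γ(Y, U) Γ(X, V)
  let y (P : Ideal Γ(X, V)) [hP : P.IsMaximal] : Spec Γ(X, V) := (⟨P, hP.isPrime⟩ : PrimeSpectrum Γ(X, V))
  have hmem (P : Ideal Γ(X, V)) [P.IsMaximal] : V.2.fromSpec (y P) ∈ V.1 :=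
    V.2.range_fromSpec.le ⟨y P, rfl⟩
  refine Module.flat_of_isLocalized_maximal Γ(X, V) Γ(X, V) (fun P => Localization.AtPrime P)
    (fun P => Algebra.linearMap _ _) ?_
  intro P hP
  letI : Algebra Γ(X, V) (X.presheaf.stalk (V.2.fromSpec (y P))) :=
    (X.presheaf.germ V.1 _ (hmem P)).hom.toAlgebra
  letI : Algebra Γ(Y, U) (X.presheaf.stalk (V.2.fromSpec (y P))) :=
    ((X.presheaf.germ V.1 _ (hmem P)).hom.comp (f.appLE U.1 V.1 e).hom).toAlgebra
  haveI : IsScalarTower Γ(Y, U) Γ(X, V) (X.presheaf.stalk (V.2.fromSpec (y P))) :=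
    IsScalarTower.of_algebraMap_eq fun _ => rfl
  haveI : IsLocalization.AtPrime (X.presheaf.stalk (V.2.fromSpec (y P))) P :=
    V.2.isLocalization_stalk' (y P) (hmem P)
  suffices Module.Flat Γ(Y, U) (X.presheaf.stalk (V.2.fromSpec (y P))) from
    Module.Flat.of_linearEquiv
      ((IsLocalization.algEquiv P.primeCompl (Localization.AtPrime P)
        (X.presheaf.stalk (V.2.fromSpec (y P)))).toLinearEquiv.restrictScalars Γ(Y, U))
  obtain ⟨x, hx⟩ := exists_pts_maximal V.2 P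
  have hfp : f (V.2.fromSpec (y P)) ∈ U.1 := e (hmem P)
  have h1 : (Y.presheaf.germ U.1 _ hfp).hom.Flat := by
    letI := (Y.presheaf.germ U.1 _ hfp).hom.toAlgebra
    haveI := U.2.isLocalization_stalk ⟨_, hfp⟩
    exact IsLocalization.flat (Y.presheaf.stalk (f (V.2.fromSpec (y P)))) (U.2.primeIdealOf ⟨_, hfp⟩).asIdeal.primeCompl
  have h2 : (f.stalkMap (V.2.fromSpec (y P))).hom.Flat := by
    have := H x
    rwa [hx] at this
  have h3 := RingHom.Flat.comp h1 h2
  show ((X.presheaf.germ V.1 _ (hmem P)).hom.comp (f.appLE U.1 V.1 e).hom).Flat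
  convert h3 using 1
  rw [← CommRingCat.hom_comp, ← CommRingCat.hom_comp, Scheme.Hom.germ_stalkMap, Scheme.Hom.appLE, Category.assoc,
    X.presheaf.germ_res]

end Groth.Agent.AnLocal
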