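import Groth.Agent.AnLocal.Residue
import Groth.Agent.AnLocal.Local
import Groth.Agent.AnLocal.Henselian
import Groth.Agent.Hensel.Local

/-!
A morphism is étale if and only if the maps of analytic local rings are bijective.
-/

open AlgebraicGeometry CategoryTheory TopologicalSpace IsLocalRing Filter Topology MvPolynomial

noncomputable section

namespace Groth.Agent.AnLocal

open An An.Pts

variable {X Y : Scheme.{0}} [X.Over SC] [Y.Over SC] [LocallyOfFiniteType (X ↘ SC)]
  [LocallyOfFiniteType (Y ↘ SC)] (f : X ⟶ Y) [f.IsOver SC]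

theorem locallyOfFinitePresentation_of_isOver : LocallyOfFinitePresentation f := by
  haveI := AnPts.locallyOfFiniteType_of_isOver f
  haveI : IsLocallyNoetherian Y := LocallyOfFiniteType.isLocallyNoetherian (Y ↘ SC)
  refine ⟨fun {U} hU {V} hV e => ?_⟩
  haveI : IsNoetherianRing Γ(Y, U) := IsLocallyNoetherian.component_noetherian ⟨U, hU⟩
  have hFT := f.finiteType_appLE hU hV e
  algebraize [(f.appLE U V e).hom]
  show Algebra.FinitePresentation Γ(Y, U) Γ(X, V)
  exact Algebra.FinitePresentation.of_finiteType.mp inferInstance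

variable [IsReduced X] [IsReduced Y] (x : Pts X)

theorem exists_lift_of_etale [Etale f] (a : X.presheaf.stalk x.pt) :
    ∃ t, anStalk f x t = ψ x a := by
  obtain ⟨U, hU, hxU, -⟩ := exists_isAffineOpen_mem_and_subset (x := f x.pt) (U := ⊤) trivial
  obtain ⟨V, hV, hxV, hVU⟩ := exists_isAffineOpen_mem_and_subset (x := x.pt) (U := f ⁻¹ᵁ U) hxU
  have hx' : (Pts.map f x).pt ∈ U := by rw [pt_map]; exact hxU
  let C := (anSpace Y).presheaf.stalk (Pts.map f x)
  let B := (anSpace X).presheaf.stalk x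
  haveI := isLocalHom_anStalk f x
  haveI : HenselianLocalRing C := henselianLocalRing_anStalk _
  haveI : HenselianLocalRing B := henselianLocalRing_anStalk _
  let gA : Γ(X, V) →+* B := (ψ x).comp (X.presheaf.germ V x.pt hxV).hom
  let gC : Γ(Y, U) →+* C := (ψ (Pts.map f x)).comp (Y.presheaf.germ U _ hx').hom
  have hcomm : ∀ r, anStalk f x (gC r) = gA ((f.appLE U V hVU).hom r) := fun r => by
    show anStalk f x (ψ _ _) = ψ x _
    rw [anStalk_ψ, algStalk_germ]
    show _ = ψ x (X.presheaf.germ V x.pt hxV ((f.app U ≫ X.presheaf.map (homOfLE hVU).op) r))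
    exact congrArg (ψ x) (X.presheaf.germ_res_apply (homOfLE hVU) x.pt hxV _).symm
  let ρ := ResidueField.map (anStalk f x)
  have hρ : Function.Bijective ρ := by
    refine ⟨ρ.injective, fun b => ?_⟩
    obtain ⟨b, rfl⟩ := residue_surjective b
    obtain ⟨a', ha'⟩ := exists_sub_mem x b 1
    obtain ⟨t, ht⟩ := surjective_residueFieldMap f x (residue _ a')
    obtain ⟨t, rfl⟩ := residue_surjective t
    let e := Y.presheaf.stalkSpecializes (specializes_of_eq (pt_map f x))
    refine ⟨residue _ (ψ (Pts.map f x) (e t)), ?_⟩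
    show residue _ (anStalk f x (ψ _ (e t))) = _
    rw [anStalk_ψ]
    rw [pow_one] at ha'
    refine Eq.trans ?_ ((residue_eq_zero_iff _).2 ha' |> fun h => (sub_eq_zero.1 ((map_sub _ _ _).symm.trans h)).symm)
    have h2 : algStalk f x (e t) = f.stalkMap x.pt t := by
      show f.stalkMap x.pt ((e ≫ Y.presheaf.stalkSpecializes _) t) = _
      rw [TopCat.Presheaf.stalkSpecializes_comp, TopCat.Presheaf.stalkSpecializes_refl]
      rfl
    rw [h2]
    have h3 : residue _ (f.stalkMap x.pt t) = residue _ a' := ht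
    exact congrArg (ResidueField.map (ψ x)) h3
  let eρ := RingEquiv.ofBijective ρ hρ
  algebraize [(f.appLE U V hVU).hom]
  haveI : Algebra.Etale Γ(Y, U) Γ(X, V) := f.etale_appLE hU hV hVU
  letI : Algebra Γ(Y, U) C := gC.toAlgebra
  letI : Algebra Γ(Y, U) B := ((anStalk f x).comp gC).toAlgebra
  let σ : Γ(X, V) →ₐ[Γ(Y, U)] C ⧸ maximalIdeal C :=
    { eρ.symm.toRingHom.comp ((residue B).comp gA) with
      commutes' := fun r => by
        show eρ.symm (residue B (gA ((f.appLE U V hVU).hom r))) = residue C (gC r)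
        rw [← hcomm, RingEquiv.symm_apply_eq]
        rfl }
  obtain ⟨τ, hτ, -⟩ := Hensel.existsUnique_etale_lift_of_algebra (maximalIdeal C) σ
  have hres : ∀ s, residue B (anStalk f x (τ s)) = residue B (gA s) := fun s => by
    have h1 : residue C (τ s) = eρ.symm (residue B (gA s)) := DFunLike.congr_fun hτ s
    exact (congrArg eρ h1).trans (eρ.apply_symm_apply _)
  let g₁ : Γ(X, V) →ₐ[Γ(Y, U)] B :=
    { (anStalk f x).comp τ.toRingHom with
      commutes' := fun r => congrArg (anStalk f x) (τ.commutes r) }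
  let g₂ : Γ(X, V) →ₐ[Γ(Y, U)] B := { gA with commutes' := fun r => (hcomm r).symm }
  have hg : g₁ = g₂ :=
    (Hensel.existsUnique_etale_lift_of_algebra (maximalIdeal B) ((Ideal.Quotient.mkₐ Γ(Y, U) _).comp g₂)).unique
      (AlgHom.ext hres) rfl
  have key : ∀ s, anStalk f x (τ s) = gA s := fun s => DFunLike.congr_fun hg s
  letI := TopCat.Presheaf.algebra_section_stalk X.presheaf ⟨x.pt, hxV⟩
  haveI := hV.isLocalization_stalk ⟨x.pt, hxV⟩
  obtain ⟨⟨p, h⟩, he⟩ := IsLocalization.surj (hV.primeIdealOf ⟨x.pt, hxV⟩).asIdeal.primeCompl a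
  have hu : IsUnit (gA h.1) :=
    (IsLocalization.map_units (X.presheaf.stalk x.pt) h).map (ψ x)
  rw [← key, isUnit_map_iff] at hu
  refine ⟨τ p * ↑hu.unit⁻¹, ?_⟩
  have h1 : anStalk f x (τ h.1) * anStalk f x ↑hu.unit⁻¹ = 1 := by
    rw [← map_mul, hu.mul_val_inv, map_one]
  have he' : ψ x a * anStalk f x (τ h.1) = anStalk f x (τ p) := by
    rw [key, key]
    exact (map_mul (ψ x) _ _).symm.trans (congrArg (ψ x) he)
  rw [map_mul, ← he', mul_assoc, h1, _root_.mul_one]

theorem eq_of_forall_polyHom {N : ℕ} {B : Type} [CommRing B] [IsLocalRing B] [IsNoetherianRing B]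
    (Θ Φ : O N →+* B) (hΘ : ∀ g ∈ maximalIdeal (O N), Θ g ∈ maximalIdeal B)
    (hΦ : ∀ g ∈ maximalIdeal (O N), Φ g ∈ maximalIdeal B)
    (h : ∀ p, Θ (polyHom N p) = Φ (polyHom N p)) : Θ = Φ := by
  refine RingHom.ext fun g => sub_eq_zero.1 ?_
  rw [← Ideal.mem_bot (R := B),
    ← Ideal.iInf_pow_eq_bot_of_isLocalRing (I := maximalIdeal B) (maximalIdeal.isMaximal B).ne_top,
    Ideal.mem_iInf]
  intro k
  obtain ⟨p, hp⟩ := exists_poly_sub_mem N g k
  have h1 : ∀ (Λ : O N →+* B), (∀ g ∈ maximalIdeal (O N), Λ g ∈ maximalIdeal B) →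
      Λ g - Λ (polyHom N p) ∈ maximalIdeal B ^ k := fun Λ hΛ => by
    rw [← map_sub]
    have := Ideal.mem_map_of_mem Λ hp
    rw [Ideal.map_pow] at this
    exact Ideal.pow_right_mono (Ideal.map_le_iff_le_comap.2 hΛ) k this
  rw [show Θ g - Φ g = (Θ g - Θ (polyHom N p)) - (Φ g - Φ (polyHom N p)) by rw [h]; ring]
  exact sub_mem (h1 Θ hΘ) (h1 Φ hΦ)

theorem surjective_anStalk (H : ∀ a, ∃ t, anStalk f x t = ψ x a) : Function.Surjective (anStalk f x) := by
  intro b
  obtain ⟨c⟩ := nonempty_chart x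
  obtain ⟨c'⟩ := nonempty_chart (Pts.map f x)
  obtain ⟨g, rfl⟩ := c.E_surjective b
  haveI := isLocalHom_anStalk f x
  haveI : IsLocalHom c'.E := c'.E_surjective.isLocalHom c'.E
  haveI : IsLocalHom c.E := c.E_surjective.isLocalHom c.E
  choose t ht using fun i : Fin c.N => H (c.α (MvPolynomial.X i))
  choose hh hhh using fun i => c'.E_surjective (t i)
  choose F hF using fun i => AnLocal.mk_surjective (hh i)
  have hF0 : ∀ i, (F i).1 0 = 0 := fun i => by
    rw [← ev0_mk, hF, ← mem_maximalIdeal_iff, mem_maximalIdeal, mem_nonunits_iff]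
    intro hu
    have hu2 := (hu.map c'.E).map (anStalk f x)
    rw [hhh, ht, isUnit_map_iff, c.isUnit_α_iff, MvPolynomial.eval_X] at hu2
    exact hu2 rfl
  let φ : (Fin c'.N → ℂ) → Fin c.N → ℂ := fun z i => (F i).1 z
  have h0 : φ 0 = 0 := _root_.funext hF0
  have hφ : ∀ᶠ z in 𝓝 0, DifferentiableAt ℂ φ z := by
    filter_upwards [eventually_all.2 fun i => (F i).2] with z hz using differentiableAt_pi.2 hz
  let Θ : O c.N →+* (anSpace X).presheaf.stalk x := ((anStalk f x).comp c'.E).comp (comap φ h0 hφ)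
  suffices Θ = c.E from ⟨c'.E (comap φ h0 hφ g), RingHom.congr_fun this g⟩
  have hloc : ∀ g ∈ maximalIdeal (O c.N), comap φ h0 hφ g ∈ maximalIdeal (O c'.N) := fun g hg => by
    obtain ⟨G, rfl⟩ := AnLocal.mk_surjective g
    rw [mem_maximalIdeal_iff, ev0_mk] at hg
    rw [comap_mk, mem_maximalIdeal_iff, ev0_mk]
    show G.1 (φ 0) = 0
    rw [h0, hg]
  refine eq_of_forall_polyHom _ _ (fun g hg => ?_) (fun g hg => ?_) fun p => ?_
  · exact map_nonunit (anStalk f x) _ (map_nonunit c'.E _ (hloc g hg))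
  · exact map_nonunit c.E _ hg
  refine RingHom.congr_fun (f := Θ.comp (polyHom c.N)) (g := c.E.comp (polyHom c.N))
    (MvPolynomial.ringHom_ext (fun a => ?_) fun i => ?_) p
  · refine val_injective x ?_
    show val x (anStalk f x (c'.E (comap φ h0 hφ (polyHom c.N (MvPolynomial.C a))))) =
      val x (c.E (polyHom c.N (MvPolynomial.C a)))
    rw [val_anStalk, c'.val_E, c.val_E, polyHom, RingHom.comp_apply, comap_mk, c.T_mk, c'.T_mk]
    refine Germ.coe_eq.2 (Eventually.of_forall fun y => ?_)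
    show (polyFun c.N (MvPolynomial.C a)).1 _ = (polyFun c.N (MvPolynomial.C a)).1 _
    rw [polyFun_apply, polyFun_apply, MvPolynomial.eval_C, MvPolynomial.eval_C]
  · show anStalk f x (c'.E (comap φ h0 hφ (polyHom c.N (MvPolynomial.X i)))) =
      c.E (polyHom c.N (MvPolynomial.X i))
    rw [c.E_polyHom, polyHom_X, AnLocal.X, comap_mk,
      show AnLocal.mk c'.N (compFun φ h0 hφ _) = AnLocal.mk c'.N (F i) from
        AnLocal.mk_eq_mk.2 (Eventually.of_forall fun z => rfl), hF, hhh]
    exact ht i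

theorem bijective_anStalk_of_etale [Etale f] : Function.Bijective (anStalk f x) := by
  refine ⟨?_, surjective_anStalk f x (exists_lift_of_etale f x)⟩
  haveI := isLocalHom_anStalk f x
  letI := (anStalk f x).toAlgebra
  haveI : Module.Flat ((anSpace Y).presheaf.stalk (Pts.map f x)) ((anSpace X).presheaf.stalk x) :=
    (flat_anStalk_iff f x).2 ((flat_algStalk_iff f x).2 (Flat.stalkMap f _))
  haveI : IsLocalHom (algebraMap ((anSpace Y).presheaf.stalk (Pts.map f x)) ((anSpace X).presheaf.stalk x)) :=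
    isLocalHom_anStalk f x
  haveI : Module.FaithfullyFlat ((anSpace Y).presheaf.stalk (Pts.map f x)) ((anSpace X).presheaf.stalk x) :=
    Module.FaithfullyFlat.of_flat_of_isLocalHom
  exact FaithfulSMul.algebraMap_injective _ _

theorem etale_iff_forall_bijective : Etale f ↔ ∀ x : Pts X, Function.Bijective (anStalk f x) := by
  refine ⟨fun _ x => bijective_anStalk_of_etale f x, fun H => ?_⟩
  haveI := AnPts.locallyOfFiniteType_of_isOver f
  haveI := locallyOfFinitePresentation_of_isOver f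
  haveI : Flat f := (flat_iff_forall_pts f).2 fun x =>
    (flat_algStalk_iff f x).1 ((flat_anStalk_iff f x).1 (RingHom.Flat.of_bijective (H x)))
  haveI : FormallyUnramified f := (formallyUnramified_iff_forall_pts f).2 fun x =>
    (map_maximalIdeal_iff f x).1 <| by
      haveI := isLocalHom_anStalk f x
      refine le_antisymm (Ideal.map_le_iff_le_comap.2 fun a ha => map_nonunit (anStalk f x) a ha) fun b hb => ?_
      obtain ⟨a, rfl⟩ := (H x).2 b
      exact Ideal.mem_map_of_mem _ fun hu => hb (hu.map (anStalk f x))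
  exact Etale.of_formallyUnramified_of_flat f

end Groth.Agent.AnLocal
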