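import Groth.Agent.AnLocal.Compare
import Groth.Agent.LC.CanonComplete
import Groth.Agent.CplFib6.Excellent
import Groth.Agent.FormalFib6.Transfer
import Groth.Agent.FlatLoc6.FiberRing
import Groth.Agent.FlatLoc6.RegCM
import Groth.Agent.S0600
import Groth.Agent.S9295
import Groth.Agent.S2086
import Groth.Agent.S2609
import Groth.Agent.S9437
import Groth.Agent.S9438

/-!
The analytic local ring has the same completion as the algebraic one; the comparison map is a regular
homomorphism, so Serre's conditions pass in both directions.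
-/

open AlgebraicGeometry CategoryTheory TopologicalSpace IsLocalRing

noncomputable section

namespace Groth.Agent.AnLocal

open An An.Pts

universe u

theorem exists_cplEquiv {A B : Type u} [CommRing A] [CommRing B] [IsLocalRing A] [IsLocalRing B] [Algebra A B]
    (hm : (maximalIdeal A).map (algebraMap A B) = maximalIdeal B)
    (hs : ∀ (b : B) (n : ℕ), ∃ a, b - algebraMap A B a ∈ maximalIdeal B ^ n)
    (hi : ∀ (a : A) (n : ℕ), algebraMap A B a ∈ maximalIdeal B ^ n → a ∈ maximalIdeal A ^ n) :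
    Nonempty (AdicCompletion (maximalIdeal A) A ≃ₐ[A] AdicCompletion (maximalIdeal B) B) := by
  let q : ∀ n : ℕ, (A ⧸ maximalIdeal A ^ n) →ₐ[A] B ⧸ maximalIdeal B ^ n := fun n =>
    Ideal.quotientMapₐ _ (Algebra.ofId A B) (Ideal.map_le_iff_le_comap.1
      (show (maximalIdeal A ^ n).map (algebraMap A B) ≤ _ by rw [Ideal.map_pow, hm]))
  have hq : ∀ n, Function.Bijective (q n) := fun n => by
    refine ⟨(injective_iff_map_eq_zero _).2 fun y hy => ?_, fun y => ?_⟩
    · obtain ⟨a, rfl⟩ := Ideal.Quotient.mk_surjective y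
      rw [Ideal.Quotient.eq_zero_iff_mem]
      exact hi a n (Ideal.Quotient.eq_zero_iff_mem.1 hy)
    · obtain ⟨b, rfl⟩ := Ideal.Quotient.mk_surjective y
      obtain ⟨a, ha⟩ := hs b n
      exact ⟨Ideal.Quotient.mk _ a, (Ideal.Quotient.eq.2 ha).symm⟩
  let qe : ∀ n : ℕ, (A ⧸ maximalIdeal A ^ n) ≃ₐ[A] B ⧸ maximalIdeal B ^ n := fun n => AlgEquiv.ofBijective (q n) (hq n)
  have hA : ∀ {m n : ℕ} (hle : m ≤ n) (z : AdicCompletion (maximalIdeal A) A),
      Ideal.Quotient.factor (Ideal.pow_le_pow_right hle) (AdicCompletion.evalₐ _ n z) = AdicCompletion.evalₐ (maximalIdeal A) m z := by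
    intro m n hle z
    induction z using AdicCompletion.induction_on with
    | h a =>
      have h1 : a.val m - a.val n ∈ maximalIdeal A ^ m := by
        have := SModEq.sub_mem.1 (a.property hle)
        rwa [smul_eq_mul, Ideal.mul_top] at this
      simp only [AdicCompletion.evalₐ_mk, Ideal.Quotient.factor_mk]
      exact (Ideal.Quotient.eq.2 h1).symm
  have hB : ∀ {m n : ℕ} (hle : m ≤ n) (z : AdicCompletion (maximalIdeal B) B),
      Ideal.Quotient.factor (Ideal.pow_le_pow_right hle) (AdicCompletion.evalₐ _ n z) = AdicCompletion.evalₐ (maximalIdeal B) m z := by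
    intro m n hle z
    induction z using AdicCompletion.induction_on with
    | h a =>
      have h1 : a.val m - a.val n ∈ maximalIdeal B ^ m := by
        have := SModEq.sub_mem.1 (a.property hle)
        rwa [smul_eq_mul, Ideal.mul_top] at this
      simp only [AdicCompletion.evalₐ_mk, Ideal.Quotient.factor_mk]
      exact (Ideal.Quotient.eq.2 h1).symm
  have hqf : ∀ {m n : ℕ} (hle : m ≤ n) (y : A ⧸ maximalIdeal A ^ n),
      Ideal.Quotient.factor (Ideal.pow_le_pow_right hle) (q n y) = q m (Ideal.Quotient.factor (Ideal.pow_le_pow_right hle) y) := by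
    intro m n hle y
    obtain ⟨a, rfl⟩ := Ideal.Quotient.mk_surjective y
    rfl
  let e₁ : AdicCompletion (maximalIdeal A) A →ₐ[A] AdicCompletion (maximalIdeal B) B :=
    AdicCompletion.liftAlgHom (maximalIdeal B) (fun n => (q n).comp (AdicCompletion.evalₐ (maximalIdeal A) n)) fun {m n} hle =>
      AlgHom.ext fun z => by
        show Ideal.Quotient.factor (Ideal.pow_le_pow_right hle) (q n (AdicCompletion.evalₐ _ n z)) = q m (AdicCompletion.evalₐ _ m z)
        rw [hqf hle, hA hle]
  let e₂ : AdicCompletion (maximalIdeal B) B →ₐ[A] AdicCompletion (maximalIdeal A) A :=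
    AdicCompletion.liftAlgHom (maximalIdeal A)
      (fun n => (qe n).symm.toAlgHom.comp ((AdicCompletion.evalₐ (maximalIdeal B) n).restrictScalars A)) fun {m n} hle =>
      AlgHom.ext fun z => by
        show Ideal.Quotient.factor (Ideal.pow_le_pow_right hle) ((qe n).symm (AdicCompletion.evalₐ _ n z)) = (qe m).symm (AdicCompletion.evalₐ _ m z)
        refine (qe m).injective ?_
        rw [AlgEquiv.apply_symm_apply]
        show q m _ = _
        rw [← hqf hle, ← hB hle]
        exact congrArg _ ((qe n).apply_symm_apply _)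
  refine ⟨AlgEquiv.ofAlgHom e₁ e₂ (AlgHom.ext fun z => AdicCompletion.ext_evalₐ fun n => ?_)
    (AlgHom.ext fun z => AdicCompletion.ext_evalₐ fun n => ?_)⟩
  · simp only [AlgHom.comp_apply, e₁, e₂, AdicCompletion.evalₐ_liftAlgHom]
    exact (qe n).apply_symm_apply _
  · simp only [AlgHom.comp_apply, AlgHom.restrictScalars_apply, AlgEquiv.toAlgHom_eq_coe, AlgHom.coe_coe, e₁, e₂,
      AdicCompletion.evalₐ_liftAlgHom]
    exact (qe n).symm_apply_apply _

/-- The fibres of a regular homomorphism satisfy every Serre condition. -/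
theorem regular_fibLocRing {A B : Type u} [CommRing A] [CommRing B] [Algebra A B]
    (h : CAlg.IsRegularHom A B) (q : Ideal B) [q.IsPrime] : IsRegularLocalRing (EGA4.FibLocRing A B q) := by
  obtain ⟨Q, hQ⟩ := FlatLoc6.exists_fiber_prime (B := B) (q.comap (algebraMap A B)) q rfl
  haveI := Ideal.comap_isPrime (Algebra.TensorProduct.includeRight : B →ₐ[A] _) Q.asIdeal
  obtain ⟨e⟩ := FlatLoc6.exists_fibLocEquiv (B := B) _ Q.asIdeal
  haveI := FlatLoc6.isRegularRing_of_geometricallyRegular (h.2 (q.comap (algebraMap A B))).2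
  haveI := IsRegularRing.isRegularLocalRing_localization (R := (q.comap (algebraMap A B)).Fiber B) Q.asIdeal
  have key : ∀ (q₁ q₂ : Ideal B) [q₁.IsPrime] [q₂.IsPrime], q₁ = q₂ →
      IsRegularLocalRing (EGA4.FibLocRing A B q₁) → IsRegularLocalRing (EGA4.FibLocRing A B q₂) := by
    intro q₁ q₂ _ _ he hh; subst he; exact hh
  exact key _ q hQ (IsRegularLocalRing.of_ringEquiv (R := Localization.AtPrime Q.asIdeal) e)

theorem hasRk_fibLocRing {A B : Type u} [CommRing A] [CommRing B] [Algebra A B]
    (h : CAlg.IsRegularHom A B) (k : ℕ) (q : Ideal B) [q.IsPrime] : LocCoh.HasRk k (EGA4.FibLocRing A B q) := by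
  haveI := regular_fibLocRing h q
  intro P _ _
  exact RegLoc6.isRegularLocalRing_localization (EGA4.FibLocRing A B q) P

theorem hasSk_fiber {A B : Type u} [CommRing A] [CommRing B] [IsNoetherianRing B] [Algebra A B]
    (h : CAlg.IsRegularHom A B) (k : ℕ) (p : Ideal A) [p.IsPrime] :
    LocCoh.HasSk k (p.Fiber B) (p.Fiber B) := by
  haveI := FlatLoc6.isNoetherianRing_fiber (B := B) p
  rw [FlatLoc6.hasSk_self_iff]
  intro Q _
  haveI := FlatLoc6.isRegularRing_of_geometricallyRegular (h.2 p).2
  haveI := IsRegularRing.isRegularLocalRing_localization (R := p.Fiber B) Q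
  haveI := LC.gorenstein_of_isRegularLocalRing (R := Localization.AtPrime Q)
  haveI hCM : LocCoh.IsCohenMacaulayLocalRing (Localization.AtPrime Q) := LC.isCohenMacaulayLocalRing_of_gorenstein
  have h1 := hCM.supportDim_eq_depth
  rw [Module.supportDim_self_eq_ringKrullDim, IsLocalization.AtPrime.ringKrullDim_eq_height Q,
    WithBot.coe_inj] at h1
  exact (min_le_right _ _).trans h1.le

section Stalk

variable {X : Scheme.{0}} [X.Over SC] [LocallyOfFiniteType (X ↘ SC)] (x : Pts X)

theorem isGRing_stalk : CAlg.IsGRing (X.presheaf.stalk x.pt) := by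
  obtain ⟨c⟩ := nonempty_chart x
  letI : Algebra ℂ Γ(X, c.U) := (strU c.U).toAlgebra
  haveI : Algebra.FiniteType ℂ Γ(X, c.U) :=
    Algebra.FiniteType.of_surjective (MvPolynomial.aeval c.s) c.surj
  have hR := CplFib6.isGRing_of_finiteType (CplFib6.isGRing_of_dedekind ℂ) Γ(X, c.U)
  letI := TopCat.Presheaf.algebra_section_stalk X.presheaf ⟨x.pt, c.mem⟩
  haveI := c.hU.isLocalization_stalk ⟨x.pt, c.mem⟩
  exact CplFib6.isGRing_localization hR (c.hU.primeIdealOf ⟨x.pt, c.mem⟩).asIdeal.primeCompl (X.presheaf.stalk x.pt)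

variable [IsReduced X]

theorem isRegularHom_ψ :
    letI := (ψ x).toAlgebra
    CAlg.IsRegularHom (X.presheaf.stalk x.pt) ((anSpace X).presheaf.stalk x) := by
  letI := (ψ x).toAlgebra
  obtain ⟨e⟩ := exists_cplEquiv (A := X.presheaf.stalk x.pt) (B := (anSpace X).presheaf.stalk x)
    (map_maximalIdeal x) (exists_sub_mem x) (fun _ _ h => mem_pow_of_map_mem x h)
  have h1 := S0600.result _ (isGRing_stalk x) (maximalIdeal (X.presheaf.stalk x.pt))
  have h2 := FormalFib6.isRegularHom_of_algEquiv e h1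
  haveI := LC.Canon.faithfullyFlat_completion (R := (anSpace X).presheaf.stalk x)
  exact S9295.result _ ((anSpace X).presheaf.stalk x) _ h2
    (PrimeSpectrum.comap_surjective_of_faithfullyFlat)

theorem hasRk_iff (k : ℕ) :
    LocCoh.HasRk k (X.presheaf.stalk x.pt) ↔ LocCoh.HasRk k ((anSpace X).presheaf.stalk x) := by
  haveI := isNoetherianRing_stalk (X := X) x.pt
  letI := (ψ x).toAlgebra
  haveI : Module.Flat (X.presheaf.stalk x.pt) ((anSpace X).presheaf.stalk x) := flat_ψ x
  haveI : IsLocalHom (algebraMap (X.presheaf.stalk x.pt) ((anSpace X).presheaf.stalk x)) := isLocalHom_ψ x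
  haveI : Module.FaithfullyFlat (X.presheaf.stalk x.pt) ((anSpace X).presheaf.stalk x) :=
    Module.FaithfullyFlat.of_flat_of_isLocalHom
  refine ⟨fun h => fun q _ hq => ?_, fun h => (S9438.result k _ _ h).2⟩
  exact FlatLoc6.regular_ascend k q hq (hasRk_fibLocRing (isRegularHom_ψ x) k q) fun hp => h _ hp

theorem hasSk_iff (k : ℕ) : LocCoh.HasSk k (X.presheaf.stalk x.pt) (X.presheaf.stalk x.pt) ↔
    LocCoh.HasSk k ((anSpace X).presheaf.stalk x) ((anSpace X).presheaf.stalk x) := by
  haveI := isNoetherianRing_stalk (X := X) x.pt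
  letI := (ψ x).toAlgebra
  haveI : Module.Flat (X.presheaf.stalk x.pt) ((anSpace X).presheaf.stalk x) := flat_ψ x
  haveI : IsLocalHom (algebraMap (X.presheaf.stalk x.pt) ((anSpace X).presheaf.stalk x)) := isLocalHom_ψ x
  haveI : Module.FaithfullyFlat (X.presheaf.stalk x.pt) ((anSpace X).presheaf.stalk x) :=
    Module.FaithfullyFlat.of_flat_of_isLocalHom
  exact ⟨fun h => S2086.result k h fun p _ => hasSk_fiber (isRegularHom_ψ x) k p,
    fun h => (S9437.result k _ _ h).2⟩

theorem normal_iff_R1_S2 {A : Type u} [CommRing A] [IsNoetherianRing A] [IsLocalRing A] :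
    (IsDomain A ∧ IsIntegrallyClosed A) ↔ (LocCoh.HasRk 1 A ∧ LocCoh.HasSk 2 A A) := by
  refine ⟨fun ⟨_, _⟩ => FlatLoc6.R1_S2_of_normal fun p _ => ?_, fun h => FlatLoc6.normal_of_R1_S2 h.1 h.2⟩
  exact ⟨inferInstance,
    isIntegrallyClosed_of_isLocalization (Localization.AtPrime p) p.primeCompl p.primeCompl_le_nonZeroDivisors⟩

end Stalk

end Groth.Agent.AnLocal
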