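import Groth.Agent.AnLocal.Weierstrass
import Mathlib.Topology.Germ
import Mathlib.RingTheory.LocalRing.Basic
import Mathlib.RingTheory.LocalRing.MaximalIdeal.Basic
import Mathlib.RingTheory.Noetherian.Basic
import Mathlib.RingTheory.Finiteness.Basic
import Mathlib.RingTheory.Finiteness.Ideal
import Mathlib.Analysis.Calculus.FDeriv.Comp
import Mathlib.LinearAlgebra.FiniteDimensional.Basic

/-!
The ring of germs at `0` of holomorphic functions on `ℂⁿ`: it is a noetherian local ring whose
maximal ideal is generated by the coordinates.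
-/

open Metric Filter Topology Set

noncomputable section

namespace Groth.Agent.AnLocal

/-- Functions holomorphic near `0`. -/
def holFun (n : ℕ) : Subring ((Fin n → ℂ) → ℂ) where
  carrier := {f | ∀ᶠ z in 𝓝 0, DifferentiableAt ℂ f z}
  mul_mem' hf hg := by filter_upwards [hf, hg] with z h1 h2 using h1.mul h2
  one_mem' := Eventually.of_forall fun _ => differentiableAt_const _
  add_mem' hf hg := by filter_upwards [hf, hg] with z h1 h2 using h1.add h2
  zero_mem' := Eventually.of_forall fun _ => differentiableAt_const _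
  neg_mem' hf := by filter_upwards [hf] with z h1 using h1.neg

/-- Germs at `0` of holomorphic functions. -/
def holGerm (n : ℕ) : Subring (Germ (𝓝 (0 : Fin n → ℂ)) ℂ) :=
  (holFun n).map (Germ.coeRingHom _)

/-- The ring of germs at `0` of holomorphic functions. -/
abbrev O (n : ℕ) : Type := ↥(holGerm n)

variable {n m : ℕ}

theorem mem_holFun_of_differentiableOn {f : (Fin n → ℂ) → ℂ} {R : ℝ} (hR : 0 < R)
    (hf : DifferentiableOn ℂ f (ball 0 R)) : f ∈ holFun n :=
  eventually_of_mem (ball_mem_nhds 0 hR) fun _ hz => hf.differentiableAt (isOpen_ball.mem_nhds hz)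

/-- The germ of a function. -/
def mk (n : ℕ) : holFun n →+* O n :=
  ((Germ.coeRingHom _).comp (holFun n).subtype).codRestrict (holGerm n) fun f => ⟨f.1, f.2, rfl⟩

theorem mk_surjective : Function.Surjective (mk n) := by
  rintro ⟨-, f, hf, rfl⟩
  exact ⟨⟨f, hf⟩, rfl⟩

theorem mk_eq_mk {f g : holFun n} : mk n f = mk n g ↔ (f : (Fin n → ℂ) → ℂ) =ᶠ[𝓝 0] g :=
  ⟨fun h => Germ.coe_eq.1 (congrArg Subtype.val h), fun h => Subtype.ext (Germ.coe_eq.2 h)⟩

theorem mk_eq_zero {f : holFun n} : mk n f = 0 ↔ (f : (Fin n → ℂ) → ℂ) =ᶠ[𝓝 0] 0 := by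
  rw [← map_zero (mk n), mk_eq_mk]; rfl

theorem exists_rep (g : O n) : ∃ (f : holFun n) (R : ℝ), 0 < R ∧ DifferentiableOn ℂ f.1 (ball 0 R) ∧ mk n f = g := by
  obtain ⟨f, rfl⟩ := mk_surjective g
  obtain ⟨R, hR, h⟩ := Metric.eventually_nhds_iff_ball.1 f.2
  exact ⟨f, R, hR, fun z hz => (h z hz).differentiableWithinAt, rfl⟩

/-- A germ from a function holomorphic on a ball. -/
def ofFun {f : (Fin n → ℂ) → ℂ} {R : ℝ} (hR : 0 < R) (hf : DifferentiableOn ℂ f (ball 0 R)) : O n :=
  mk n ⟨f, mem_holFun_of_differentiableOn hR hf⟩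

/-- The value at `0`. -/
def ev0 (n : ℕ) : O n →+* ℂ := Germ.valueRingHom.comp (holGerm n).subtype

theorem ev0_mk (f : holFun n) : ev0 n (mk n f) = f.1 0 := rfl

/-- The constants. -/
def C (n : ℕ) : ℂ →+* O n :=
  (mk n).comp ((Pi.constRingHom (Fin n → ℂ) ℂ).codRestrict (holFun n) fun _ =>
    Eventually.of_forall fun _ => differentiableAt_const _)

@[simp] theorem ev0_C (c : ℂ) : ev0 n (C n c) = c := rfl

/-- The coordinates. -/
def X (i : Fin n) : O n :=
  mk n ⟨fun z => z i, Eventually.of_forall fun _ =>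
    (differentiable_apply (𝕜 := ℂ) (F' := fun _ : Fin n => ℂ) i).differentiableAt⟩

@[simp] theorem ev0_X (i : Fin n) : ev0 n (X i) = 0 := rfl

theorem isUnit_iff (g : O n) : IsUnit g ↔ ev0 n g ≠ 0 := by
  refine ⟨fun h => (h.map (ev0 n)).ne_zero, fun h => ?_⟩
  obtain ⟨f, rfl⟩ := mk_surjective g
  rw [ev0_mk] at h
  have hc : ContinuousAt f.1 0 := f.2.self_of_nhds.continuousAt
  have hne : ∀ᶠ z in 𝓝 0, f.1 z ≠ 0 := hc.eventually_ne h
  refine IsUnit.of_mul_eq_one (mk n ⟨fun z => (f.1 z)⁻¹, ?_⟩) ?_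
  · filter_upwards [hne, f.2] with z hz hd using hd.inv hz
  · rw [← map_mul, ← map_one (mk n), mk_eq_mk]
    filter_upwards [hne] with z hz
    exact mul_inv_cancel₀ hz

instance : Nontrivial (O n) := (ev0 n).domain_nontrivial

instance isLocalRing : IsLocalRing (O n) :=
  .of_nonunits_add fun a b ha hb => by
    simp only [mem_nonunits_iff, isUnit_iff, not_not] at ha hb ⊢
    rw [map_add, ha, hb, add_zero]

theorem mem_maximalIdeal_iff (g : O n) : g ∈ IsLocalRing.maximalIdeal (O n) ↔ ev0 n g = 0 := by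
  rw [IsLocalRing.mem_maximalIdeal, mem_nonunits_iff, isUnit_iff, not_not]

/-- **Hadamard's lemma**: the maximal ideal is generated by the coordinates. -/
theorem maximalIdeal_eq_span : IsLocalRing.maximalIdeal (O n) = Ideal.span (Set.range (X (n := n))) := by
  refine le_antisymm (fun g hg => ?_) (Ideal.span_le.2 ?_)
  · obtain ⟨f, R, hR, hf, rfl⟩ := exists_rep g
    rw [mem_maximalIdeal_iff, ev0_mk] at hg
    have he : mk n f = ∑ i, X i * ofFun hR (differentiableOn_slopes (z₀ := 0) hf hR i) := by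
      simp only [X, ofFun, ← map_mul, ← map_sum]
      rw [mk_eq_mk]
      refine Eventually.of_forall fun z => ?_
      have := sum_slopes 0 f.1 z
      rw [hg, sub_zero] at this
      rw [← this, AddSubmonoidClass.coe_finset_sum, Finset.sum_apply]
      refine Finset.sum_congr rfl fun i _ => ?_
      show (z i - 0) * _ = z i * _
      rw [sub_zero]
    rw [he]
    exact sum_mem fun i _ => Ideal.mul_mem_right _ _ (Ideal.subset_span ⟨i, rfl⟩)
  · rintro _ ⟨i, rfl⟩
    exact (mem_maximalIdeal_iff _).2 (ev0_X i)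

/-- Composition with a map holomorphic near `0` and fixing `0`. -/
def compFun (φ : (Fin m → ℂ) → Fin n → ℂ) (h0 : φ 0 = 0) (hφ : ∀ᶠ z in 𝓝 0, DifferentiableAt ℂ φ z) :
    holFun n →+* holFun m where
  toFun f := ⟨f.1 ∘ φ, by
    have ht : Tendsto φ (𝓝 0) (𝓝 0) := by
      have := hφ.self_of_nhds.continuousAt.tendsto
      rwa [h0] at this
    filter_upwards [hφ, ht.eventually f.2] with z h1 h2 using h2.comp z h1⟩
  map_one' := rfl
  map_mul' _ _ := rfl
  map_zero' := rfl
  map_add' _ _ := rfl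

/-- Pullback of germs. -/
def comap (φ : (Fin m → ℂ) → Fin n → ℂ) (h0 : φ 0 = 0) (hφ : ∀ᶠ z in 𝓝 0, DifferentiableAt ℂ φ z) :
    O n →+* O m :=
  (mk n).liftOfSurjective mk_surjective ⟨(mk m).comp (compFun φ h0 hφ), fun f hf => by
    rw [RingHom.mem_ker] at hf ⊢
    rw [mk_eq_zero] at hf
    have ht : Tendsto φ (𝓝 0) (𝓝 0) := by
      have := hφ.self_of_nhds.continuousAt.tendsto
      rwa [h0] at this
    rw [RingHom.comp_apply, mk_eq_zero]
    exact ht.eventually hf⟩

theorem comap_mk (φ : (Fin m → ℂ) → Fin n → ℂ) (h0 hφ) (f : holFun n) :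
    comap φ h0 hφ (mk n f) = mk m (compFun φ h0 hφ f) := by
  rw [comap]; exact RingHom.liftOfSurjective_comp_apply (mk n) mk_surjective _ f

theorem comap_comap (φ : (Fin n → ℂ) → Fin n → ℂ) (ψ : (Fin n → ℂ) → Fin n → ℂ) (h0 hφ h0' hψ)
    (h : ∀ z, φ (ψ z) = z) (g : O n) : comap ψ h0' hψ (comap φ h0 hφ g) = g := by
  obtain ⟨f, rfl⟩ := mk_surjective g
  rw [comap_mk, comap_mk, mk_eq_mk]
  exact Eventually.of_forall fun z => congrArg f.1 (h z)

/-- The inclusion of germs in the last variables. -/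
def tailMap (n : ℕ) : O n →+* O (n + 1) :=
  comap (fun z => Fin.tail z) rfl (Eventually.of_forall fun _ =>
    differentiableAt_pi.2 fun i => (differentiable_apply (𝕜 := ℂ) (F' := fun _ : Fin (n + 1) => ℂ) i.succ).differentiableAt)

theorem exists_division (f : holFun (n + 1)) {d : ℕ} (hd : IsRegular f.1 d) (g : O (n + 1)) :
    ∃ (q : O (n + 1)) (a : ℕ → O n),
      g = q * mk _ f + ∑ j ∈ Finset.range d, X 0 ^ j * tailMap n (a j) := by
  obtain ⟨g, R₁, hR₁, hg, rfl⟩ := exists_rep g
  obtain ⟨R₂, hR₂, hf⟩ := Metric.eventually_nhds_iff_ball.1 f.2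
  obtain ⟨r, hr, q, a, hq, ha, heq⟩ := division (lt_min hR₁ hR₂)
    (fun z hz => (hf z (ball_subset_ball (min_le_right _ _) hz)).differentiableWithinAt) hd
    (hg.mono (ball_subset_ball (min_le_left _ _)))
  refine ⟨ofFun hr hq, fun j => ofFun hr (ha j), ?_⟩
  simp only [ofFun, tailMap, comap_mk, X, ← map_pow, ← map_mul, ← map_sum, ← map_add]
  rw [mk_eq_mk]
  filter_upwards [ball_mem_nhds 0 hr] with z hz
  rw [Subring.coe_add, Pi.add_apply, Subring.coe_mul, Pi.mul_apply, AddSubmonoidClass.coe_finset_sum, Finset.sum_apply]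
  exact heq z hz

theorem exists_axis_not_eventually_zero {f : (Fin (n + 1) → ℂ) → ℂ} {R : ℝ} (hR : 0 < R)
    (hf : DifferentiableOn ℂ f (ball 0 R)) (hne : ¬ f =ᶠ[𝓝 0] 0) :
    ∃ v : Fin (n + 1) → ℂ, ¬ ∀ᶠ t : ℂ in 𝓝 0, f (t • v) = 0 := by
  by_contra! hall
  refine hne ?_
  filter_upwards [ball_mem_nhds 0 hR] with v hv
  let V : Set ℂ := (fun t : ℂ => t • v) ⁻¹' ball 0 R
  have hV : IsOpen V := isOpen_ball.preimage (continuous_id.smul continuous_const)
  have hconv : Convex ℝ V :=
    (convex_ball (0 : Fin (n + 1) → ℂ) R).linear_preimage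
      ((LinearMap.toSpanSingleton ℂ (Fin (n + 1) → ℂ) v).restrictScalars ℝ)
  have hd : DifferentiableOn ℂ (fun t : ℂ => f (t • v)) V :=
    hf.comp (differentiable_id.smul_const v).differentiableOn fun _ h => h
  have h0 : (0 : ℂ) ∈ V := by simp [V, hR]
  have h1 : (1 : ℂ) ∈ V := by simpa [V] using hv
  have := (hd.analyticOnNhd hV).eqOn_zero_of_preconnected_of_eventuallyEq_zero hconv.isPreconnected h0 (hall v) h1
  simpa using this

theorem exists_linearEquiv_axis (v : Fin (n + 1) → ℂ) (hv : v ≠ 0) :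
    ∃ L : (Fin (n + 1) → ℂ) ≃ₗ[ℂ] (Fin (n + 1) → ℂ), ∀ t, L (axis t) = t • v := by
  obtain ⟨i, hi⟩ := Function.ne_iff.1 hv
  let l : (Fin (n + 1) → ℂ) →ₗ[ℂ] (Fin (n + 1) → ℂ) :=
    LinearMap.pi fun j => (if j = i then 0 else LinearMap.proj (Equiv.swap 0 i j)) + v j • LinearMap.proj 0
  have hl : ∀ z j, l z j = (if j = i then 0 else z (Equiv.swap 0 i j)) + v j * z 0 := by
    intro z j
    simp only [l, LinearMap.pi_apply, LinearMap.add_apply, LinearMap.smul_apply, LinearMap.proj_apply, smul_eq_mul]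
    split_ifs <;> simp
  have hinj : Function.Injective l := by
    refine (injective_iff_map_eq_zero l).2 fun z hz => ?_
    have h0 : z 0 = 0 := by
      have := congrFun hz i
      rw [hl, if_pos rfl, zero_add, Pi.zero_apply, mul_eq_zero] at this
      exact this.resolve_left hi
    funext k
    by_cases hk : k = 0
    · rw [hk, h0]; rfl
    · have hne : Equiv.swap 0 i k ≠ i := fun h => hk (by
        have := congrArg (Equiv.swap 0 i) h
        rwa [Equiv.swap_apply_self, Equiv.swap_apply_right] at this)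
      have := congrFun hz (Equiv.swap 0 i k)
      rwa [hl, if_neg hne, Equiv.swap_apply_self, h0, mul_zero, add_zero] at this
  refine ⟨LinearEquiv.ofInjectiveEndo l hinj, fun t => funext fun j => ?_⟩
  show l (axis t) j = t * v j
  rw [hl]
  have h0 : axis (n := n) t 0 = t := Function.update_self _ _ _
  split_ifs with hj
  · rw [h0, zero_add, mul_comm]
  · have hne : Equiv.swap 0 i j ≠ 0 := fun h => hj (by
      have := congrArg (Equiv.swap 0 i) h
      rwa [Equiv.swap_apply_self, Equiv.swap_apply_left] at this)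
    rw [show axis (n := n) t (Equiv.swap 0 i j) = 0 from Function.update_of_ne hne _ _, h0, zero_add, mul_comm]

theorem fg_of_regular [IsNoetherianRing (O n)] (f : holFun (n + 1)) {d : ℕ} (hd : IsRegular f.1 d)
    (I : Ideal (O (n + 1))) (hI : mk _ f ∈ I) : I.FG := by
  classical
  letI : Algebra (O n) (O (n + 1)) := (tailMap n).toAlgebra
  let M : Submodule (O n) (O (n + 1)) := Submodule.span (O n) ((fun j : ℕ => X (0 : Fin (n + 1)) ^ j) '' Set.Iio d)
  have hM : M.FG := Submodule.fg_span ((Set.finite_Iio d).image _)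
  have hMI : (I.restrictScalars (O n) ⊓ M).FG := by
    haveI : IsNoetherian (O n) M := isNoetherian_of_fg_of_noetherian M hM
    have := IsNoetherian.noetherian ((I.restrictScalars (O n) ⊓ M).comap M.subtype)
    have h2 := this.map M.subtype
    rwa [Submodule.map_comap_eq, Submodule.range_subtype, inf_comm M, inf_assoc, inf_idem] at h2
  obtain ⟨s, hs⟩ := hMI
  refine ⟨insert (mk _ f) s, le_antisymm (Submodule.span_le.2 ?_) fun g hg => ?_⟩
  · intro x hx
    rcases Finset.mem_insert.1 hx with rfl | hx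
    · exact hI
    · have : x ∈ I.restrictScalars (O n) ⊓ M := hs ▸ Submodule.subset_span hx
      exact this.1
  · obtain ⟨q, a, he⟩ := exists_division f hd g
    rw [Finset.coe_insert]
    have hr : g - q * mk _ f ∈ I.restrictScalars (O n) ⊓ M := by
      refine ⟨I.sub_mem hg (I.mul_mem_left q hI), ?_⟩
      rw [he, add_sub_cancel_left]
      refine M.sum_mem fun j hj => ?_
      rw [show X (0 : Fin (n + 1)) ^ j * tailMap n (a j) = a j • (X 0 ^ j) from
        (mul_comm _ _).trans (Algebra.smul_def _ _).symm]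
      exact M.smul_mem _ (Submodule.subset_span ⟨j, Finset.mem_range.1 hj, rfl⟩)
    rw [← hs] at hr
    have h1 : g - q * mk _ f ∈ Ideal.span (insert (mk _ f) (s : Set (O (n + 1)))) :=
      (Submodule.span_le (p := (Ideal.span (insert (mk _ f) (s : Set (O (n + 1))))).restrictScalars (O n))).2
        (fun x hx => Ideal.subset_span (Set.mem_insert_of_mem _ hx)) hr
    have h2 := Ideal.add_mem _ (Ideal.mul_mem_left _ q
      (Ideal.subset_span (Set.mem_insert (mk _ f) (s : Set (O (n + 1)))))) h1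
    rwa [add_sub_cancel] at h2

instance isNoetherianRing : ∀ n : ℕ, IsNoetherianRing (O n)
  | 0 => by
    refine isNoetherianRing_of_ringEquiv ℂ (RingEquiv.ofBijective (C 0) ⟨(C 0).injective, fun g => ?_⟩)
    obtain ⟨f, rfl⟩ := mk_surjective g
    exact ⟨f.1 0, mk_eq_mk.2 (Eventually.of_forall fun z => by rw [Subsingleton.elim z 0]; rfl)⟩
  | n + 1 => by
    haveI := isNoetherianRing n
    rw [isNoetherianRing_iff_ideal_fg]
    intro I
    by_cases hI : I = ⊥
    · rw [hI]; exact Submodule.fg_bot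
    obtain ⟨g, hgI, hg0⟩ := Submodule.exists_mem_ne_zero_of_ne_bot hI
    obtain ⟨f, R, hR, hf, rfl⟩ := exists_rep g
    by_cases hu : IsUnit (mk _ f)
    · rw [I.eq_top_of_isUnit_mem hgI hu]; exact ⟨{1}, by simp⟩
    rw [isUnit_iff, not_not, ev0_mk] at hu
    obtain ⟨v, hv⟩ := exists_axis_not_eventually_zero hR hf (fun h => hg0 (mk_eq_zero.2 h))
    have hv0 : v ≠ 0 := by
      rintro rfl
      exact hv (Eventually.of_forall fun t => by rw [smul_zero, hu])
    obtain ⟨L, hL⟩ := exists_linearEquiv_axis v hv0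
    let φ := comap (fun z => L z) (map_zero L)
      (Eventually.of_forall fun z => L.toLinearMap.toContinuousLinearMap.differentiableAt)
    let ψ := comap (fun z => L.symm z) (map_zero L.symm)
      (Eventually.of_forall fun z => L.symm.toLinearMap.toContinuousLinearMap.differentiableAt)
    let e : O (n + 1) ≃+* O (n + 1) := RingEquiv.ofRingHom φ ψ
      (RingHom.ext fun g => comap_comap _ _ _ _ _ _ L.symm_apply_apply g)
      (RingHom.ext fun g => comap_comap _ _ _ _ _ _ L.apply_symm_apply g)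
    let f' := compFun (fun z => L z) (map_zero L)
      (Eventually.of_forall fun z => L.toLinearMap.toContinuousLinearMap.differentiableAt) f
    obtain ⟨R', hR', hf'⟩ := Metric.eventually_nhds_iff_ball.1 f'.2
    obtain ⟨d, hd⟩ := exists_isRegular hR' (fun z hz => (hf' z hz).differentiableWithinAt)
      (fun h => hv (h.mono fun t ht => by rw [← hL t]; exact ht))
    have he : (I.map e.toRingHom).FG := fg_of_regular f' hd _ (by
      rw [show mk _ f' = e.toRingHom (mk _ f) from (comap_mk _ _ _ f).symm]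
      exact Ideal.mem_map_of_mem _ hgI)
    have := Ideal.FG.map he e.symm.toRingHom
    rwa [Ideal.map_map, show e.symm.toRingHom.comp e.toRingHom = RingHom.id _ from RingHom.ext e.symm_apply_apply,
      Ideal.map_id] at this

end Groth.Agent.AnLocal
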