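import Mathlib.Analysis.Complex.Schwarz
import Mathlib.Analysis.Complex.RemovableSingularity
import Mathlib.Analysis.Complex.LocallyUniformLimit
import Mathlib.Analysis.Calculus.FDeriv.Pi
import Mathlib.Analysis.Calculus.FDeriv.Comp
import Mathlib.Analysis.Calculus.FDeriv.Mul

/-!
Elementary theory of holomorphic functions of several complex variables: difference quotients in
one coordinate, Osgood's lemma, the division by the coordinate functions, uniform limits.
-/

open Metric Filter Topology Set

noncomputable section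

namespace Groth.Agent.AnLocal

/-- The difference quotient of a family is continuous in both variables. -/
theorem continuousAt_dslope_family {S : Type*} [TopologicalSpace S] (k : S → ℂ → ℂ) (c : ℂ) {R : ℝ}
    (hR : 0 < R) {U : Set S} (hU : IsOpen U) (hc : ContinuousOn (fun p : S × ℂ => k p.1 p.2) (U ×ˢ ball c R))
    (hd : ∀ s ∈ U, DifferentiableOn ℂ (k s) (ball c R)) :
    ContinuousOn (fun p : S × ℂ => dslope (k p.1) c p.2) (U ×ˢ ball c R) := by
  rintro ⟨s₀, t₀⟩ ⟨hs₀, ht₀⟩
  refine ContinuousAt.continuousWithinAt ?_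
  have hcAt : ∀ s ∈ U, ∀ t ∈ ball c R, ContinuousAt (fun p : S × ℂ => k p.1 p.2) (s, t) := fun s hs t ht =>
    hc.continuousAt ((hU.prod isOpen_ball).mem_nhds ⟨hs, ht⟩)
  by_cases h0 : t₀ = c
  · subst h0
    have hρ : (0 : ℝ) < R / 2 := half_pos hR
    have hsub : closedBall t₀ (R / 2) ⊆ ball t₀ R := closedBall_subset_ball (half_lt_self hR)
    rw [ContinuousAt, Metric.tendsto_nhds]
    intro ε hε
    let η := ε * (R / 2) / 8
    have hη : 0 < η := by positivity
    have hev : ∀ᶠ s in 𝓝 s₀, ∀ t ∈ closedBall t₀ (R / 2), ‖k s t - k s₀ t‖ < η := by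
      refine (isCompact_closedBall t₀ (R / 2)).eventually_forall_of_forall_eventually fun t ht => ?_
      have h1 : ContinuousAt (fun p : S × ℂ => k p.1 p.2 - k s₀ p.2) (s₀, t) :=
        (hcAt s₀ hs₀ t (hsub ht)).sub
          ((hcAt s₀ hs₀ t (hsub ht)).comp_of_eq (continuousAt_const.prodMk continuousAt_snd) rfl)
      have h2 := (h1.norm).tendsto.eventually_lt_const (show ‖k s₀ t - k s₀ t‖ < η by simpa using hη)
      exact h2
    have hbound : ∀ s ∈ U, (∀ t ∈ closedBall t₀ (R / 2), ‖k s t - k s₀ t‖ < η) → ∀ t ∈ ball t₀ (R / 2),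
        ‖dslope (k s) t₀ t - dslope (k s₀) t₀ t‖ ≤ 2 * η / (R / 2) := by
      intro s hs hb t ht
      have hdd : DifferentiableOn ℂ (fun τ => k s τ - k s₀ τ) (ball t₀ (R / 2)) :=
        ((hd s hs).sub (hd s₀ hs₀)).mono (ball_subset_closedBall.trans hsub)
      have hsl : dslope (fun τ => k s τ - k s₀ τ) t₀ t = dslope (k s) t₀ t - dslope (k s₀) t₀ t := by
        by_cases h : t = t₀
        · subst h
          simp only [dslope_same]
          exact deriv_fun_sub ((hd s hs).differentiableAt (isOpen_ball.mem_nhds (mem_ball_self hR)))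
            ((hd s₀ hs₀).differentiableAt (isOpen_ball.mem_nhds (mem_ball_self hR)))
        · simp only [dslope_of_ne _ h, slope_def_field]
          ring
      rw [← hsl]
      refine Complex.norm_dslope_le_div_of_mapsTo_ball hdd (fun τ hτ => ?_) ht
      rw [mem_closedBall, dist_eq_norm]
      calc ‖k s τ - k s₀ τ - (k s t₀ - k s₀ t₀)‖ ≤ ‖k s τ - k s₀ τ‖ + ‖k s t₀ - k s₀ t₀‖ := norm_sub_le _ _
        _ ≤ 2 * η := by
          linarith [hb τ (ball_subset_closedBall hτ), hb t₀ (mem_closedBall_self hρ.le)]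
    have hcont0 : ContinuousAt (dslope (k s₀) t₀) t₀ :=
      continuousAt_dslope_same.2 ((hd s₀ hs₀).differentiableAt (isOpen_ball.mem_nhds (mem_ball_self hR)))
    have h3 : ∀ᶠ t in 𝓝 t₀, dist (dslope (k s₀) t₀ t) (dslope (k s₀) t₀ t₀) < ε / 2 ∧ t ∈ ball t₀ (R / 2) :=
      ((Metric.tendsto_nhds.1 hcont0 (ε / 2) (half_pos hε))).and (isOpen_ball.mem_nhds (mem_ball_self hρ))
    rw [nhds_prod_eq]
    filter_upwards [(hev.and (hU.mem_nhds hs₀)).prod_mk h3] with p hp
    obtain ⟨⟨hb, hsU⟩, hd1, hd2⟩ := hp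
    have h4 := hbound p.1 hsU hb p.2 hd2
    have h5 : 2 * η / (R / 2) = ε / 4 := by
      simp only [η]; field_simp; ring
    calc dist (dslope (k p.1) t₀ p.2) (dslope (k s₀) t₀ t₀)
        ≤ dist (dslope (k p.1) t₀ p.2) (dslope (k s₀) t₀ p.2) + dist (dslope (k s₀) t₀ p.2) (dslope (k s₀) t₀ t₀) :=
          dist_triangle _ _ _
      _ < ε := by rw [dist_eq_norm]; linarith
  · have hne : ∀ᶠ p : S × ℂ in 𝓝 (s₀, t₀), p.2 ≠ c := continuousAt_snd.eventually_ne h0
    refine ContinuousAt.congr (f := fun p : S × ℂ => (k p.1 p.2 - k p.1 c) / (p.2 - c)) ?_ ?_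
    · refine ((hcAt s₀ hs₀ t₀ ht₀).sub ((hcAt s₀ hs₀ c (mem_ball_self hR)).comp_of_eq
        (continuousAt_fst.prodMk continuousAt_const) rfl)).div (continuousAt_snd.sub continuousAt_const) ?_
      exact sub_ne_zero.2 h0
    · filter_upwards [hne] with p hp
      rw [dslope_of_ne _ hp, slope_def_field]

variable {n : ℕ}

/-- The difference quotient in the `i`-th coordinate, based at `c`. -/
def dsl (i : Fin n) (c : ℂ) (h : (Fin n → ℂ) → ℂ) (z : Fin n → ℂ) : ℂ :=
  dslope (fun t => h (Function.update z i t)) c (z i)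

theorem sub_mul_dsl (i : Fin n) (c : ℂ) (h : (Fin n → ℂ) → ℂ) (z : Fin n → ℂ) :
    (z i - c) * dsl i c h z = h z - h (Function.update z i c) := by
  have := sub_smul_dslope (fun t => h (Function.update z i t)) c (z i)
  rw [smul_eq_mul, Function.update_eq_self] at this
  exact this

theorem update_mem_ball {z z₀ : Fin n → ℂ} {R : ℝ} (hz : z ∈ ball z₀ R) (i : Fin n) {t : ℂ}
    (ht : t ∈ ball (z₀ i) R) : Function.update z i t ∈ ball z₀ R := by
  have hR := dist_nonneg.trans_lt (mem_ball.1 hz)
  rw [ball_pi z₀ hR, Set.mem_univ_pi] at hz ⊢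
  intro j
  by_cases hj : j = i
  · subst hj; rwa [Function.update_self]
  · rw [Function.update_of_ne hj]; exact hz j

/-- Differentiability in each variable separately. -/
def SepDiff (h : (Fin n → ℂ) → ℂ) (U : Set (Fin n → ℂ)) : Prop :=
  ∀ z ∈ U, ∀ i, DifferentiableAt ℂ (fun t => h (Function.update z i t)) (z i)

theorem differentiableAt_update (z : Fin n → ℂ) (i : Fin n) (t : ℂ) :
    DifferentiableAt ℂ (fun t => Function.update z i t) t :=
  differentiableAt_pi.2 fun j => by
    by_cases hj : j = i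
    · subst hj; simp [differentiableAt_id]
    · simp [Function.update_of_ne hj]

theorem sepDiff_of_differentiableOn {h : (Fin n → ℂ) → ℂ} {U : Set (Fin n → ℂ)} (hU : IsOpen U)
    (hd : DifferentiableOn ℂ h U) : SepDiff h U := by
  intro z hz i
  have h1 : DifferentiableAt ℂ h (Function.update z i (z i)) := by
    rw [Function.update_eq_self]; exact hd.differentiableAt (hU.mem_nhds hz)
  exact h1.comp (z i) (differentiableAt_update z i (z i))

theorem differentiableOn_update {h : (Fin n → ℂ) → ℂ} {z₀ : Fin n → ℂ} {R : ℝ}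
    (hs : SepDiff h (ball z₀ R)) {z : Fin n → ℂ} (hz : z ∈ ball z₀ R) (i : Fin n) :
    DifferentiableOn ℂ (fun t => h (Function.update z i t)) (ball (z₀ i) R) := by
  intro t ht
  have := hs _ (update_mem_ball hz i ht) i
  rw [Function.update_self] at this
  simp only [Function.update_idem] at this
  exact this.differentiableWithinAt

theorem continuous_update (i : Fin n) :
    Continuous fun p : (Fin n → ℂ) × ℂ => Function.update p.1 i p.2 :=
  continuous_fst.update i continuous_snd

theorem continuousOn_dsl_family {h : (Fin n → ℂ) → ℂ} {z₀ : Fin n → ℂ} {R : ℝ}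
    (hc : ContinuousOn h (ball z₀ R)) (hs : SepDiff h (ball z₀ R)) (hR : 0 < R) (i : Fin n) :
    ContinuousOn (fun p : (Fin n → ℂ) × ℂ => dslope (fun t => h (Function.update p.1 i t)) (z₀ i) p.2)
      (ball z₀ R ×ˢ ball (z₀ i) R) :=
  continuousAt_dslope_family (fun z t => h (Function.update z i t)) (z₀ i) hR isOpen_ball
    (hc.comp (continuous_update i).continuousOn fun p hp => update_mem_ball hp.1 i hp.2)
    fun z hz => differentiableOn_update hs hz i

theorem continuousOn_dsl {h : (Fin n → ℂ) → ℂ} {z₀ : Fin n → ℂ} {R : ℝ}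
    (hc : ContinuousOn h (ball z₀ R)) (hs : SepDiff h (ball z₀ R)) (hR : 0 < R) (i : Fin n) :
    ContinuousOn (dsl i (z₀ i) h) (ball z₀ R) := by
  refine (continuousOn_dsl_family hc hs hR i).comp (continuous_id.prodMk (continuous_apply i)).continuousOn
    fun z hz => ⟨hz, ?_⟩
  rw [ball_pi z₀ hR, Set.mem_univ_pi] at hz
  exact hz i

/-- The point with coordinates those of `z` below `k` and those of `z₀` from `k` on. -/
def mixed (z₀ : Fin n → ℂ) (k : ℕ) (z : Fin n → ℂ) : Fin n → ℂ := fun j => if (j : ℕ) < k then z j else z₀ j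

theorem mixed_mem {z₀ z : Fin n → ℂ} {R : ℝ} (hz : z ∈ ball z₀ R) (k : ℕ) : mixed z₀ k z ∈ ball z₀ R := by
  have hR := dist_nonneg.trans_lt (mem_ball.1 hz)
  rw [ball_pi z₀ hR, Set.mem_univ_pi] at hz ⊢
  intro j
  unfold mixed
  split_ifs
  · exact hz j
  · exact mem_ball_self hR

theorem differentiable_mixed (z₀ : Fin n → ℂ) (k : ℕ) : Differentiable ℂ (mixed z₀ k) :=
  differentiable_pi.2 fun j => by
    unfold mixed
    split_ifs
    · exact differentiable_apply (𝕜 := ℂ) (F' := fun _ : Fin n => ℂ) j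
    · exact differentiable_const _

theorem mixed_update (z₀ : Fin n → ℂ) (i : Fin n) (z : Fin n → ℂ) :
    Function.update (mixed z₀ (i + 1) z) i (z₀ i) = mixed z₀ i z := by
  ext j
  by_cases hj : j = i
  · subst hj; simp [mixed]
  · rw [Function.update_of_ne hj]
    have : (j : ℕ) ≠ i := fun h => hj (Fin.ext h)
    simp only [mixed]
    split_ifs <;> first | rfl | omega

/-- A slope in each coordinate: `h z - h z₀ = ∑ (z i - z₀ i) * slopes z₀ h i z`. -/
def slopes (z₀ : Fin n → ℂ) (h : (Fin n → ℂ) → ℂ) (i : Fin n) (z : Fin n → ℂ) : ℂ :=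
  dsl i (z₀ i) h (mixed z₀ (i + 1) z)

theorem sum_slopes (z₀ : Fin n → ℂ) (h : (Fin n → ℂ) → ℂ) (z : Fin n → ℂ) :
    ∑ i, (z i - z₀ i) * slopes z₀ h i z = h z - h z₀ := by
  have h1 : ∀ i : Fin n, (z i - z₀ i) * slopes z₀ h i z = h (mixed z₀ (i + 1) z) - h (mixed z₀ i z) := by
    intro i
    have := sub_mul_dsl i (z₀ i) h (mixed z₀ (i + 1) z)
    rw [mixed_update, show mixed z₀ (i + 1) z i = z i from if_pos (Nat.lt_succ_self _)] at this
    exact this
  rw [Finset.sum_congr rfl fun i _ => h1 i,
    Fin.sum_univ_eq_sum_range (fun k => h (mixed z₀ (k + 1) z) - h (mixed z₀ k z)) n,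
    Finset.sum_range_sub (fun k => h (mixed z₀ k z))]
  congr 2 <;> ext j <;> simp [mixed]

theorem continuousOn_slopes {h : (Fin n → ℂ) → ℂ} {z₀ : Fin n → ℂ} {R : ℝ}
    (hc : ContinuousOn h (ball z₀ R)) (hs : SepDiff h (ball z₀ R)) (hR : 0 < R) (i : Fin n) :
    ContinuousOn (slopes z₀ h i) (ball z₀ R) :=
  (continuousOn_dsl hc hs hR i).comp (differentiable_mixed z₀ _).continuous.continuousOn fun _ hz => mixed_mem hz _

/-- **Osgood's lemma**: a continuous function holomorphic in each variable is holomorphic. -/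
theorem differentiableOn_of_sepDiff {h : (Fin n → ℂ) → ℂ} {U : Set (Fin n → ℂ)} (hU : IsOpen U)
    (hc : ContinuousOn h U) (hs : SepDiff h U) : DifferentiableOn ℂ h U := by
  intro z₀ hz₀
  obtain ⟨R, hR, hRU⟩ := Metric.isOpen_iff.1 hU z₀ hz₀
  have hH : ∀ i, ContinuousAt (slopes z₀ h i) z₀ := fun i =>
    (continuousOn_slopes (hc.mono hRU) (fun z hz => hs z (hRU hz)) hR i).continuousAt
      (isOpen_ball.mem_nhds (mem_ball_self hR))
  let L : (Fin n → ℂ) →L[ℂ] ℂ := ∑ i, slopes z₀ h i z₀ • ContinuousLinearMap.proj (R := ℂ) i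
  refine (DifferentiableAt.differentiableWithinAt ⟨L, ?_⟩)
  rw [hasFDerivAt_iff_isLittleO]
  have he : ∀ z, h z - h z₀ - L (z - z₀) = ∑ i, (z i - z₀ i) * (slopes z₀ h i z - slopes z₀ h i z₀) := by
    intro z
    rw [← sum_slopes z₀ h z]
    simp only [L, ContinuousLinearMap.sum_apply, ContinuousLinearMap.smul_apply, ContinuousLinearMap.proj_apply,
      Pi.sub_apply, smul_eq_mul, ← Finset.sum_sub_distrib]
    refine Finset.sum_congr rfl fun i _ => ?_
    ring
  simp only [he]
  refine Asymptotics.IsLittleO.fun_sum fun i _ => ?_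
  have h2 : (fun z => slopes z₀ h i z - slopes z₀ h i z₀) =o[𝓝 z₀] (fun _ => (1 : ℝ)) := by
    refine (Asymptotics.isLittleO_one_iff ℝ).2 ?_
    simpa using Filter.Tendsto.sub_const (hH i).tendsto (slopes z₀ h i z₀)
  have h1 : (fun z : Fin n → ℂ => z i - z₀ i) =O[𝓝 z₀] fun z => ‖z - z₀‖ :=
    Asymptotics.IsBigO.of_bound 1 (Eventually.of_forall fun z => by
      simpa using norm_le_pi_norm (z - z₀) i)
  have h3 := h1.mul_isLittleO h2
  simp only [mul_one] at h3
  exact h3.of_norm_right

theorem differentiableOn_dsl {h : (Fin n → ℂ) → ℂ} {z₀ : Fin n → ℂ} {R : ℝ}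
    (hd : DifferentiableOn ℂ h (ball z₀ R)) (hR : 0 < R) (i : Fin n) :
    DifferentiableOn ℂ (dsl i (z₀ i) h) (ball z₀ R) := by
  have hs := sepDiff_of_differentiableOn isOpen_ball hd
  refine differentiableOn_of_sepDiff isOpen_ball (continuousOn_dsl hd.continuousOn hs hR i) fun z hz j => ?_
  have hzc : ∀ j, z j ∈ ball (z₀ j) R := by
    rw [ball_pi z₀ hR, Set.mem_univ_pi] at hz; exact hz
  by_cases hj : j = i
  · subst hj
    have he : (fun t => dsl j (z₀ j) h (Function.update z j t)) =
        dslope (fun t => h (Function.update z j t)) (z₀ j) := by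
      funext t
      simp only [dsl, Function.update_self, Function.update_idem]
    rw [he]
    exact ((Complex.differentiableOn_dslope (isOpen_ball.mem_nhds (mem_ball_self hR))).2
      (differentiableOn_update hs hz j)).differentiableAt (isOpen_ball.mem_nhds (hzc j))
  · have hcomm : ∀ t τ, Function.update (Function.update z j t) i τ = Function.update (Function.update z i τ) j t :=
      fun t τ => Function.update_comm hj _ _ _
    have he : ∀ t, dsl i (z₀ i) h (Function.update z j t) =
        dslope (fun τ => h (Function.update (Function.update z j t) i τ)) (z₀ i) (z i) := fun t => by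
      simp only [dsl, Function.update_of_ne (Ne.symm hj)]
    have hquot : ∀ τ : ℂ, τ ∈ ball (z₀ i) R → τ ≠ z₀ i → DifferentiableOn ℂ
        (fun t => dslope (fun τ => h (Function.update (Function.update z j t) i τ)) (z₀ i) τ) (ball (z₀ j) R) := by
      intro τ hτ hne
      simp only [dslope_of_ne _ hne, slope_def_field, hcomm]
      exact ((differentiableOn_update hs (update_mem_ball hz i hτ) j).sub
        (differentiableOn_update hs (update_mem_ball hz i (mem_ball_self hR)) j)).div_const _
    suffices hsuff : DifferentiableOn ℂ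
        (fun t => dslope (fun τ => h (Function.update (Function.update z j t) i τ)) (z₀ i) (z i)) (ball (z₀ j) R) by
      rw [show (fun t => dsl i (z₀ i) h (Function.update z j t)) = _ from funext he]
      exact hsuff.differentiableAt (isOpen_ball.mem_nhds (hzc j))
    by_cases hzi : z i = z₀ i
    · rw [hzi]
      have hlim := continuousOn_dsl_family hd.continuousOn hs hR i
      refine TendstoLocallyUniformlyOn.differentiableOn (φ := 𝓝[≠] (z₀ i))
        (F := fun τ t => dslope (fun τ' => h (Function.update (Function.update z j t) i τ')) (z₀ i) τ) ?_ ?_ isOpen_ball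
      · rw [Metric.tendstoLocallyUniformlyOn_iff]
        intro ε hε t ht
        have hmap : ContinuousAt (fun p : ℂ × ℂ =>
            dslope (fun τ' => h (Function.update (Function.update z j p.1) i τ')) (z₀ i) p.2) (t, z₀ i) := by
          refine ContinuousAt.comp (g := fun p : (Fin n → ℂ) × ℂ => dslope (fun τ' => h (Function.update p.1 i τ')) (z₀ i) p.2)
            (f := fun p : ℂ × ℂ => (Function.update z j p.1, p.2)) ?_ ?_
          · exact hlim.continuousAt ((isOpen_ball.prod isOpen_ball).mem_nhds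
              ⟨update_mem_ball hz j ht, mem_ball_self hR⟩)
          · exact ((continuous_const.update j continuous_fst).prodMk continuous_snd).continuousAt
        have h1 := Metric.tendsto_nhds.1 hmap (ε / 2) (half_pos hε)
        rw [nhds_prod_eq, Filter.eventually_prod_iff] at h1
        obtain ⟨P, hP, Q, hQ, hPQ⟩ := h1
        refine ⟨{t' | P t'}, mem_nhdsWithin_of_mem_nhds hP, ?_⟩
        filter_upwards [mem_nhdsWithin_of_mem_nhds hQ] with τ hτ t' ht'
        calc dist _ _ ≤ dist (dslope (fun τ' => h (Function.update (Function.update z j t') i τ')) (z₀ i) (z₀ i))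
              (dslope (fun τ' => h (Function.update (Function.update z j t) i τ')) (z₀ i) (z₀ i)) +
              dist (dslope (fun τ' => h (Function.update (Function.update z j t) i τ')) (z₀ i) (z₀ i))
              (dslope (fun τ' => h (Function.update (Function.update z j t') i τ')) (z₀ i) τ) := dist_triangle _ _ _
          _ < ε := by
            have a := hPQ ht' hQ.self_of_nhds
            have b := hPQ ht' hτ
            rw [dist_comm] at b
            linarith
      · filter_upwards [self_mem_nhdsWithin, mem_nhdsWithin_of_mem_nhds (isOpen_ball.mem_nhds (mem_ball_self hR))]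
          with τ h1 h2 using hquot τ h2 h1
    · exact hquot _ (hzc i) hzi

theorem differentiableOn_slopes {h : (Fin n → ℂ) → ℂ} {z₀ : Fin n → ℂ} {R : ℝ}
    (hd : DifferentiableOn ℂ h (ball z₀ R)) (hR : 0 < R) (i : Fin n) :
    DifferentiableOn ℂ (slopes z₀ h i) (ball z₀ R) :=
  (differentiableOn_dsl hd hR i).comp (differentiable_mixed z₀ _).differentiableOn fun _ hz => mixed_mem hz _

/-- The bound for the difference quotient. -/
theorem norm_dsl_le {h : (Fin n → ℂ) → ℂ} {z₀ : Fin n → ℂ} {R M : ℝ} (hd : DifferentiableOn ℂ h (ball z₀ R))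
    (hM : ∀ z ∈ ball z₀ R, ‖h z‖ ≤ M) (i : Fin n) {z : Fin n → ℂ} (hz : z ∈ ball z₀ R) :
    ‖dsl i (z₀ i) h z‖ ≤ 2 * M / R := by
  have hR := dist_nonneg.trans_lt (mem_ball.1 hz)
  have hzc : z i ∈ ball (z₀ i) R := by
    rw [ball_pi z₀ hR, Set.mem_univ_pi] at hz; exact hz i
  refine Complex.norm_dslope_le_div_of_mapsTo_ball
    (differentiableOn_update (sepDiff_of_differentiableOn isOpen_ball hd) hz i) (fun τ hτ => ?_) hzc
  rw [mem_closedBall, dist_eq_norm]
  calc _ ≤ ‖h (Function.update z i τ)‖ + ‖h (Function.update z i (z₀ i))‖ := norm_sub_le _ _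
    _ ≤ 2 * M := by
      linarith [hM _ (update_mem_ball hz i hτ), hM _ (update_mem_ball hz i (mem_ball_self hR))]

/-- Uniform limits of holomorphic functions are holomorphic. -/
theorem differentiableOn_of_tendstoUniformlyOn {ι : Type*} {φ : Filter ι} [φ.NeBot]
    {F : ι → (Fin n → ℂ) → ℂ} {h : (Fin n → ℂ) → ℂ} {U : Set (Fin n → ℂ)} (hU : IsOpen U)
    (hF : ∀ k, DifferentiableOn ℂ (F k) U) (hlim : TendstoUniformlyOn F h φ U) : DifferentiableOn ℂ h U := by
  refine differentiableOn_of_sepDiff hU (hlim.continuousOn (Eventually.of_forall fun k => (hF k).continuousOn).frequently)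
    fun z hz i => ?_
  let V : Set ℂ := (fun t => Function.update z i t) ⁻¹' U
  have hV : IsOpen V := hU.preimage (continuous_const.update i continuous_id)
  have hzV : z i ∈ V := by simpa [V] using hz
  refine (TendstoLocallyUniformlyOn.differentiableOn (F := fun k t => F k (Function.update z i t)) (φ := φ)
    (hlim.comp (fun t => Function.update z i t)).tendstoLocallyUniformlyOn
    (Eventually.of_forall fun k => fun t ht => ?_) hV).differentiableAt (hV.mem_nhds hzV)
  exact (((hF k).differentiableAt (hU.mem_nhds ht)).comp t (differentiableAt_update z i t)).differentiableWithinAt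

end Groth.Agent.AnLocal
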