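import Groth.Agent.AnLocal.Germ
import Groth.Agent.LocalCrit.Completion
import Mathlib.RingTheory.MvPolynomial.Ideal
import Mathlib.RingTheory.MvPolynomial.Homogeneous
import Mathlib.Algebra.MvPolynomial.Funext

/-!
Polynomials in the ring of germs: the map is bijective modulo each power of the maximal ideal, hence flat.
-/

open Filter Topology MvPolynomial

noncomputable section

namespace Groth.Agent.AnLocal

variable (N : ℕ)

/-- Polynomials as functions holomorphic near `0`. -/
def polyFun : MvPolynomial (Fin N) ℂ →+* holFun N :=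
  eval₂Hom ((Pi.constRingHom (Fin N → ℂ) ℂ).codRestrict (holFun N) fun _ =>
      Eventually.of_forall fun _ => differentiableAt_const _)
    fun i => ⟨fun z => z i, Eventually.of_forall fun _ =>
      (differentiable_apply (𝕜 := ℂ) (F' := fun _ : Fin N => ℂ) i).differentiableAt⟩

theorem polyFun_apply (p : MvPolynomial (Fin N) ℂ) (z : Fin N → ℂ) :
    (polyFun N p : (Fin N → ℂ) → ℂ) z = MvPolynomial.eval z p := by
  have : ((Pi.evalRingHom (fun _ : Fin N → ℂ => ℂ) z).comp (holFun N).subtype).comp (polyFun N) =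
      MvPolynomial.eval z := by
    refine MvPolynomial.ringHom_ext (fun c => ?_) fun i => ?_ <;> simp [polyFun]
  exact RingHom.congr_fun this p

/-- Polynomials as germs. -/
def polyHom : MvPolynomial (Fin N) ℂ →+* O N := (mk N).comp (polyFun N)

instance polyAlgebra : Algebra (MvPolynomial (Fin N) ℂ) (O N) := (polyHom N).toAlgebra

theorem algebraMap_eq_polyHom : algebraMap (MvPolynomial (Fin N) ℂ) (O N) = polyHom N := rfl

@[simp] theorem polyHom_C (c : ℂ) : polyHom N (MvPolynomial.C c) = C N c := by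
  simp [polyHom, polyFun, C]

@[simp] theorem polyHom_X (i : Fin N) : polyHom N (MvPolynomial.X i) = X i := by
  simp [polyHom, polyFun, X]

theorem ev0_polyHom (p : MvPolynomial (Fin N) ℂ) : ev0 N (polyHom N p) = MvPolynomial.eval 0 p :=
  polyFun_apply N p 0

theorem map_idealOfVars :
    (idealOfVars (Fin N) ℂ).map (polyHom N) = IsLocalRing.maximalIdeal (O N) := by
  rw [maximalIdeal_eq_span, idealOfVars, Ideal.map_span]
  congr 1
  ext
  simp

theorem exists_mem_pow_sub_mem {n : ℕ} {x : O N} (hx : x ∈ IsLocalRing.maximalIdeal (O N) ^ n) :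
    ∃ q ∈ idealOfVars (Fin N) ℂ ^ n, x - polyHom N q ∈ IsLocalRing.maximalIdeal (O N) ^ (n + 1) := by
  rw [← map_idealOfVars, ← Ideal.map_pow] at hx
  refine Submodule.span_induction (p := fun x _ => ∃ q ∈ idealOfVars (Fin N) ℂ ^ n,
    x - polyHom N q ∈ IsLocalRing.maximalIdeal (O N) ^ (n + 1)) ?_ ?_ ?_ ?_ hx
  · rintro _ ⟨q, hq, rfl⟩
    exact ⟨q, hq, by simp⟩
  · exact ⟨0, zero_mem _, by simp⟩
  · rintro a b _ _ ⟨q, hq, h⟩ ⟨r, hr, h'⟩
    refine ⟨q + r, add_mem hq hr, ?_⟩
    rw [map_add, add_sub_add_comm]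
    exact add_mem h h'
  · rintro g a _ ⟨q, hq, h⟩
    refine ⟨MvPolynomial.C (ev0 N g) * q, Ideal.mul_mem_left _ _ hq, ?_⟩
    rw [smul_eq_mul, map_mul, polyHom_C,
      show g * a - C N (ev0 N g) * polyHom N q =
        g * (a - polyHom N q) + (g - C N (ev0 N g)) * polyHom N q by ring]
    refine add_mem (Ideal.mul_mem_left _ _ h) ?_
    rw [pow_succ']
    refine Ideal.mul_mem_mul ?_ ?_
    · rw [mem_maximalIdeal_iff, map_sub, ev0_C, sub_self]
    · rw [← map_idealOfVars, ← Ideal.map_pow]
      exact Ideal.mem_map_of_mem _ hq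

theorem exists_poly_sub_mem (g : O N) (n : ℕ) :
    ∃ p : MvPolynomial (Fin N) ℂ, g - polyHom N p ∈ IsLocalRing.maximalIdeal (O N) ^ n := by
  induction n with
  | zero => exact ⟨0, by simp⟩
  | succ n ih =>
    obtain ⟨p, hp⟩ := ih
    obtain ⟨q, -, hq⟩ := exists_mem_pow_sub_mem N hp
    exact ⟨p + q, by rwa [map_add, ← sub_sub]⟩

theorem coeff_aeval_line (a : Fin N → ℂ) (p : MvPolynomial (Fin N) ℂ) (k : ℕ) :
    (MvPolynomial.aeval (fun i => Polynomial.C (a i) * Polynomial.X) p).coeff k =
      MvPolynomial.eval a (homogeneousComponent k p) := by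
  induction p using MvPolynomial.induction_on' with
  | monomial d c =>
    have h : MvPolynomial.aeval (fun i => Polynomial.C (a i) * Polynomial.X) (monomial d c) =
        Polynomial.C (MvPolynomial.eval a (monomial d c)) * Polynomial.X ^ d.degree := by
      rw [aeval_monomial, eval_monomial, map_mul, Finsupp.prod, Finsupp.prod, map_prod, Finsupp.degree_apply,
        ← Finset.prod_pow_eq_pow_sum, mul_assoc, ← Finset.prod_mul_distrib]
      congr 1
      exact Finset.prod_congr rfl fun i _ => by rw [map_pow, mul_pow]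
    rw [h, Polynomial.coeff_C_mul, Polynomial.coeff_X_pow,
      homogeneousComponent_of_mem (isHomogeneous_monomial c (show d.degree = d.degree from rfl))]
    split_ifs with h <;> simp
  | add p q hp hq => simp [hp, hq]

theorem coeff_eq_zero_of_mem_pow {n : ℕ} (q : Polynomial ℂ)
    (hq : q.eval₂ (C 1) (X 0) ∈ IsLocalRing.maximalIdeal (O 1) ^ n) : ∀ k < n, q.coeff k = 0 := by
  induction n generalizing q with
  | zero => exact fun k hk => absurd hk (Nat.not_lt_zero k)
  | succ n ih =>
    have hm : IsLocalRing.maximalIdeal (O 1) = Ideal.span {X 0} := by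
      rw [maximalIdeal_eq_span, Set.range_unique]; rfl
    have hX : ∀ g : O 1, X 0 * g = 0 → g = 0 := by
      intro g hg
      obtain ⟨f, R, hR, hf, rfl⟩ := exists_rep g
      rw [X, ← map_mul, mk_eq_zero] at hg
      rw [mk_eq_zero]
      obtain ⟨r, hr, hball⟩ := Metric.eventually_nhds_iff_ball.1 hg
      have hzero : ∀ z ∈ Metric.ball (0 : Fin 1 → ℂ) (min r R), z ≠ 0 → f.1 z = 0 := fun z hz hne => by
        have := hball z (Metric.ball_subset_ball (min_le_left _ _) hz)
        refine (mul_eq_zero.1 this).resolve_left fun h => hne (funext fun i => ?_)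
        rw [Subsingleton.elim i 0]; exact h
      have hc : ContinuousAt f.1 0 :=
        (hf.differentiableAt (Metric.isOpen_ball.mem_nhds (Metric.mem_ball_self hR))).continuousAt
      have h0 : f.1 0 = 0 := by
        by_contra h0
        obtain ⟨s, hs, hs'⟩ := Metric.eventually_nhds_iff_ball.1 (hc.eventually_ne h0)
        obtain ⟨t, ht0, ht⟩ : ∃ t : ℝ, 0 < t ∧ t < min s (min r R) :=
          exists_between (lt_min hs (lt_min hr hR))
        have hz : (fun _ : Fin 1 => (t : ℂ)) ∈ Metric.ball (0 : Fin 1 → ℂ) (min s (min r R)) := by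
          rw [mem_ball_zero_iff, pi_norm_lt_iff (ht0.trans ht)]
          intro i
          rw [Complex.norm_real, Real.norm_of_nonneg ht0.le]; exact ht
        refine hs' _ (Metric.ball_subset_ball (min_le_left _ _) hz)
          (hzero _ (Metric.ball_subset_ball (min_le_right _ _) hz) fun h => ht0.ne' ?_)
        simpa using congrFun h 0
      filter_upwards [Metric.ball_mem_nhds 0 (lt_min hr hR)] with z hz
      by_cases hne : z = 0
      · rw [hne]; exact h0
      · exact hzero z hz hne
    rw [hm, Ideal.span_singleton_pow, Ideal.mem_span_singleton] at hq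
    obtain ⟨g, hg⟩ := hq
    have h0 : q.coeff 0 = 0 := by
      have := congrArg (ev0 1) hg
      rw [map_mul, map_pow, ev0_X, zero_pow n.succ_ne_zero, zero_mul, Polynomial.hom_eval₂, ev0_X,
        Polynomial.eval₂_at_zero] at this
      simpa using this
    obtain ⟨q', rfl⟩ : Polynomial.X ∣ q := Polynomial.X_dvd_iff.2 h0
    rw [Polynomial.eval₂_mul, Polynomial.eval₂_X, pow_succ', mul_assoc] at hg
    have hg' : q'.eval₂ (C 1) (X 0) = X 0 ^ n * g := sub_eq_zero.1 (hX _ (by rw [mul_sub, hg, sub_self]))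
    intro k hk
    rcases k with - | k
    · exact h0
    · rw [Polynomial.coeff_X_mul]
      refine ih q' ?_ k (Nat.lt_of_succ_lt_succ hk)
      rw [hg', hm, Ideal.span_singleton_pow]
      exact Ideal.mul_mem_right _ _ (Ideal.mem_span_singleton_self _)

theorem comap_polyHom {m : ℕ} (φ : (Fin m → ℂ) → Fin N → ℂ) (h0 hφ) (p : MvPolynomial (Fin N) ℂ) :
    comap φ h0 hφ (polyHom N p) =
      eval₂Hom (C m) (fun i => comap φ h0 hφ (X i)) p := by
  have : (comap φ h0 hφ).comp (polyHom N) = eval₂Hom (C m) (fun i => comap φ h0 hφ (X i)) := by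
    refine MvPolynomial.ringHom_ext (fun c => ?_) fun i => by simp
    simp only [RingHom.comp_apply, polyHom_C, eval₂Hom_C]
    simp only [C, RingHom.comp_apply, comap_mk]
    rfl
  exact RingHom.congr_fun this p

theorem mem_pow_of_polyHom_mem {n : ℕ} {p : MvPolynomial (Fin N) ℂ}
    (hp : polyHom N p ∈ IsLocalRing.maximalIdeal (O N) ^ n) : p ∈ idealOfVars (Fin N) ℂ ^ n := by
  rw [mem_pow_idealOfVars_iff']
  intro d hd
  suffices homogeneousComponent d.degree p = 0 by
    have h := congrArg (MvPolynomial.coeff d) this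
    rwa [coeff_homogeneousComponent, if_pos rfl, MvPolynomial.coeff_zero] at h
  refine MvPolynomial.funext fun a => ?_
  rw [map_zero, ← coeff_aeval_line]
  have h0 : (fun z : Fin 1 → ℂ => z 0 • a) 0 = 0 := by simp
  have hφ : ∀ᶠ z in 𝓝 (0 : Fin 1 → ℂ), DifferentiableAt ℂ (fun z : Fin 1 → ℂ => z 0 • a) z :=
    Eventually.of_forall fun z =>
      ((differentiable_apply (𝕜 := ℂ) (F' := fun _ : Fin 1 => ℂ) 0).smul_const a).differentiableAt
  refine coeff_eq_zero_of_mem_pow _ ?_ _ hd
  let φ := comap (fun z : Fin 1 → ℂ => z 0 • a) h0 hφ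
  have h1 : φ (polyHom N p) ∈ IsLocalRing.maximalIdeal (O 1) ^ n := by
    have h2 := Ideal.mem_map_of_mem φ hp
    rw [Ideal.map_pow] at h2
    refine Ideal.pow_right_mono ?_ n h2
    rw [maximalIdeal_eq_span, Ideal.map_span, Ideal.span_le]
    rintro _ ⟨_, ⟨i, rfl⟩, rfl⟩
    rw [SetLike.mem_coe, mem_maximalIdeal_iff]
    simp only [φ, X, comap_mk, ev0_mk]
    simp [compFun]
  have hX : ∀ i, φ (X i) = C 1 (a i) * X 0 := by
    intro i
    simp only [φ, X, comap_mk, C, RingHom.comp_apply, ← map_mul]
    rw [mk_eq_mk]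
    exact Eventually.of_forall fun z => mul_comm _ _
  convert h1 using 1
  rw [comap_polyHom]
  have : (Polynomial.eval₂RingHom (C 1) (X 0)).comp
      (MvPolynomial.aeval fun i => Polynomial.C (a i) * Polynomial.X).toRingHom =
      eval₂Hom (C 1) (fun i => φ (X i)) := by
    refine MvPolynomial.ringHom_ext (fun c => by simp) fun i => by simp [hX]
  exact RingHom.congr_fun this p

/-- Germs of holomorphic functions are flat over polynomials. -/
instance flat_polyHom : Module.Flat (MvPolynomial (Fin N) ℂ) (O N) := by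
  refine LocalCrit.flat_of_forall_quotient_pow (B := O N) (idealOfVars (Fin N) ℂ) ?_ fun n =>
    LocalCrit.keepsInjective_of_bijective_mod (C := MvPolynomial (Fin N) ℂ) _
      (Algebra.ofId _ (O N)) (fun b => ?_) fun c hc => ?_
  · rw [algebraMap_eq_polyHom, map_idealOfVars]
    exact IsLocalRing.maximalIdeal_le_jacobson _
  · obtain ⟨p, hp⟩ := exists_poly_sub_mem N b n
    refine ⟨p, ?_⟩
    rw [Ideal.map_pow, algebraMap_eq_polyHom, map_idealOfVars]
    exact hp
  · rw [Ideal.map_pow, algebraMap_eq_polyHom, map_idealOfVars] at hc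
    rw [Algebra.algebraMap_self, Ideal.map_id]
    exact mem_pow_of_polyHom_mem N hc

end Groth.Agent.AnLocal
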