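import Groth.Agent.AnLocal.Compare
import Groth.Agent.SmallFlat.Misc

/-!
The maps of algebraic and analytic local rings induced by a morphism: compatibility, and transfer of
flatness and of the unramified condition.
-/

open AlgebraicGeometry CategoryTheory TopologicalSpace Filter Topology IsLocalRing TensorProduct

noncomputable section

namespace Groth.Agent.AnLocal

open An An.Pts

variable {X Y : Scheme.{0}} [X.Over SC] [Y.Over SC] (f : X ⟶ Y) [f.IsOver SC] (x : Pts X)

/-- The map of algebraic local rings at the points. -/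
def algStalk : Y.presheaf.stalk (Pts.map f x).pt →+* X.presheaf.stalk x.pt :=
  (Y.presheaf.stalkSpecializes (specializes_of_eq (pt_map f x).symm) ≫ f.stalkMap x.pt).hom

/-- The map of analytic local rings. -/
abbrev anStalk : (anSpace Y).presheaf.stalk (Pts.map f x) →+* (anSpace X).presheaf.stalk x :=
  (PresheafedSpace.Hom.stalkMap (anMap f) x).hom

theorem algStalk_germ (V : Y.Opens) (h : (Pts.map f x).pt ∈ V) (s : Γ(Y, V)) :
    algStalk f x (Y.presheaf.germ V _ h s) =
      X.presheaf.germ (f ⁻¹ᵁ V) x.pt (show f x.pt ∈ V by rwa [pt_map] at h) (f.app V s) := by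
  show f.stalkMap x.pt (Y.presheaf.stalkSpecializes _ (Y.presheaf.germ V _ h s)) = _
  rw [TopCat.Presheaf.germ_stalkSpecializes_apply]
  exact Scheme.Hom.germ_stalkMap_apply f V x.pt _ s

instance isLocalHom_algStalk : IsLocalHom (algStalk f x) := by
  refine ⟨fun a ha => ?_⟩
  have h1 := (isUnit_map_iff (f.stalkMap x.pt).hom _).1 ha
  have e : Inseparable (f x.pt) (Pts.map f x).pt := Inseparable.of_eq (pt_map f x).symm
  exact (isUnit_map_iff (Y.presheaf.stalkCongr e.symm).commRingCatIsoToRingEquiv _).1 h1

theorem flat_algStalk_iff : (algStalk f x).Flat ↔ (f.stalkMap x.pt).hom.Flat := by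
  have e : Inseparable (f x.pt) (Pts.map f x).pt := Inseparable.of_eq (pt_map f x).symm
  haveI : IsIso (Y.presheaf.stalkSpecializes (specializes_of_eq (pt_map f x).symm)) :=
    (Y.presheaf.stalkCongr e.symm).isIso_hom
  exact RingHom.Flat.respectsIso.cancel_left_isIso _ _

theorem val_anStalk (b : (anSpace Y).presheaf.stalk (Pts.map f x)) :
    val x (anStalk f x b) = (val (Pts.map f x) b).compTendsto (Pts.map f) (continuous_map f).continuousAt := by
  obtain ⟨V, hV, s, rfl⟩ := TopCat.Presheaf.exists_germ_eq _ b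
  rw [val_germ]
  have h := ConcreteCategory.congr_hom (PresheafedSpace.stalkMap_germ (anMap f) V x hV) s
  simp only [CommRingCat.comp_apply] at h
  show val x ((PresheafedSpace.Hom.stalkMap (anMap f) x).hom _) = _
  erw [h, val_germ]
  refine Germ.coe_eq.2 ?_
  filter_upwards [(continuous_map f).continuousAt.preimage_mem_nhds (V.2.mem_nhds hV)] with y hy
  show _ = ext0 s.1 (Pts.map f y)
  rw [ext0_apply s.1 hy]
  exact ext0_apply _ (show y ∈ (Opens.map (anMap f).base).obj V from hy)

theorem val_ψ_germ (U : X.Opens) (h : x.pt ∈ U) (s : Γ(X, U)) :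
    val x (ψ x (X.presheaf.germ U x.pt h s)) =
      (ext0 (U := (Opens.map (anToScheme X).base).obj U) (fun y => y.1.ev U y.2 s) : Germ (𝓝 x) ℂ) := by
  have e := ConcreteCategory.congr_hom (PresheafedSpace.stalkMap_germ (anToScheme X) U x h) s
  simp only [CommRingCat.comp_apply] at e
  show val x ((PresheafedSpace.Hom.stalkMap (anToScheme X) x).hom _) = _
  erw [e, val_germ]
  rfl

theorem anStalk_comp_ψ : (anStalk f x).comp (ψ (Pts.map f x)) = (ψ x).comp (algStalk f x) := by
  refine RingHom.ext fun a => val_injective x ?_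
  obtain ⟨V, hV, s, rfl⟩ := TopCat.Presheaf.exists_germ_eq _ a
  rw [RingHom.comp_apply, RingHom.comp_apply, val_anStalk, algStalk_germ, val_ψ_germ, val_ψ_germ]
  refine Germ.coe_eq.2 ?_
  have hm : ∀ᶠ y in 𝓝 x, y.pt ∈ f ⁻¹ᵁ V :=
    (isOpen_preimage_pt (f ⁻¹ᵁ V)).mem_nhds (show f x.pt ∈ V by rwa [pt_map] at hV)
  filter_upwards [hm] with y hy
  have hy' : (Pts.map f y).pt ∈ V := by rw [pt_map]; exact hy
  show ext0 _ (Pts.map f y) = _
  rw [ext0_apply _ (show Pts.map f y ∈ (Opens.map (anToScheme Y).base).obj V from hy'),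
    ext0_apply _ (show y ∈ (Opens.map (anToScheme X).base).obj (f ⁻¹ᵁ V) from hy)]
  exact Pts.ev_map f y V hy' s

theorem anStalk_ψ (a : Y.presheaf.stalk (Pts.map f x).pt) :
    anStalk f x (ψ (Pts.map f x) a) = ψ x (algStalk f x a) :=
  RingHom.congr_fun (anStalk_comp_ψ f x) a

variable [LocallyOfFiniteType (X ↘ SC)] [LocallyOfFiniteType (Y ↘ SC)] [IsReduced X] [IsReduced Y]

theorem isLocalHom_anStalk : IsLocalHom (anStalk f x) := by
  refine ((IsLocalRing.local_hom_TFAE (anStalk f x)).out 0 2).2 ?_
  rw [← map_maximalIdeal (Pts.map f x), Ideal.map_map, anStalk_comp_ψ, ← Ideal.map_map, ← map_maximalIdeal x]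
  exact Ideal.map_mono (((IsLocalRing.local_hom_TFAE (algStalk f x)).out 0 2 rfl rfl).mp (isLocalHom_algStalk f x))

theorem map_maximalIdeal_iff :
    (maximalIdeal ((anSpace Y).presheaf.stalk (Pts.map f x))).map (anStalk f x) =
        maximalIdeal ((anSpace X).presheaf.stalk x) ↔
      (maximalIdeal (Y.presheaf.stalk (Pts.map f x).pt)).map (algStalk f x) = maximalIdeal (X.presheaf.stalk x.pt) := by
  rw [← map_maximalIdeal (Pts.map f x), Ideal.map_map, anStalk_comp_ψ, ← Ideal.map_map, ← map_maximalIdeal x]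
  refine ⟨fun h => ?_, fun h => by rw [h]⟩
  letI := (ψ x).toAlgebra
  haveI : Module.Flat (X.presheaf.stalk x.pt) ((anSpace X).presheaf.stalk x) := flat_ψ x
  haveI : IsLocalHom (algebraMap (X.presheaf.stalk x.pt) ((anSpace X).presheaf.stalk x)) := isLocalHom_ψ x
  haveI : Module.FaithfullyFlat (X.presheaf.stalk x.pt) ((anSpace X).presheaf.stalk x) :=
    Module.FaithfullyFlat.of_flat_of_isLocalHom
  have h' := congrArg (Ideal.comap (algebraMap (X.presheaf.stalk x.pt) ((anSpace X).presheaf.stalk x))) h
  rwa [← RingHom.algebraMap_toAlgebra (ψ x), Ideal.comap_map_eq_self_of_faithfullyFlat,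
    Ideal.comap_map_eq_self_of_faithfullyFlat] at h'

theorem keepsInjective_of_dense {A C B : Type} [CommRing A] [CommRing C] [CommRing B] [Algebra A C] [Algebra A B]
    [Algebra C B] [IsScalarTower A C B] [Module.Flat A B] (I : Ideal A)
    (hd : ∀ c : C, ∃ a, c - algebraMap A C a ∈ I.map (algebraMap A C)) :
    LocalCrit.KeepsInjective (I.map (algebraMap A C)) B := by
  intro N N' _ _ _ _ g hN hN' hg
  letI : Module A N := Module.compHom N (algebraMap A C)
  haveI : IsScalarTower A C N := IsScalarTower.of_algebraMap_smul fun _ _ => rfl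
  letI : Module A N' := Module.compHom N' (algebraMap A C)
  haveI : IsScalarTower A C N' := IsScalarTower.of_algebraMap_smul fun _ _ => rfl
  have hc : ∀ (M : Type) [AddCommGroup M] [Module C M] [Module A M] [IsScalarTower A C M]
      (_ : Module.IsTorsionBySet C M (I.map (algebraMap A C) : Ideal C)) (c : C) (m : M) (b : B),
      (c • m) ⊗ₜ[A] b = m ⊗ₜ[A] (c • b) := by
    intro M _ _ _ _ hM c m b
    obtain ⟨a, ha⟩ := hd c
    have h0 : ∀ e ∈ I.map (algebraMap A C), ∀ (m : M) (b : B), m ⊗ₜ[A] (e • b) = 0 := by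
      intro e he
      induction he using Submodule.span_induction with
      | mem e he =>
        obtain ⟨i, hi, rfl⟩ := he
        intro m b
        rw [algebraMap_smul C, TensorProduct.tmul_smul, TensorProduct.smul_tmul', ← algebraMap_smul C i m,
          @hM m ⟨_, Ideal.mem_map_of_mem _ hi⟩, TensorProduct.zero_tmul]
      | zero => simp
      | add u v _ _ hu hv => intro m b; rw [add_smul, TensorProduct.tmul_add, hu, hv, add_zero]
      | smul u v _ hv => intro m b; rw [smul_eq_mul, mul_comm, mul_smul]; exact hv m _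
    have h1 : c • m = a • m := by
      rw [← algebraMap_smul C a m, ← sub_eq_zero, ← sub_smul]
      exact @hM m ⟨_, ha⟩
    rw [h1, TensorProduct.smul_tmul, ← algebraMap_smul C a b, ← sub_eq_zero, ← TensorProduct.tmul_sub, ← sub_smul,
      ← neg_sub, neg_smul, TensorProduct.tmul_neg, h0 _ ha, neg_zero]
  let gA : N →ₗ[A] N' := g.restrictScalars A
  have hgA : Function.Injective (gA.rTensor B) := Module.Flat.rTensor_preserves_injective_linearMap gA hg
  haveI : TensorProduct.CompatibleSMul A C N B := ⟨hc N hN⟩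
  haveI : TensorProduct.CompatibleSMul A C N' B := ⟨hc N' hN'⟩
  let e := TensorProduct.equivOfCompatibleSMul C A A N B
  let e' := TensorProduct.equivOfCompatibleSMul C A A N' B
  have key : ∀ z, g.rTensor B (e z) = e' (gA.rTensor B z) := fun z => by
    induction z using TensorProduct.induction_on with
    | zero => simp
    | tmul u v => rfl
    | add u v hu hv => simp only [map_add, hu, hv]
  intro u v huv
  obtain ⟨u, rfl⟩ := e.surjective u
  obtain ⟨v, rfl⟩ := e.surjective v
  rw [key, key] at huv
  exact congrArg e (hgA (e'.injective huv))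

theorem flat_anStalk_iff : (anStalk f x).Flat ↔ (algStalk f x).Flat := by
  haveI := isNoetherianRing_stalk (X := X) x.pt
  haveI := isNoetherianRing_stalk (X := Y) (Pts.map f x).pt
  let A := Y.presheaf.stalk (Pts.map f x).pt
  let A' := X.presheaf.stalk x.pt
  let C := (anSpace Y).presheaf.stalk (Pts.map f x)
  let B := (anSpace X).presheaf.stalk x
  letI : Algebra A A' := (algStalk f x).toAlgebra
  letI : Algebra A C := (ψ (Pts.map f x)).toAlgebra
  letI : Algebra A' B := (ψ x).toAlgebra
  letI : Algebra C B := (anStalk f x).toAlgebra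
  letI : Algebra A B := ((ψ x).comp (algStalk f x)).toAlgebra
  haveI : IsScalarTower A A' B := IsScalarTower.of_algebraMap_eq fun _ => rfl
  haveI : IsScalarTower A C B := IsScalarTower.of_algebraMap_eq fun a => (anStalk_ψ f x a).symm
  haveI : Module.Flat A C := flat_ψ (Pts.map f x)
  haveI : Module.Flat A' B := flat_ψ x
  haveI : IsLocalHom (algebraMap A' B) := isLocalHom_ψ x
  haveI : Module.FaithfullyFlat A' B := Module.FaithfullyFlat.of_flat_of_isLocalHom
  refine ⟨fun h => ?_, fun h => ?_⟩
  · haveI : Module.Flat C B := h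
    haveI : Module.Flat A B := Module.Flat.trans A C B
    show Module.Flat A A'
    exact Groth.Agent.SmallFlat.flat_of_faithfullyFlat_tower A A' B
  · haveI : Module.Flat A A' := h
    haveI : Module.Flat A B := Module.Flat.trans A A' B
    show Module.Flat C B
    haveI : IsLocalHom (algebraMap C B) := isLocalHom_anStalk f x
    refine LocalCrit.flat_of_forall_quotient_pow (B := B) (maximalIdeal C) ?_ fun n => ?_
    · exact ((IsLocalRing.local_hom_TFAE (algebraMap C B)).out 0 2 rfl rfl).mp (isLocalHom_anStalk f x) |>.trans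
        (IsLocalRing.maximalIdeal_le_jacobson _)
    · rw [show maximalIdeal C = (maximalIdeal A).map (algebraMap A C) from (map_maximalIdeal (Pts.map f x)).symm,
        ← Ideal.map_pow]
      refine keepsInjective_of_dense _ fun c => ?_
      obtain ⟨a, ha⟩ := exists_sub_mem (Pts.map f x) c n
      refine ⟨a, ?_⟩
      show c - ψ (Pts.map f x) a ∈ Ideal.map (ψ (Pts.map f x)) _
      rw [Ideal.map_pow, map_maximalIdeal]
      exact ha

end Groth.Agent.AnLocal
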