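import Mathlib.RingTheory.Localization.Integral
import Mathlib.RingTheory.Localization.Finiteness
import Mathlib.RingTheory.Algebraic.Integral
import Mathlib.FieldTheory.PrimitiveElement
import Mathlib.FieldTheory.Minpoly.IsIntegrallyClosed
import Mathlib.FieldTheory.IntermediateField.Adjoin.Algebra
import Mathlib.FieldTheory.Separable

/-!
A primitive element of a finite extension domain, with the denominators needed to specialise it.
-/

open Polynomial nonZeroDivisors IntermediateField

namespace Groth.Agent.AnLocal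

universe u

theorem exists_primitive_data (Y R : Type u) [CommRing Y] [IsDomain Y] [IsIntegrallyClosed Y] [CharZero Y]
    [CommRing R] [IsDomain R] [Algebra Y R] [FaithfulSMul Y R] [Module.Finite Y R] :
    ∃ (θ : R) (q : Y[X]) (D δ : Y), q.Monic ∧ aeval θ q = 0 ∧ D ≠ 0 ∧ δ ≠ 0 ∧
      (∀ g : Y[X], aeval θ g = 0 → q ∣ g) ∧ (∀ u : R, ∃ g : Y[X], D • u = aeval θ g) ∧
      ∃ a b : Y[X], a * q + b * derivative q = Polynomial.C δ := by
  classical
  let K := FractionRing Y
  let L := FractionRing R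
  letI : Algebra K L := FractionRing.liftAlgebra Y L
  haveI : IsScalarTower Y K L := FractionRing.isScalarTower_liftAlgebra Y L
  haveI : Algebra.IsAlgebraic Y R := Algebra.IsIntegral.isAlgebraic
  haveI : FiniteDimensional K L := Module.Finite.of_isLocalization Y R Y⁰
  haveI : CharZero K := charZero_of_injective_algebraMap (IsFractionRing.injective Y K)
  have hinjR : Function.Injective (algebraMap R L) := IsFractionRing.injective R L
  have hne : ∀ a : Y⁰, algebraMap Y K a ≠ 0 := fun a h =>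
    nonZeroDivisors.coe_ne_zero a (IsFractionRing.injective Y K (h.trans (map_zero _).symm))
  have hnorm : ∀ p : K[X], ∃ (b : Y⁰) (g : Y[X]), g.map (algebraMap Y K) = Polynomial.C (algebraMap Y K b) * p :=
    fun p => by
    obtain ⟨b, hb⟩ := IsLocalization.integerNormalization_map_to_map Y⁰ p
    exact ⟨b, _, hb.trans (by rw [← algebraMap_smul K (b : Y) p, Polynomial.smul_eq_C_mul])⟩
  obtain ⟨θ₀, hθ₀⟩ := Field.exists_primitive_element K L
  obtain ⟨θ, ⟨_, a, ha, rfl⟩, hθ⟩ := IsLocalization.exists_mk'_eq (Algebra.algebraMapSubmonoid R Y⁰) θ₀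
  have htop : K⟮algebraMap R L θ⟯ = ⊤ := by
    rw [eq_top_iff, ← hθ₀, adjoin_simple_le_iff]
    have h1 : θ₀ = algebraMap R L θ * (algebraMap K L (algebraMap Y K a))⁻¹ := by
      rw [← hθ, eq_mul_inv_iff_mul_eq₀ ((_root_.map_ne_zero _).2 (hne ⟨a, ha⟩)), ← IsScalarTower.algebraMap_apply,
        IsScalarTower.algebraMap_apply Y R L]
      exact IsLocalization.mk'_spec L θ _
    rw [h1]
    exact mul_mem (mem_adjoin_simple_self K _) (inv_mem (K⟮algebraMap R L θ⟯.algebraMap_mem _))
  have hθi : IsIntegral Y θ := Algebra.IsIntegral.isIntegral θ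
  have hqK : minpoly K (algebraMap R L θ) = (minpoly Y θ).map (algebraMap Y K) := by
    rw [← minpoly.isIntegrallyClosed_eq_field_fractions K L hθi]
  have hsep : ((minpoly Y θ).map (algebraMap Y K)).Separable := by
    rw [← hqK]; exact Algebra.IsSeparable.isSeparable K _
  obtain ⟨u, v, huv⟩ := hsep
  obtain ⟨b₁, g₁, hg₁⟩ := hnorm u
  obtain ⟨b₂, g₂, hg₂⟩ := hnorm v
  have hu : ∀ x : R, ∃ (b : Y⁰) (g : Y[X]), (b : Y) • x = aeval θ g := by
    intro x
    have hx : algebraMap R L x ∈ K⟮algebraMap R L θ⟯.toSubalgebra := by rw [htop]; exact trivial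
    rw [adjoin_simple_toSubalgebra_of_isAlgebraic (Algebra.IsAlgebraic.isAlgebraic _),
      Algebra.adjoin_singleton_eq_range_aeval, AlgHom.mem_range] at hx
    obtain ⟨p, hp⟩ := hx
    obtain ⟨b, g, hg⟩ := hnorm p
    refine ⟨b, g, hinjR ?_⟩
    rw [← aeval_algebraMap_apply, ← aeval_map_algebraMap K, hg, map_mul, aeval_C, hp, Algebra.smul_def, map_mul,
      ← IsScalarTower.algebraMap_apply, ← IsScalarTower.algebraMap_apply]
  choose b g hbg using hu
  obtain ⟨s, hs⟩ := (Module.Finite.fg_top : (⊤ : Submodule Y R).FG)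
  refine ⟨θ, minpoly Y θ, ∏ x ∈ s, (b x : Y), (b₁ * b₂ : Y⁰), minpoly.monic hθi, minpoly.aeval Y θ,
    Finset.prod_ne_zero_iff.2 fun x _ => nonZeroDivisors.coe_ne_zero _, nonZeroDivisors.coe_ne_zero _,
    fun p hp => minpoly.isIntegrallyClosed_dvd hθi hp, fun x => ?_, ?_⟩
  · have hx : x ∈ Submodule.span Y (s : Set R) := hs ▸ Submodule.mem_top
    induction hx using Submodule.span_induction with
    | mem x hx =>
      refine ⟨Polynomial.C (∏ y ∈ s.erase x, (b y : Y)) * g x, ?_⟩
      rw [← Finset.prod_erase_mul s (fun y => (b y : Y)) hx, mul_smul, hbg, map_mul, aeval_C, Algebra.smul_def]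
    | zero => exact ⟨0, by simp⟩
    | add x y _ _ hx hy =>
      obtain ⟨p, hp⟩ := hx
      obtain ⟨p', hp'⟩ := hy
      exact ⟨p + p', by rw [smul_add, hp, hp', map_add]⟩
    | smul r x _ hx =>
      obtain ⟨p, hp⟩ := hx
      exact ⟨Polynomial.C r * p, by rw [smul_comm, hp, map_mul, aeval_C, Algebra.smul_def]⟩
  · refine ⟨Polynomial.C (b₂ : Y) * g₁, Polynomial.C (b₁ : Y) * g₂,
      Polynomial.map_injective _ (IsFractionRing.injective Y K) ?_⟩
    simp only [Polynomial.map_add, Polynomial.map_mul, Polynomial.map_C, hg₁, hg₂, ← derivative_map]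
    calc _ = Polynomial.C (algebraMap Y K b₁) * Polynomial.C (algebraMap Y K b₂) *
          (u * (minpoly Y θ).map (algebraMap Y K) + v * derivative ((minpoly Y θ).map (algebraMap Y K))) := by ring
      _ = _ := by rw [huv, _root_.mul_one, Submonoid.coe_mul, map_mul (algebraMap Y K), map_mul]

end Groth.Agent.AnLocal
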