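import Groth.Agent.AnLocal.Mor
import Groth.Agent.StalkLoc7.Basic

/-!
At a `ℂ`-point all residue fields are `ℂ`; unramifiedness is checked at the `ℂ`-points.
-/

open AlgebraicGeometry CategoryTheory TopologicalSpace IsLocalRing

noncomputable section

namespace Groth.Agent.AnLocal

open An An.Pts

variable {X Y : Scheme.{0}} [X.Over SC] [Y.Over SC] (f : X ⟶ Y) [f.IsOver SC] (x : Pts X)

theorem surjective_residueFieldMap : Function.Surjective (f.residueFieldMap x.pt) := by
  haveI : IsIso (x.1 ≫ (f ≫ Y ↘ SC)) := by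
    rw [comp_over f SC, x.2]
    infer_instance
  have hb : Function.Bijective ((x.1 ≫ (f ≫ Y ↘ SC)).residueFieldMap cpt) :=
    ConcreteCategory.bijective_of_isIso _
  rw [Scheme.residueFieldMap_comp, Scheme.residueFieldMap_comp] at hb
  intro a
  obtain ⟨t, ht⟩ := hb.2 (x.1.residueFieldMap cpt a)
  simp only [CommRingCat.comp_apply] at ht
  exact ⟨_, (x.1.residueFieldMap cpt).hom.injective ht⟩

theorem map_maximalIdeal_algStalk :
    (maximalIdeal (Y.presheaf.stalk (Pts.map f x).pt)).map (algStalk f x) =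
      (maximalIdeal (Y.presheaf.stalk (f x.pt))).map (f.stalkMap x.pt).hom := by
  suffices ∀ (y : Y) (h : y = f x.pt), (maximalIdeal (Y.presheaf.stalk y)).map
      (Y.presheaf.stalkSpecializes (specializes_of_eq h.symm) ≫ f.stalkMap x.pt).hom =
      (maximalIdeal (Y.presheaf.stalk (f x.pt))).map (f.stalkMap x.pt).hom from this _ (pt_map f x)
  rintro _ rfl
  rw [TopCat.Presheaf.stalkSpecializes_refl, Category.id_comp]

theorem formallyUnramified_stalkMap_iff [LocallyOfFiniteType f] :
    (f.stalkMap x.pt).hom.FormallyUnramified ↔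
      (maximalIdeal (Y.presheaf.stalk (Pts.map f x).pt)).map (algStalk f x) =
        maximalIdeal (X.presheaf.stalk x.pt) := by
  rw [map_maximalIdeal_algStalk, StalkLoc7.stalkMap_formallyUnramified_iff]
  refine ⟨fun h => h.1, fun h => ⟨h, ?_⟩⟩
  letI := (f.residueFieldMap x.pt).hom.toAlgebra
  have hs := surjective_residueFieldMap f x
  exact ⟨Module.Finite.of_surjective (Algebra.linearMap _ _) hs,
    ⟨fun a => by obtain ⟨b, rfl⟩ := hs a; exact isSeparable_algebraMap b⟩⟩

theorem formallyUnramified_iff_forall_pts [LocallyOfFiniteType (X ↘ SC)] :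
    FormallyUnramified f ↔ ∀ x : Pts X, (maximalIdeal (Y.presheaf.stalk (Pts.map f x).pt)).map (algStalk f x) =
        maximalIdeal (X.presheaf.stalk x.pt) := by
  haveI := AnPts.locallyOfFiniteType_of_isOver f
  refine ⟨fun h x => (formallyUnramified_stalkMap_iff f x).1 (FormallyUnramified.stalkMap f _), fun H => ?_⟩
  choose U hxU hU using fun x : Pts X =>
    StalkLoc7.exists_unramified f x.pt ((formallyUnramified_stalkMap_iff f x).2 (H x))
  have hcov : ⨆ x, U x = ⊤ := by
    refine TopologicalSpace.Opens.ext ?_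
    rw [TopologicalSpace.Opens.coe_top]
    exact AnPts.eq_univ_of_isLocallyClosed (⨆ x, U x).2.isLocallyClosed fun x =>
      TopologicalSpace.Opens.mem_iSup.2 ⟨x, hxU x⟩
  rw [IsZariskiLocalAtSource.iff_of_iSup_eq_top (P := @FormallyUnramified) _ hcov]
  exact hU

end Groth.Agent.AnLocal
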