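import Groth.Agent.AnLocal.PMap
import Groth.Agent.AnLocal.Primitive
import Mathlib.RingTheory.Polynomial.UniqueFactorization
import Mathlib.RingTheory.Polynomial.RationalRoot
import Mathlib.LinearAlgebra.Lagrange
import Mathlib.LinearAlgebra.TensorProduct.Quotient
import Mathlib.RingTheory.IntegralClosure.IsIntegral.Basic
import Mathlib.RingTheory.Adjoin.Basic

/-!
A prime of `ℂ[y, z]` finite over `ℂ[y]`: functions polynomial in `z` with holomorphic coefficients in `y`
vanishing on all sheets lie in the extended prime.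
-/

open Filter Topology MvPolynomial

noncomputable section

namespace Groth.Agent.AnLocal

variable {M : ℕ}

theorem mem_map_of_mul_mem {p : Ideal (MvPolynomial (Fin M) ℂ)} [p.IsPrime] {e : MvPolynomial (Fin M) ℂ}
    (he : e ∉ p) {x : O M} (h : polyHom M e * x ∈ p.map (polyHom M)) : x ∈ p.map (polyHom M) := by
  have hinj : Function.Injective (LinearMap.lsmul (MvPolynomial (Fin M) ℂ) (MvPolynomial (Fin M) ℂ ⧸ p) e) := by
    refine (injective_iff_map_eq_zero _).2 fun y hy => ?_
    obtain ⟨y, rfl⟩ := Ideal.Quotient.mk_surjective y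
    rw [LinearMap.lsmul_apply] at hy
    change Ideal.Quotient.mk p (e * y) = 0 at hy
    rw [Ideal.Quotient.eq_zero_iff_mem] at hy
    rw [Ideal.Quotient.eq_zero_iff_mem]
    exact (‹p.IsPrime›.mem_or_mem hy).resolve_left he
  have hinj' := Module.Flat.lTensor_preserves_injective_linearMap (M := O M) _ hinj
  let E := TensorProduct.tensorQuotEquivQuotSMul (O M) p
  rw [← algebraMap_eq_polyHom, ← LocalCrit.smul_top_eq_map] at h ⊢
  have hx : E (x ⊗ₜ Ideal.Quotient.mk p 1) = Submodule.Quotient.mk x := by
    simp [E, TensorProduct.tensorQuotEquivQuotSMul]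
  rw [← Submodule.Quotient.mk_eq_zero, ← hx, LinearEquiv.map_eq_zero_iff]
  apply hinj'
  rw [map_zero, LinearMap.lTensor_tmul, LinearMap.lsmul_apply, TensorProduct.tmul_smul, ← E.map_eq_zero_iff,
    map_smul, hx, ← Submodule.Quotient.mk_smul, Submodule.Quotient.mk_eq_zero, Algebra.smul_def]
  exact h

theorem eventually_eq_zero_of_mem_map {p : Ideal (MvPolynomial (Fin M) ℂ)} {f : holFun M}
    (h : mk M f ∈ p.map (polyHom M)) :
    ∀ᶠ w in 𝓝 (0 : Fin M → ℂ), (∀ q ∈ p, eval w q = 0) → f.1 w = 0 := by
  suffices ∀ x ∈ p.map (polyHom M), ∀ f : holFun M, mk M f = x →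
      ∀ᶠ w in 𝓝 (0 : Fin M → ℂ), (∀ q ∈ p, eval w q = 0) → f.1 w = 0 from this _ h f rfl
  intro x hx
  induction hx using Submodule.span_induction with
  | mem x hx =>
    obtain ⟨q, hq, rfl⟩ := hx
    intro f hf
    filter_upwards [mk_eq_mk.1 hf] with w hw hV
    rw [hw, polyFun_apply]; exact hV q hq
  | zero =>
    intro f hf
    filter_upwards [mk_eq_zero.1 hf] with w hw _ using hw
  | add x y _ _ hx hy =>
    intro f hf
    obtain ⟨fx, rfl⟩ := mk_surjective x
    obtain ⟨fy, rfl⟩ := mk_surjective y
    rw [← map_add, mk_eq_mk] at hf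
    filter_upwards [hx fx rfl, hy fy rfl, hf] with w h1 h2 h3 hV
    rw [h3, Subring.coe_add, Pi.add_apply, h1 hV, h2 hV, add_zero]
  | smul a x _ hx =>
    intro f hf
    obtain ⟨fa, rfl⟩ := mk_surjective a
    obtain ⟨fx, rfl⟩ := mk_surjective x
    rw [smul_eq_mul, ← map_mul, mk_eq_mk] at hf
    filter_upwards [hx fx rfl, hf] with w h1 h3 hV
    rw [h3, Subring.coe_mul, Pi.mul_apply, h1 hV, mul_zero]

variable (N d : ℕ)

/-- The `z`-coordinates. -/
abbrev zi (j : Fin N) : Fin (N + d) := Fin.castAdd d j

/-- The `y`-coordinates. -/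
abbrev yi (k : Fin d) : Fin (N + d) := Fin.natAdd N k

/-- The inclusion of polynomials in `y`. -/
abbrev renY : MvPolynomial (Fin d) ℂ →ₐ[ℂ] MvPolynomial (Fin (N + d)) ℂ := rename (yi N d)

/-- Functions polynomial in `z`, holomorphic in `y`. -/
abbrev HP : Type := MvPolynomial (Fin N) (holFun d)

theorem eval_zero_X_yi (k : Fin d) : eval 0 (MvPolynomial.X (yi N d k) : MvPolynomial (Fin (N + d)) ℂ) = 0 := by
  simp

/-- The function of an element of `HP`. -/
def toFun : HP N d →+* holFun (N + d) :=
  eval₂Hom (pmapFun (fun k => MvPolynomial.X (yi N d k)) (eval_zero_X_yi N d))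
    fun j => polyFun _ (MvPolynomial.X (zi N d j))

/-- The germ of an element of `HP`. -/
def toGerm : HP N d →+* O (N + d) := (mk _).comp (toFun N d)

/-- The value of a holomorphic function at a point. -/
abbrev evY {d : ℕ} (c : Fin d → ℂ) : holFun d →+* ℂ := (Pi.evalRingHom (fun _ : Fin d → ℂ => ℂ) c).comp (holFun d).subtype

/-- The value of an element of `HP` at a point. -/
def evalAt (w : Fin (N + d) → ℂ) : HP N d →+* ℂ :=
  ((Pi.evalRingHom (fun _ : Fin (N + d) → ℂ => ℂ) w).comp (holFun (N + d)).subtype).comp (toFun N d)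

/-- Polynomials as elements of `HP`. -/
def incl : MvPolynomial (Fin (N + d)) ℂ →+* HP N d :=
  eval₂Hom (MvPolynomial.C.comp ((polyFun d).comp MvPolynomial.C))
    (Fin.addCases MvPolynomial.X fun k => MvPolynomial.C (polyFun d (MvPolynomial.X k)))

theorem toFun_incl (h : MvPolynomial (Fin (N + d)) ℂ) : toFun N d (incl N d h) = polyFun (N + d) h := by
  have : (toFun N d).comp (incl N d) = polyFun (N + d) := by
    refine MvPolynomial.ringHom_ext (fun c => ?_) fun i => ?_
    · refine Subtype.ext (_root_.funext fun w => ?_)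
      simp [toFun, incl, pmapFun_apply, polyFun_apply]
    · induction i using Fin.addCases with
      | left j => simp [toFun, incl]
      | right k =>
        refine Subtype.ext (_root_.funext fun w => ?_)
        simp [toFun, incl, pmapFun_apply, polyFun_apply, polyMap]
  exact RingHom.congr_fun this h

theorem toGerm_incl (h : MvPolynomial (Fin (N + d)) ℂ) : toGerm N d (incl N d h) = polyHom (N + d) h :=
  congrArg (mk _) (toFun_incl N d h)

theorem evalAt_incl (w : Fin (N + d) → ℂ) (h : MvPolynomial (Fin (N + d)) ℂ) :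
    evalAt N d w (incl N d h) = eval w h := by
  show (toFun N d (incl N d h) : (Fin (N + d) → ℂ) → ℂ) w = _
  rw [toFun_incl, polyFun_apply]

theorem incl_renY (e : MvPolynomial (Fin d) ℂ) : incl N d (renY N d e) = MvPolynomial.C (polyFun d e) := by
  have : (incl N d).comp (renY N d).toRingHom = MvPolynomial.C.comp (polyFun d) :=
    MvPolynomial.ringHom_ext (fun c => by simp [incl]) fun i => by simp [incl, yi]
  exact RingHom.congr_fun this e

theorem evalAt_C (w : Fin (N + d) → ℂ) (b : holFun d) :
    evalAt N d w (MvPolynomial.C b) = evY (fun k => w (yi N d k)) b := by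
  show (toFun N d (MvPolynomial.C b) : (Fin (N + d) → ℂ) → ℂ) w = _
  simp [toFun, pmapFun_apply]
  exact congrArg b.1 (_root_.funext fun k => eval_X _)

theorem evalAt_comp_C (w : Fin (N + d) → ℂ) :
    (evalAt N d w).comp MvPolynomial.C = evY (fun k => w (yi N d k)) :=
  RingHom.ext fun b => evalAt_C N d w b

theorem evalAt_X (w : Fin (N + d) → ℂ) (j : Fin N) : evalAt N d w (MvPolynomial.X j) = w (zi N d j) := by
  show (toFun N d (MvPolynomial.X j) : (Fin (N + d) → ℂ) → ℂ) w = _
  simp [toFun, polyFun_apply]

theorem toGerm_C (b : holFun d) :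
    toGerm N d (MvPolynomial.C b) =
      pmap (fun k => MvPolynomial.X (yi N d k)) (eval_zero_X_yi N d) (mk d b) := by
  rw [pmap_mk]; simp [toGerm, toFun]

/-- `p` is finite over the polynomials in `y`, without collapsing them. -/
structure IsNormalized (p : Ideal (MvPolynomial (Fin (N + d)) ℂ)) : Prop where
  injective : ∀ e, renY N d e ∈ p → e = 0
  integral : ∀ j, ∃ f : Polynomial (MvPolynomial (Fin d) ℂ),
    f.Monic ∧ f.eval₂ (renY N d).toRingHom (MvPolynomial.X (zi N d j)) ∈ p

theorem toGerm_mem_of_vanishing {p : Ideal (MvPolynomial (Fin (N + d)) ℂ)} [p.IsPrime]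
    (hn : IsNormalized N d p) (F : HP N d)
    (hF : ∀ᶠ c in 𝓝 (0 : Fin d → ℂ), ∀ w : Fin (N + d) → ℂ, (∀ k, w (yi N d k) = c k) →
      (∀ h ∈ p, eval w h = 0) → evalAt N d w F = 0) :
    toGerm N d F ∈ p.map (polyHom (N + d)) := by
  classical
  let R := MvPolynomial (Fin (N + d)) ℂ ⧸ p
  let α : MvPolynomial (Fin d) ℂ →+* R := (Ideal.Quotient.mk p).comp (renY N d).toRingHom
  letI : Algebra (MvPolynomial (Fin d) ℂ) R := α.toAlgebra
  have hα : ∀ e, algebraMap (MvPolynomial (Fin d) ℂ) R e = Ideal.Quotient.mk p (renY N d e) := fun _ => rfl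
  haveI : FaithfulSMul (MvPolynomial (Fin d) ℂ) R := by
    refine (faithfulSMul_iff_algebraMap_injective _ _).2 ((injective_iff_map_eq_zero _).2 fun e he => ?_)
    rw [hα, Ideal.Quotient.eq_zero_iff_mem] at he
    exact hn.injective e he
  haveI : Module.Finite (MvPolynomial (Fin d) ℂ) R := by
    let S := Algebra.adjoin (MvPolynomial (Fin d) ℂ) (Set.range fun j => Ideal.Quotient.mk p (MvPolynomial.X (zi N d j)))
    have hS : S = ⊤ := by
      rw [eq_top_iff]
      rintro x -
      obtain ⟨x, rfl⟩ := Ideal.Quotient.mk_surjective x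
      induction x using MvPolynomial.induction_on with
      | C a =>
        rw [show (MvPolynomial.C a : MvPolynomial (Fin (N + d)) ℂ) = renY N d (MvPolynomial.C a) from (rename_C _ a).symm, ← hα]
        exact S.algebraMap_mem _
      | add a b ha hb => rw [map_add]; exact add_mem ha hb
      | mul_X a i ha =>
        rw [map_mul]
        refine mul_mem ha ?_
        induction i using Fin.addCases with
        | left j => exact Algebra.subset_adjoin ⟨j, rfl⟩
        | right k =>
          rw [show (MvPolynomial.X (Fin.natAdd N k) : MvPolynomial (Fin (N + d)) ℂ) = renY N d (MvPolynomial.X k) from (rename_X _ k).symm, ← hα]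
          exact S.algebraMap_mem _
    refine ⟨?_⟩
    rw [← Algebra.top_toSubmodule, ← hS]
    refine fg_adjoin_of_finite (Set.finite_range _) ?_
    rintro _ ⟨j, rfl⟩
    obtain ⟨f, hf, hfp⟩ := hn.integral j
    refine ⟨f, hf, ?_⟩
    show f.eval₂ α _ = 0
    rw [← Polynomial.hom_eval₂, Ideal.Quotient.eq_zero_iff_mem]
    exact hfp
  obtain ⟨θ, q, D₀, δ, hqm, hq0, hD, hδ, hdvd, hDR, A, B, hAB⟩ :=
    exists_primitive_data (MvPolynomial (Fin d) ℂ) R
  obtain ⟨θ', rfl⟩ := Ideal.Quotient.mk_surjective θ
  have hmk : ∀ g : Polynomial (MvPolynomial (Fin d) ℂ),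
      Polynomial.aeval (Ideal.Quotient.mk p θ' : R) g = Ideal.Quotient.mk p (g.eval₂ (renY N d).toRingHom θ') := fun g => by
    rw [Polynomial.hom_eval₂]; rfl
  choose G hG using hDR
  -- reduce `D * F` to a combination of powers of `θ'`
  have hred : ∀ F : HP N d, ∃ g : Polynomial (holFun d), g.degree < q.degree ∧
      incl N d (renY N d D₀) * F - g.eval₂ MvPolynomial.C (incl N d θ') ∈ p.map (incl N d) := by
    intro F
    induction F using MvPolynomial.induction_on' with
    | monomial s b =>
      let m : MvPolynomial (Fin (N + d)) ℂ := rename (zi N d) (monomial s 1)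
      have hm : incl N d m = monomial s 1 := by
        show eval₂Hom _ _ (rename (zi N d) (monomial s 1)) = _
        rw [eval₂Hom_rename, eval₂Hom_monomial, map_one, _root_.one_mul, ← prod_X_pow_eq_monomial, Finsupp.prod]
        exact Finset.prod_congr rfl fun i _ => by simp [zi]
      let g₀ := G (Ideal.Quotient.mk p m) %ₘ q
      refine ⟨Polynomial.C b * g₀.map (polyFun d), ?_, ?_⟩
      · refine (Polynomial.degree_mul_le _ _).trans_lt ((add_le_add Polynomial.degree_C_le le_rfl).trans_lt ?_)
        rw [zero_add]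
        exact Polynomial.degree_map_le.trans_lt (Polynomial.degree_modByMonic_lt _ hqm)
      · have hrel : renY N d D₀ * m - g₀.eval₂ (renY N d).toRingHom θ' ∈ p := by
          rw [← Ideal.Quotient.eq_zero_iff_mem, map_sub, map_mul, ← hmk, ← hα, ← Algebra.smul_def, hG,
            show g₀ = G (Ideal.Quotient.mk p m) - q * (G (Ideal.Quotient.mk p m) /ₘ q) from
              Polynomial.modByMonic_eq_sub_mul_div _ q,
            map_sub, map_mul, hq0, zero_mul, sub_zero, sub_self]
        convert Ideal.mul_mem_left _ (MvPolynomial.C b) (Ideal.mem_map_of_mem (incl N d) hrel) using 1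
        rw [Polynomial.eval₂_mul, Polynomial.eval₂_C, Polynomial.eval₂_map, map_sub, map_mul, hm,
          Polynomial.hom_eval₂, show (incl N d).comp (renY N d).toRingHom = MvPolynomial.C.comp (polyFun d) from
            RingHom.ext fun e => incl_renY N d e,
          show (monomial s b : HP N d) = MvPolynomial.C b * monomial s 1 by rw [C_mul_monomial, _root_.mul_one]]
        ring
    | add F F' hF hF' =>
      obtain ⟨g, hg, h⟩ := hF
      obtain ⟨g', hg', h'⟩ := hF'
      refine ⟨g + g', (Polynomial.degree_add_le g g').trans_lt (max_lt hg hg'), ?_⟩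
      rw [Polynomial.eval₂_add, mul_add, add_sub_add_comm]
      exact add_mem h h'
  obtain ⟨g, hgdeg, hgF⟩ := hred F
  -- the coefficients vanish wherever the sheets are separated
  have hcoeff : ∀ᶠ c in 𝓝 (0 : Fin d → ℂ), eval c δ * eval c D₀ ≠ 0 → g.map (evY c) = 0 := by
    filter_upwards [hF] with c hc hne
    have hδc : eval c δ ≠ 0 := left_ne_zero_of_mul hne
    have hDc : eval c D₀ ≠ 0 := right_ne_zero_of_mul hne
    set qc := q.map (eval c) with hqc
    have hsep : qc.Separable := by
      refine ⟨Polynomial.C (eval c δ)⁻¹ * A.map (eval c), Polynomial.C (eval c δ)⁻¹ * B.map (eval c), ?_⟩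
      have := congrArg (Polynomial.map (eval c)) hAB
      simp only [Polynomial.map_add, Polynomial.map_mul, Polynomial.map_C, ← Polynomial.derivative_map] at this
      rw [mul_assoc, mul_assoc, ← mul_add, this, ← map_mul, inv_mul_cancel₀ hδc, map_one]
    have hsplit : qc.Splits := IsAlgClosed.splits qc
    refine Polynomial.eq_zero_of_degree_lt_of_eval_finset_eq_zero qc.roots.toFinset ?_ fun t ht => ?_
    · rw [Multiset.toFinset_card_of_nodup (Polynomial.nodup_roots hsep), ← hsplit.natDegree_eq_card_roots,
        hqc, hqm.natDegree_map]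
      refine Polynomial.degree_map_le.trans_lt (hgdeg.trans_le ?_)
      exact Polynomial.degree_le_natDegree
    · rw [Multiset.mem_toFinset, Polynomial.mem_roots', Polynomial.IsRoot, hqc, Polynomial.eval_map] at ht
      let ev := Polynomial.eval₂RingHom (eval c) t
      have hind : ∀ g g' : Polynomial (MvPolynomial (Fin d) ℂ),
          Polynomial.aeval (Ideal.Quotient.mk p θ' : R) g = Polynomial.aeval (Ideal.Quotient.mk p θ' : R) g' →
            ev g = ev g' := by
        intro g g' h
        obtain ⟨k, hk⟩ := hdvd (g - g') (by rw [map_sub, h, sub_self])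
        rw [← sub_eq_zero, ← map_sub, hk, map_mul]
        simp [ev, ht.2]
      let ψ : R →+* ℂ :=
        { toFun := fun u => ev (G u) / eval c D₀
          map_zero' := by
            rw [hind (G 0) 0 (by rw [← hG, Algebra.smul_def, mul_zero, map_zero]), map_zero, zero_div]
          map_one' := by
            rw [hind (G 1) (Polynomial.C D₀) (by rw [← hG, Polynomial.aeval_C, Algebra.smul_def, _root_.mul_one])]
            simp [ev, hDc]
          map_add' := fun u v => by
            rw [hind (G (u + v)) (G u + G v) (by rw [map_add, ← hG, ← hG, ← hG]; simp only [Algebra.smul_def, mul_add]), map_add, add_div]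
          map_mul' := fun u v => by
            have := hind (Polynomial.C D₀ * G (u * v)) (G u * G v) (by
              simp only [map_mul, Polynomial.aeval_C, ← hG, Algebra.smul_def]; ring)
            simp only [map_mul] at this
            rw [div_mul_div_comm, ← this]
            simp only [ev, Polynomial.coe_eval₂RingHom, Polynomial.eval₂_C]
            rw [mul_div_mul_left _ _ hDc] }
      have hψY : ∀ e, ψ (algebraMap _ R e) = eval c e := fun e => by
        show ev (G (algebraMap _ R e)) / _ = _
        rw [hind (G (algebraMap _ R e)) (Polynomial.C (D₀ * e))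
          (by rw [← hG, Polynomial.aeval_C, map_mul, Algebra.smul_def])]
        simp [ev]; field_simp
      have hψθ : ψ (Ideal.Quotient.mk p θ') = t := by
        show ev (G (Ideal.Quotient.mk p θ')) / _ = _
        rw [hind (G (Ideal.Quotient.mk p θ')) (Polynomial.C D₀ * Polynomial.X)
          (by rw [← hG, map_mul, Polynomial.aeval_C, Polynomial.aeval_X, Algebra.smul_def])]
        simp [ev]; field_simp
      let w : Fin (N + d) → ℂ := fun i => ψ (Ideal.Quotient.mk p (MvPolynomial.X i))
      have hw : ∀ h, eval w h = ψ (Ideal.Quotient.mk p h) := by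
        have : eval w = ψ.comp (Ideal.Quotient.mk p) := by
          refine MvPolynomial.ringHom_ext (fun a => ?_) fun i => by simp [w]
          rw [RingHom.comp_apply, show (MvPolynomial.C a : MvPolynomial (Fin (N + d)) ℂ) = renY N d (MvPolynomial.C a) from (rename_C _ a).symm,
            ← hα, hψY]
          simp
        exact fun h => RingHom.congr_fun this h
      have hwy : ∀ k, w (yi N d k) = c k := fun k => by
        show ψ (Ideal.Quotient.mk p (MvPolynomial.X (yi N d k))) = _
        rw [show (MvPolynomial.X (yi N d k) : MvPolynomial (Fin (N + d)) ℂ) = renY N d (MvPolynomial.X k) from (rename_X _ k).symm,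
          ← hα, hψY, eval_X]
      have hwV : ∀ h ∈ p, eval w h = 0 := fun h hh => by
        rw [hw, Ideal.Quotient.eq_zero_iff_mem.2 hh, map_zero]
      have hzero : evalAt N d w (incl N d (renY N d D₀) * F - g.eval₂ MvPolynomial.C (incl N d θ')) = 0 := by
        refine (RingHom.mem_ker).1 ((Ideal.map_le_iff_le_comap.2 fun h hh => ?_) hgF)
        rw [Ideal.mem_comap, RingHom.mem_ker, evalAt_incl, hwV h hh]
      rw [map_sub, map_mul, hc w hwy hwV, mul_zero, zero_sub, neg_eq_zero, Polynomial.hom_eval₂, evalAt_comp_C,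
        evalAt_incl, hw, hψθ, show (fun k => w (yi N d k)) = c from _root_.funext hwy] at hzero
      rw [Polynomial.eval_map]
      exact hzero
  have hDδ : renY N d (δ * D₀) ∉ p := fun h => mul_ne_zero hδ hD (hn.injective _ h)
  have hD' : renY N d D₀ ∉ p := fun h => hD (hn.injective _ h)
  refine mem_map_of_mul_mem hD' (mem_map_of_mul_mem hDδ ?_)
  have h2 : toGerm N d (incl N d (renY N d (δ * D₀)) * g.eval₂ MvPolynomial.C (incl N d θ')) = 0 := by
    rw [incl_renY, Polynomial.eval₂_eq_sum_range, Finset.mul_sum, map_sum]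
    refine Finset.sum_eq_zero fun i _ => ?_
    rw [← mul_assoc, ← map_mul, map_mul, toGerm_C,
      show mk d (polyFun d (δ * D₀) * g.coeff i) = 0 from ?_, map_zero, zero_mul]
    rw [mk_eq_zero]
    filter_upwards [hcoeff] with c hc
    show (polyFun d (δ * D₀)).1 c * (g.coeff i).1 c = 0
    rw [polyFun_apply]
    by_cases h : eval c δ * eval c D₀ = 0
    · rw [map_mul, h, zero_mul]
    · have := congrArg (fun P : Polynomial ℂ => P.coeff i) (hc h)
      simp only [Polynomial.coeff_map, Polynomial.coeff_zero] at this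
      exact mul_eq_zero_of_right _ this
  have h3 : toGerm N d (incl N d (renY N d D₀) * F - g.eval₂ MvPolynomial.C (incl N d θ')) ∈
      p.map (polyHom (N + d)) := by
    have := Ideal.mem_map_of_mem (toGerm N d) hgF
    rwa [Ideal.map_map, show (toGerm N d).comp (incl N d) = polyHom (N + d) from
      RingHom.ext fun h => toGerm_incl N d h] at this
  have := Ideal.mul_mem_left _ (toGerm N d (incl N d (renY N d (δ * D₀)))) h3
  rw [← map_mul, mul_sub, map_sub, h2, sub_zero, map_mul (toGerm N d), map_mul (toGerm N d), toGerm_incl, toGerm_incl] at this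
  exact this

end Groth.Agent.AnLocal
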