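import Groth.Agent.AnLocal.Sheets
import Mathlib.RingTheory.NoetherNormalization
import Mathlib.RingTheory.Ideal.MinimalPrime.Noetherian
import Mathlib.LinearAlgebra.TensorProduct.Prod

/-!
A germ vanishing on the zero set of a radical polynomial ideal lies in the extended ideal.
-/

open Filter Topology MvPolynomial

noncomputable section

namespace Groth.Agent.AnLocal

section Normalized

variable {N d : ℕ} {p : Ideal (MvPolynomial (Fin (N + d)) ℂ)}

/-- The embedding of the `z`-indices. -/
def ziEmb (N d : ℕ) : Fin N ↪ Fin (N + d) := ⟨zi N d, Fin.castAdd_injective N d⟩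

theorem exists_congr_toGerm (hn : IsNormalized N d p) (g : O (N + d)) :
    ∃ F : HP N d, g - toGerm N d F ∈ p.map (polyHom (N + d)) := by
  classical
  set q := Ideal.Quotient.mk (p.map (polyHom (N + d)))
  let G : Finset (Fin N) → Subring (O (N + d)) := fun s => Subring.closure
    (Set.range (pmap (kill (s.map (ziEmb N d))) (eval_zero_kill _)) ∪ Set.range fun j => X (zi N d j))
  have hall : ∀ s, ∀ x, q x ∈ (G s).map q := by
    intro s
    induction s using Finset.induction_on with
    | empty =>
      refine fun x => ⟨x, Subring.subset_closure (Or.inl ⟨x, ?_⟩), rfl⟩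
      rw [pmap_congr (q' := fun i => MvPolynomial.X i) _ (fun i => by simp)
        (_root_.funext fun i => by simp [kill]), pmap_id]
    | insert j s hj ih =>
      suffices hle : G s ≤ ((G (insert j s)).map q).comap q by
        intro x
        obtain ⟨y, hy, hyx⟩ := ih x
        rw [← hyx]
        exact hle hy
      rw [Subring.closure_le]
      rintro x (⟨h, rfl⟩ | ⟨k, rfl⟩)
      · obtain ⟨f, hf, hfp⟩ := hn.integral j
        set i := zi N d j
        have hne : ¬ ∀ᶠ t in 𝓝 (0 : ℂ),
            (polyFun (N + d) (f.eval₂ (renY N d).toRingHom (MvPolynomial.X i))).1 (Pi.single i t) = 0 := by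
          intro h
          have hfin : {t : ℂ | (f.map (eval (0 : Fin d → ℂ))).eval t = 0}.Finite := by
            exact ((f.map (eval (0 : Fin d → ℂ))).roots.toFinset.finite_toSet).subset fun t ht =>
              Multiset.mem_toFinset.2 (Polynomial.mem_roots'.2 ⟨(hf.map _).ne_zero, ht⟩)
          refine infinite_of_mem_nhds (0 : ℂ) (mem_of_superset h fun t ht => ?_) hfin
          rw [Set.mem_setOf_eq, polyFun_apply, Polynomial.hom_eval₂, eval_X, Pi.single_eq_same] at ht
          rw [Set.mem_setOf_eq]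
          rw [show (eval (Pi.single i t)).comp (renY N d).toRingHom = eval (0 : Fin d → ℂ) from
            MvPolynomial.ringHom_ext (fun c => by simp) fun k => by
              have : yi N d k ≠ i := fun h => by
                have := congrArg Fin.val h; simp [i, zi, yi] at this; omega
              simp [Pi.single_eq_of_ne this]] at ht
          rwa [Polynomial.eval_map]
        obtain ⟨k, q₀, b, he⟩ := exists_division_coord i _ hne h
        have hkill : ∀ e, aeval (kill (s.map (ziEmb N d))) (renY N d e) = renY N d e := by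
          intro e
          have : (aeval (kill (s.map (ziEmb N d)))).comp (renY N d) = renY N d :=
            MvPolynomial.algHom_ext fun k => by
              have hk : yi N d k ∉ s.map (ziEmb N d) := fun h => by
                obtain ⟨l, -, hl⟩ := Finset.mem_map.1 h
                have := congrArg Fin.val hl; simp [ziEmb, zi, yi] at this; omega
              simp only [AlgHom.comp_apply, renY, rename_X, aeval_X, kill]
              rw [if_neg hk]
          exact AlgHom.congr_fun this e
        have hi : i ∉ s.map (ziEmb N d) := fun h => by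
          obtain ⟨l, hl, hl'⟩ := Finset.mem_map.1 h
          exact hj (by rwa [← Fin.castAdd_injective N d hl'])
        have hf0 : q (pmap (kill (s.map (ziEmb N d))) (eval_zero_kill _)
            (mk _ (polyFun (N + d) (f.eval₂ (renY N d).toRingHom (MvPolynomial.X i))))) = 0 := by
          show q (pmap _ _ (polyHom (N + d) _)) = 0
          have hh : aeval (kill (s.map (ziEmb N d))) (f.eval₂ (renY N d).toRingHom (MvPolynomial.X i)) =
              f.eval₂ (renY N d).toRingHom (MvPolynomial.X i) := by
            show (aeval (kill (s.map (ziEmb N d)))).toRingHom _ = _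
            rw [Polynomial.hom_eval₂, show (aeval (kill (s.map (ziEmb N d)))).toRingHom.comp (renY N d).toRingHom =
              (renY N d).toRingHom from RingHom.ext hkill]
            congr 1
            simp only [AlgHom.toRingHom_eq_coe, RingHom.coe_coe, aeval_X, kill]
            rw [if_neg hi]
          rw [pmap_polyHom, hh]
          exact Ideal.Quotient.eq_zero_iff_mem.2 (Ideal.mem_map_of_mem _ hfp)
        rw [SetLike.mem_coe, Subring.mem_comap, he]
        simp only [map_add, map_mul, map_sum, map_pow, hf0, mul_zero, zero_add]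
        refine sum_mem fun l _ => mul_mem (pow_mem ?_ l) ?_
        · refine ⟨X i, Subring.subset_closure (Or.inr ⟨j, rfl⟩), congrArg q ?_⟩
          rw [pmap_X, kill, if_neg hi, polyHom_X]
        · refine ⟨_, Subring.subset_closure (Or.inl ⟨b l, rfl⟩), congrArg q ?_⟩
          have hins : ∀ a, a ∈ (insert j s).map (ziEmb N d) ↔ a = i ∨ a ∈ s.map (ziEmb N d) := fun a => by
            simp [i, ziEmb, eq_comm]
          rw [pmap_pmap _ _ _ _ (fun a => by simp only [kill]; split_ifs <;> simp [kill, aeval_X] <;> split_ifs <;> simp)]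
          refine pmap_congr _ _ (_root_.funext fun a => ?_) _
          by_cases ha : a = i
          · simp only [kill, hins, Finset.mem_singleton, ha, if_true, true_or, map_zero]
          · simp only [kill, hins, Finset.mem_singleton, ha, if_false, false_or, aeval_X]
      · exact ⟨_, Subring.subset_closure (Or.inr ⟨k, rfl⟩), rfl⟩
  let back : Fin (N + d) → MvPolynomial (Fin d) ℂ := Fin.addCases (fun _ => 0) MvPolynomial.X
  have hback : ∀ i, eval 0 (back i) = 0 := fun i => by
    induction i using Fin.addCases <;> simp [back]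
  obtain ⟨x, hx, hxg⟩ := hall Finset.univ g
  have hle : G Finset.univ ≤ (q.comp (toGerm N d)).range.comap q := by
    rw [Subring.closure_le]
    rintro y (⟨h, rfl⟩ | ⟨k, rfl⟩)
    · obtain ⟨f', hf'⟩ := mk_surjective (pmap back hback h)
      refine ⟨MvPolynomial.C f', ?_⟩
      rw [RingHom.comp_apply, toGerm_C, hf', pmap_pmap _ _ _ _ (fun i => by
        induction i using Fin.addCases <;> simp [back])]
      refine congrArg q (pmap_congr _ _ (_root_.funext fun i => ?_) _)
      induction i using Fin.addCases with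
      | left j => simp [back, kill, ziEmb, zi]
      | right k =>
        have : ∀ a : Fin N, zi N d a ≠ Fin.natAdd N k := fun a h => by
          have := congrArg Fin.val h; simp [zi] at this; omega
        simp [back, kill, ziEmb, yi, this]
    · refine ⟨MvPolynomial.X k, ?_⟩
      show q (toGerm N d (MvPolynomial.X k)) = q (X (zi N d k))
      rw [← polyHom_X]
      simp [toGerm, toFun, polyHom]
  obtain ⟨F, hF⟩ := hle hx
  refine ⟨F, Ideal.Quotient.eq.1 ?_⟩
  rw [← hxg]; exact hF.symm

theorem mem_map_of_eventually_zero_normalized [p.IsPrime] (hn : IsNormalized N d p) (G : holFun (N + d))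
    (hG : ∀ᶠ w in 𝓝 (0 : Fin (N + d) → ℂ), (∀ h ∈ p, eval w h = 0) → G.1 w = 0) :
    mk _ G ∈ p.map (polyHom (N + d)) := by
  classical
  obtain ⟨F, hF⟩ := exists_congr_toGerm hn (mk _ G)
  suffices toGerm N d F ∈ p.map (polyHom (N + d)) by simpa using add_mem hF this
  have hGF : ∀ᶠ w in 𝓝 (0 : Fin (N + d) → ℂ), (∀ h ∈ p, eval w h = 0) → evalAt N d w F = 0 := by
    rw [show toGerm N d F = mk _ (toFun N d F) from rfl, ← map_sub] at hF
    filter_upwards [hG, eventually_eq_zero_of_mem_map hF] with w h1 h2 hV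
    have h := h2 hV
    change G.1 w - evalAt N d w F = 0 at h
    rw [h1 hV, zero_sub, neg_eq_zero] at h
    exact h
  obtain ⟨r, hr, hball⟩ := Metric.eventually_nhds_iff_ball.1 hGF
  choose f hfm hfp using hn.integral
  let fh : Fin N → Polynomial (holFun d) := fun j => (f j).map (polyFun d)
  have hfh : ∀ j c, (fh j).map (evY c) = (f j).map (eval c) := fun j c => by
    rw [Polynomial.map_map]
    congr 1
    exact RingHom.ext fun e => polyFun_apply d e c
  have hroot : ∀ w : Fin (N + d) → ℂ, (∀ h ∈ p, eval w h = 0) → ∀ j,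
      ((f j).map (eval fun k => w (yi N d k))).eval (w (zi N d j)) = 0 := by
    intro w hV j
    have := hV _ (hfp j)
    rw [Polynomial.hom_eval₂, eval_X, show (eval w).comp (renY N d).toRingHom = eval (fun k => w (yi N d k)) from
      MvPolynomial.ringHom_ext (fun c => by simp) fun k => by simp] at this
    rwa [Polynomial.eval_map]
  have hW : ∀ j a, ∃ (W : Polynomial (holFun d)) (ρ : ℝ), 0 < ρ ∧ (((f j).map (eval 0)).eval a = 0 →
      (∀ s : ℂ, s ≠ 0 → (W.map (evY 0)).eval s ≠ 0) ∧ ∀ (c : Fin d → ℂ) (t : ℂ), ‖c‖ < ρ → ‖t - a‖ < ρ →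
        ((f j).map (eval c)).eval t = 0 → (W.map (evY c)).eval (t - a) = 0) := by
    intro j a
    by_cases ha : ((f j).map (eval 0)).eval a = 0
    · obtain ⟨W, k, ρ, hρ, hW0, hW⟩ := exists_weierstrass_at (fh j) ((hfm j).map _) a (by rwa [hfh])
      refine ⟨W, ρ, hρ, fun _ => ⟨fun s hs => ?_, fun c t hc ht h => hW c t hc ht (by rwa [hfh])⟩⟩
      rw [hW0, Polynomial.eval_pow, Polynomial.eval_X]
      exact pow_ne_zero _ hs
    · exact ⟨1, 1, one_pos, fun h => absurd h ha⟩
  choose W ρ hρ hWρ using hW
  let rts : Fin N → Finset ℂ := fun j => ((f j).map (eval 0)).roots.toFinset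
  let cst : ℂ → holFun d := fun a => polyFun d (MvPolynomial.C a)
  let v : HP N d := ∏ j, ∏ a ∈ (rts j).erase 0,
    (W j a).eval₂ MvPolynomial.C (MvPolynomial.X j - MvPolynomial.C (cst a))
  have hv : ∀ w, evalAt N d w v =
      ∏ j, ∏ a ∈ (rts j).erase 0, ((W j a).map (evY fun k => w (yi N d k))).eval (w (zi N d j) - a) := by
    intro w
    simp only [v, map_prod]
    refine Finset.prod_congr rfl fun j _ => Finset.prod_congr rfl fun a _ => ?_
    rw [Polynomial.hom_eval₂, evalAt_comp_C, map_sub, evalAt_X, evalAt_C, Polynomial.eval_map]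
    simp [cst, evY, polyFun_apply]
  have hrts : ∀ j a, a ∈ (rts j).erase 0 → a ≠ 0 ∧ ((f j).map (eval 0)).eval a = 0 := fun j a ha => by
    rw [Finset.mem_erase, Multiset.mem_toFinset, Polynomial.mem_roots'] at ha
    exact ⟨ha.1, ha.2.2⟩
  have hunit : IsUnit (toGerm N d v) := by
    rw [isUnit_iff, toGerm, RingHom.comp_apply, ev0_mk]
    show evalAt N d 0 v ≠ 0
    rw [hv]
    refine Finset.prod_ne_zero_iff.2 fun j _ => Finset.prod_ne_zero_iff.2 fun a ha => ?_
    exact (hWρ j a (hrts j a ha).2).1 _ (by simpa using (hrts j a ha).1)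
  obtain ⟨ε, hε, hεr, hερ⟩ : ∃ ε : ℝ, 0 < ε ∧ ε ≤ r ∧ ∀ j, ∀ a ∈ rts j, ε ≤ ρ j a := by
    have h : ∀ᶠ ε in 𝓝[>] (0 : ℝ), 0 < ε ∧ ε ≤ r ∧ ∀ j, ∀ a ∈ rts j, ε ≤ ρ j a :=
      eventually_mem_nhdsWithin.and ((eventually_nhdsWithin_of_eventually_nhds (eventually_le_nhds hr)).and
        (eventually_all.2 fun j => (eventually_all_finset (rts j)).2 fun a _ =>
          eventually_nhdsWithin_of_eventually_nhds (eventually_le_nhds (hρ j a))))
    exact h.exists
  have hnear : ∀ᶠ c in 𝓝 (0 : Fin d → ℂ), ∀ j t, ((f j).map (eval c)).eval t = 0 → ∃ a ∈ rts j, ‖t - a‖ < ε := by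
    refine eventually_all.2 fun j => ?_
    filter_upwards [eventually_exists_root_near (fun c => (f j).map (eval c)) (f j).natDegree ((hfm j).map _)
      ((hfm j).natDegree_map _) (fun c => Polynomial.natDegree_map_le)
      (fun i => by
        simp only [Polynomial.coeff_map]
        exact (differentiable_eval _).continuous.tendsto 0) hε] with c hc t ht
    obtain ⟨a, ha, hat⟩ := hc t ht
    exact ⟨a, Multiset.mem_toFinset.2 ha, hat⟩
  have hmem := toGerm_mem_of_vanishing N d hn (F * v) <| by
    filter_upwards [Metric.ball_mem_nhds 0 hε, hnear] with c hc hc' w hwy hV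
    rw [mem_ball_zero_iff] at hc
    have hyw : (fun k => w (yi N d k)) = c := _root_.funext hwy
    choose a ha hat using fun j => hc' j (w (zi N d j)) (hyw ▸ hroot w hV j)
    rw [map_mul]
    by_cases h0 : ∀ j, a j = 0
    · refine mul_eq_zero_of_left (hball w ?_ hV) _
      rw [mem_ball_zero_iff, pi_norm_lt_iff hr]
      intro i
      refine lt_of_lt_of_le ?_ hεr
      induction i using Fin.addCases with
      | left j => simpa [h0 j] using hat j
      | right k =>
        show ‖w (yi N d k)‖ < ε
        rw [hwy]; exact (norm_le_pi_norm c k).trans_lt hc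
    · simp only [not_forall] at h0
      obtain ⟨j, hj⟩ := h0
      refine mul_eq_zero_of_right _ ?_
      rw [hv, hyw]
      refine Finset.prod_eq_zero (Finset.mem_univ j) (Finset.prod_eq_zero (Finset.mem_erase.2 ⟨hj, ha j⟩) ?_)
      exact (hWρ j (a j) (hrts j (a j) (Finset.mem_erase.2 ⟨hj, ha j⟩)).2).2 c _
        (hc.trans_le (hερ j _ (ha j))) ((hat j).trans_le (hερ j _ (ha j))) (hyw ▸ hroot w hV j)
  rw [map_mul] at hmem
  exact (Ideal.mul_unit_mem_iff_mem _ hunit).1 hmem

end Normalized

variable {N : ℕ}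

theorem mem_map_of_eventually_zero_prime (p : Ideal (MvPolynomial (Fin N) ℂ)) [p.IsPrime] (G : holFun N)
    (hG : ∀ᶠ z in 𝓝 (0 : Fin N → ℂ), (∀ h ∈ p, eval z h = 0) → G.1 z = 0) :
    mk _ G ∈ p.map (polyHom N) := by
  obtain ⟨d, g, ginj, gint⟩ := exists_integral_inj_algHom_of_fg ℂ (MvPolynomial (Fin N) ℂ ⧸ p)
  choose r hr using fun k => Ideal.Quotient.mk_surjective (g (MvPolynomial.X k))
  let σ : Fin (N + d) → MvPolynomial (Fin N) ℂ :=
    Fin.addCases MvPolynomial.X fun k => r k - MvPolynomial.C (eval 0 (r k))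
  have hσ : ∀ i, eval 0 (σ i) = 0 := fun i => by induction i using Fin.addCases <;> simp [σ]
  let Φ : MvPolynomial (Fin (N + d)) ℂ →ₐ[ℂ] MvPolynomial (Fin N) ℂ := aeval σ
  let p' := p.comap Φ.toRingHom
  let τ : MvPolynomial (Fin d) ℂ →ₐ[ℂ] MvPolynomial (Fin d) ℂ :=
    aeval fun k => MvPolynomial.X k - MvPolynomial.C (eval 0 (r k))
  let τ' : MvPolynomial (Fin d) ℂ →ₐ[ℂ] MvPolynomial (Fin d) ℂ :=
    aeval fun k => MvPolynomial.X k + MvPolynomial.C (eval 0 (r k))
  have hτ : τ'.comp τ = AlgHom.id ℂ _ := MvPolynomial.algHom_ext fun k => by simp [τ, τ']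
  have hτ' : τ.comp τ' = AlgHom.id ℂ _ := MvPolynomial.algHom_ext fun k => by simp [τ, τ']
  have hg' : ∀ e, Ideal.Quotient.mk p (Φ (renY N d e)) = g (τ e) := by
    intro e
    have : (Ideal.Quotient.mkₐ ℂ p).comp (Φ.comp (renY N d)) = g.comp τ := by
      refine MvPolynomial.algHom_ext fun k => ?_
      simp [Φ, σ, τ, ← hr]
      rfl
    exact AlgHom.congr_fun this e
  have hn : IsNormalized N d p' := by
    refine ⟨fun e he => ?_, fun j => ?_⟩
    · rw [Ideal.mem_comap, ← Ideal.Quotient.eq_zero_iff_mem] at he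
      have h := ginj (((hg' e).symm.trans he).trans (map_zero g).symm)
      rw [← AlgHom.id_apply (R := ℂ) e, ← hτ, AlgHom.comp_apply, h, map_zero]
    · obtain ⟨f, hf, hf0⟩ := gint (Ideal.Quotient.mk p (MvPolynomial.X j))
      refine ⟨f.map τ'.toRingHom, hf.map _, ?_⟩
      rw [Ideal.mem_comap, Polynomial.eval₂_map, Polynomial.hom_eval₂, ← Ideal.Quotient.eq_zero_iff_mem,
        Polynomial.hom_eval₂]
      refine Eq.trans ?_ hf0
      refine congrArg₂ (fun φ x => Polynomial.eval₂ φ x f) (RingHom.ext fun e => ?_) ?_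
      · show Ideal.Quotient.mk p (Φ (renY N d (τ' e))) = g e
        rw [hg', show τ (τ' e) = e from AlgHom.congr_fun hτ' e]
      · show Ideal.Quotient.mk p (Φ (MvPolynomial.X (zi N d j))) = _
        simp [Φ, σ, zi]
  have hz : ∀ i : Fin N, eval 0 (MvPolynomial.X (zi N d i) : MvPolynomial (Fin (N + d)) ℂ) = 0 := fun i => by simp
  let G' := pmapFun (fun i => MvPolynomial.X (zi N d i)) hz G
  have ht : Tendsto (polyMap fun i => (MvPolynomial.X (zi N d i) : MvPolynomial (Fin (N + d)) ℂ)) (𝓝 0) (𝓝 0) := by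
    have := (differentiable_polyMap fun i => (MvPolynomial.X (zi N d i) : MvPolynomial (Fin (N + d)) ℂ)).continuous.tendsto 0
    rwa [polyMap_zero _ hz] at this
  have h := mem_map_of_eventually_zero_normalized (p := p') hn G' (by
    filter_upwards [ht.eventually hG] with w hw hV
    refine hw fun h hh => ?_
    rw [← eval_aeval]
    refine hV _ ?_
    rw [Ideal.mem_comap]
    show Φ (aeval (fun i => MvPolynomial.X (zi N d i)) h) ∈ p
    rw [← AlgHom.comp_apply, show Φ.comp (aeval fun i => MvPolynomial.X (zi N d i)) = AlgHom.id ℂ _ from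
      MvPolynomial.algHom_ext fun i => by simp [Φ, σ, zi]]
    exact hh)
  have h2 := Ideal.mem_map_of_mem (pmap σ hσ) h
  rw [← pmap_mk, pmap_pmap _ _ _ _ (fun i => by simp [σ, zi]), Ideal.map_map,
    show (pmap σ hσ).comp (polyHom (N + d)) = (polyHom N).comp Φ.toRingHom from
      RingHom.ext fun e => pmap_polyHom σ hσ e, ← Ideal.map_map] at h2
  have h3 := Ideal.map_mono (Ideal.map_comap_le) h2
  rwa [pmap_congr (q' := fun i => MvPolynomial.X i) _ (fun i => by simp) (_root_.funext fun i => by simp [σ, zi]),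
    pmap_id] at h3

theorem mem_map_inf {J K : Ideal (MvPolynomial (Fin N) ℂ)} {x : O N} (hJ : x ∈ J.map (polyHom N))
    (hK : x ∈ K.map (polyHom N)) : x ∈ (J ⊓ K).map (polyHom N) := by
  let φ : (MvPolynomial (Fin N) ℂ ⧸ (J ⊓ K)) →ₗ[MvPolynomial (Fin N) ℂ]
      (MvPolynomial (Fin N) ℂ ⧸ J) × (MvPolynomial (Fin N) ℂ ⧸ K) :=
    (Submodule.mapQ (p := J ⊓ K) J LinearMap.id inf_le_left).prod (Submodule.mapQ (p := J ⊓ K) K LinearMap.id inf_le_right)
  have hφ : Function.Injective φ := by
    refine (injective_iff_map_eq_zero _).2 fun y hy => ?_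
    obtain ⟨y, rfl⟩ := Submodule.mkQ_surjective _ y
    simp [φ, Ideal.Quotient.eq_zero_iff_mem] at hy ⊢
    exact hy
  have hinj := Module.Flat.lTensor_preserves_injective_linearMap (M := O N) _ hφ
  have hmem : ∀ L : Ideal (MvPolynomial (Fin N) ℂ),
      x ∈ L.map (polyHom N) ↔ x ⊗ₜ[MvPolynomial (Fin N) ℂ] (Submodule.Quotient.mk 1 : MvPolynomial (Fin N) ℂ ⧸ L) = 0 := by
    intro L
    rw [← (TensorProduct.tensorQuotEquivQuotSMul (O N) L).map_eq_zero_iff, ← algebraMap_eq_polyHom, ← LocalCrit.smul_top_eq_map]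
    simp [TensorProduct.tensorQuotEquivQuotSMul, Submodule.Quotient.mk_eq_zero]
  rw [hmem] at hJ hK ⊢
  refine hinj ((TensorProduct.prodRight (MvPolynomial (Fin N) ℂ) (MvPolynomial (Fin N) ℂ) (O N) _ _).injective ?_)
  simp only [φ, LinearMap.lTensor_tmul, LinearMap.prod_apply, Pi.prod, Function.prod_apply, Submodule.mapQ_apply, LinearMap.id_apply,
    TensorProduct.prodRight_tmul, map_zero, hJ, hK]
  rfl

/-- A germ vanishing on the zero set of a radical polynomial ideal lies in the extended ideal. -/
theorem mem_map_of_eventually_zero {I : Ideal (MvPolynomial (Fin N) ℂ)} (hI : I.IsRadical) (G : holFun N)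
    (hG : ∀ᶠ z in 𝓝 (0 : Fin N → ℂ), (∀ h ∈ I, eval z h = 0) → G.1 z = 0) :
    mk _ G ∈ I.map (polyHom N) := by
  classical
  have hfin := I.finite_minimalPrimes_of_isNoetherianRing
  have key : ∀ s : Finset (Ideal (MvPolynomial (Fin N) ℂ)), ↑s ⊆ I.minimalPrimes →
      mk _ G ∈ (s.inf id).map (polyHom N) := by
    intro s hs
    induction s using Finset.induction_on with
    | empty => simp [Ideal.map_top]
    | insert p s _ ih =>
      rw [Finset.inf_insert]
      have hp : p ∈ I.minimalPrimes := hs (Finset.mem_insert_self p s)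
      haveI : p.IsPrime := hp.1.1
      refine mem_map_inf (mem_map_of_eventually_zero_prime p G ?_) (ih fun q hq => hs (Finset.mem_insert_of_mem hq))
      exact hG.mono fun z hz hV => hz fun h hh => hV h (hp.1.2 hh)
  have := key hfin.toFinset (by simp)
  rwa [Finset.inf_id_eq_sInf, hfin.coe_toFinset, Ideal.sInf_minimalPrimes, hI.radical] at this

end Groth.Agent.AnLocal
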