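import Groth.Agent.AnLocal.Chart
import Groth.Agent.AnLocal.Vanish
import Mathlib.Geometry.RingedSpace.Stalks

/-!
The analytic local ring at a complex point is the ring of convergent power series modulo the
extended ideal of relations.
-/

open AlgebraicGeometry CategoryTheory TopologicalSpace Filter Topology MvPolynomial Opposite Limits

noncomputable section

namespace Groth.Agent.AnLocal

open An An.Pts

variable {X : Scheme.{0}} [X.Over SC] (x : Pts X)

open Classical in
/-- Extension by zero of a function on an open set. -/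
def ext0 {U : Opens (top X)} (f : U → ℂ) (y : Pts X) : ℂ := if h : y ∈ U then f ⟨y, h⟩ else 0

theorem ext0_apply {U : Opens (top X)} (f : U → ℂ) {y : Pts X} (h : y ∈ U) : ext0 f y = f ⟨y, h⟩ := dif_pos h

/-- The germ of a function on a neighbourhood. -/
def germExt (U : Opens (top X)) (hx : x ∈ U) : (U → ℂ) →+* Germ (𝓝 x) ℂ where
  toFun f := (ext0 f : Germ (𝓝 x) ℂ)
  map_one' := Germ.coe_eq.2 (eventually_of_mem (U.2.mem_nhds hx) fun y hy => ext0_apply _ hy)
  map_mul' f g := Germ.coe_eq.2 (eventually_of_mem (U.2.mem_nhds hx) fun y hy => by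
    show ext0 (f * g) y = ext0 f y * ext0 g y
    rw [ext0_apply _ hy, ext0_apply _ hy, ext0_apply _ hy]; rfl)
  map_zero' := Germ.coe_eq.2 (eventually_of_mem (U.2.mem_nhds hx) fun y hy => ext0_apply _ hy)
  map_add' f g := Germ.coe_eq.2 (eventually_of_mem (U.2.mem_nhds hx) fun y hy => by
    show ext0 (f + g) y = ext0 f y + ext0 g y
    rw [ext0_apply _ hy, ext0_apply _ hy, ext0_apply _ hy]; rfl)

/-- The cocone computing the values of the analytic stalk. -/
def valCocone : Cocone ((OpenNhds.inclusion (show top X from x)).op ⋙ holPresheaf X) where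
  pt := CommRingCat.of (Germ (𝓝 x) ℂ)
  ι :=
    { app := fun U => CommRingCat.ofHom
        ((germExt x U.unop.1 U.unop.2).comp (holSub U.unop.1).val.toRingHom)
      naturality := fun U V i => by
        ext f
        refine Germ.coe_eq.2 (eventually_of_mem (V.unop.1.2.mem_nhds V.unop.2) fun y hy => ?_)
        change ext0 _ y = ext0 _ y
        refine (ext0_apply _ hy).trans (Eq.trans ?_ (ext0_apply _ (((OpenNhds.inclusion _).map i.unop).le hy)).symm)
        rfl }

/-- An element of the analytic local ring as a germ of functions. -/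
def val : (anSpace X).presheaf.stalk x →+* Germ (𝓝 x) ℂ :=
  (colimit.desc _ (valCocone x)).hom

theorem val_germ (U : Opens (top X)) (hx : x ∈ U) (f : (holPresheaf X).obj (op U)) :
    val x ((anSpace X).presheaf.germ U x hx f) = (ext0 f.1 : Germ (𝓝 x) ℂ) :=
  ConcreteCategory.congr_hom (colimit.ι_desc (valCocone x) (op ⟨U, hx⟩)) f

theorem val_injective : Function.Injective (val x) := by
  intro a b hab
  obtain ⟨U, hU, f, rfl⟩ := TopCat.Presheaf.exists_germ_eq _ a
  obtain ⟨V, hV, g, rfl⟩ := TopCat.Presheaf.exists_germ_eq _ b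
  rw [val_germ, val_germ] at hab
  obtain ⟨S, hS, hSo, hxS⟩ := _root_.mem_nhds_iff.1 (Germ.coe_eq.1 hab)
  let W : Opens (top X) := ⟨S, hSo⟩ ⊓ U ⊓ V
  refine (anSpace X).presheaf.germ_ext W ⟨⟨hxS, hU⟩, hV⟩ (homOfLE (inf_le_left.trans inf_le_right))
    (homOfLE inf_le_right) ?_
  refine Subtype.ext (_root_.funext fun y => ?_)
  have := hS y.2.1.1
  simp only [Set.mem_setOf_eq] at this
  rw [ext0_apply _ y.2.1.2, ext0_apply _ y.2.2] at this
  exact this

variable {x} (c : Chart x)

namespace Chart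

/-- Composition with the coordinates, on functions. -/
def T0 : holFun c.N →+* Germ (𝓝 x) ℂ where
  toFun f := ((f.1 ∘ c.coord : Pts X → ℂ) : Germ (𝓝 x) ℂ)
  map_one' := rfl
  map_mul' _ _ := rfl
  map_zero' := rfl
  map_add' _ _ := rfl

/-- Composition with the coordinates. -/
def T : O c.N →+* Germ (𝓝 x) ℂ :=
  (AnLocal.mk c.N).liftOfSurjective AnLocal.mk_surjective ⟨c.T0, fun f hf => by
    rw [RingHom.mem_ker, AnLocal.mk_eq_zero] at hf
    rw [RingHom.mem_ker]
    exact Germ.coe_eq.2 (c.continuousAt_coord.eventually hf)⟩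

theorem T_mk (f : holFun c.N) : c.T (AnLocal.mk c.N f) = ((f.1 ∘ c.coord : Pts X → ℂ) : Germ (𝓝 x) ℂ) :=
  RingHom.liftOfSurjective_comp_apply (AnLocal.mk c.N) AnLocal.mk_surjective ⟨c.T0, _⟩ f

theorem eventually_mem_U : ∀ᶠ y in 𝓝 x, y.pt ∈ c.U :=
  (isOpen_preimage_pt c.U).mem_nhds c.mem

theorem T_eq_zero_iff [IsReduced X] (g : O c.N) : c.T g = 0 ↔ g ∈ c.I.map (polyHom c.N) := by
  obtain ⟨f, rfl⟩ := AnLocal.mk_surjective g
  rw [c.T_mk]
  constructor
  · intro h
    refine mem_map_of_eventually_zero c.isRadical_I f ?_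
    obtain ⟨r, hr, hball⟩ := c.exists_ball_subset (Germ.coe_eq.1 (h.trans Germ.coe_zero.symm))
    filter_upwards [Metric.ball_mem_nhds 0 hr] with t ht hV
    obtain ⟨y, hyU, rfl⟩ := c.exists_pts t hV
    exact hball y hyU (mem_ball_zero_iff.1 ht)
  · intro h
    refine Germ.coe_eq.2 ?_
    filter_upwards [c.continuousAt_coord.eventually (eventually_eq_zero_of_mem_map h), c.eventually_mem_U]
      with y hy hyU
    exact hy fun p hp => c.eval_eq_zero hyU hp

theorem exists_section (f : holFun c.N) :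
    ∃ a : (anSpace X).presheaf.stalk x, val x a = c.T (AnLocal.mk c.N f) := by
  obtain ⟨R, hR, hball⟩ := Metric.eventually_nhds_iff_ball.1 f.2
  let S : Set (Pts X) := {y | y.pt ∈ c.U ∧ c.coord y ∈ Metric.ball (0 : Fin c.N → ℂ) R}
  have hS : S ∈ 𝓝 x := c.eventually_mem_U.and (c.continuousAt_coord (Metric.ball_mem_nhds 0 hR))
  let U : Opens (top X) := ⟨interior S, isOpen_interior⟩
  have hxU : x ∈ U := mem_interior_iff_mem_nhds.2 hS
  let sec : U → ℂ := fun y => f.1 (c.coord y.1)
  have hsec : (holPred X).pred sec := by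
    refine holPred_of_chartAlg (Algebra.subset_adjoin ?_)
    refine ⟨c.U, fun y => (interior_subset y.2).1, c.N, c.s, Metric.ball 0 R, f.1, Metric.isOpen_ball,
      fun z hz => (hball z hz).differentiableWithinAt, fun y => ?_⟩
    have e : (fun i => Pts.ev y.1 c.U (interior_subset y.2).1 (c.s i)) = c.coord y.1 :=
      _root_.funext fun i => (c.coord_apply _ i).symm
    rw [e]
    exact ⟨(interior_subset y.2).2, rfl⟩
  refine ⟨(anSpace X).presheaf.germ U x hxU ⟨sec, hsec⟩, ?_⟩
  rw [val_germ, c.T_mk]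
  exact Germ.coe_eq.2 (eventually_of_mem (isOpen_interior.mem_nhds hxU) fun y hy => ext0_apply _ hy)

theorem germ_mem_range_of_chartFun {V : Opens (top X)} (hx : x ∈ V) {g : V → ℂ} (hg : IsChartFun V g) :
    germExt x V hx g ∈ c.T.range := by
  obtain ⟨W, hW, n, s, D, G, hD, hG, hgeq⟩ := hg
  choose F r hr hF using fun i => c.exists_rational (s i) (hW ⟨x, hx⟩)
  have hr' : ∀ᶠ y in 𝓝 x, ∀ i, ‖c.coord y‖ < r i :=
    eventually_all.2 fun i => (c.continuousAt_coord.norm.eventually (eventually_lt_nhds (by simpa using hr i)))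
  have hval : (fun i => (F i).1 0) ∈ D := by
    convert (hgeq ⟨x, hx⟩).1 using 1
    refine _root_.funext fun i => ?_
    obtain ⟨_, e⟩ := hF i x c.mem (by rw [c.coord_self, norm_zero]; exact hr i)
    rw [c.coord_self] at e
    exact e.symm
  have hd : ∀ᶠ z in 𝓝 (0 : Fin c.N → ℂ), ∀ i, DifferentiableAt ℂ (F i).1 z := eventually_all.2 fun i => (F i).2
  have hfun : (fun z => G fun i => (F i).1 z) ∈ holFun c.N := by
    have hc : ContinuousAt (fun z i => (F i).1 z) 0 := continuousAt_pi.2 fun i => (F i).2.self_of_nhds.continuousAt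
    filter_upwards [hd, hc.eventually_mem (hD.mem_nhds hval)] with z hz hzD
    exact DifferentiableAt.comp z (g := G) (f := fun z i => (F i).1 z) (hG.differentiableAt (hD.mem_nhds hzD))
      (differentiableAt_pi.2 hz)
  refine ⟨AnLocal.mk _ ⟨_, hfun⟩, ?_⟩
  rw [c.T_mk]
  refine Germ.coe_eq.2 ?_
  filter_upwards [V.2.mem_nhds hx, hr', c.eventually_mem_U] with y hy hyr hyU
  rw [ext0_apply _ hy, (hgeq ⟨y, hy⟩).2]
  show G _ = G _
  refine congrArg G (_root_.funext fun i => ?_)
  obtain ⟨_, e⟩ := hF i y hyU (hyr i)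
  exact e.symm

theorem range_val_eq : (val x).range = c.T.range := by
  refine le_antisymm ?_ ?_
  · rintro _ ⟨a, rfl⟩
    obtain ⟨U, hU, f, rfl⟩ := TopCat.Presheaf.exists_germ_eq _ a
    obtain ⟨V, hxV, i, hV⟩ := f.2 ⟨x, hU⟩
    rw [val_germ]
    have e : (ext0 f.1 : Germ (𝓝 x) ℂ) = germExt x V hxV fun y => f.1 (i y) := by
      refine Germ.coe_eq.2 (eventually_of_mem (V.2.mem_nhds hxV) fun y hy => ?_)
      rw [ext0_apply _ (i.le hy), ext0_apply _ hy]
      rfl
    rw [e]
    change (fun y => f.1 (i y)) ∈ chartAlg V at hV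
    generalize (fun y => f.1 (i y)) = g at hV ⊢
    induction hV using Algebra.adjoin_induction with
    | mem g hg => exact c.germ_mem_range_of_chartFun hxV hg
    | algebraMap a =>
      refine ⟨C _ a, ?_⟩
      show c.T (C _ a) = _
      simp only [C, RingHom.comp_apply, T_mk]
      exact Germ.coe_eq.2 (eventually_of_mem (V.2.mem_nhds hxV) fun y hy => by rw [ext0_apply _ hy]; rfl)
    | add a b _ _ ha hb => rw [map_add]; exact add_mem ha hb
    | mul a b _ _ ha hb => rw [map_mul]; exact mul_mem ha hb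
  · rintro _ ⟨g, rfl⟩
    obtain ⟨f, rfl⟩ := AnLocal.mk_surjective g
    obtain ⟨a, ha⟩ := c.exists_section f
    exact ⟨a, ha⟩

/-- The comparison map from germs in the coordinates to the analytic local ring. -/
def E : O c.N →+* (anSpace X).presheaf.stalk x :=
  (RingEquiv.ofBijective (val x).rangeRestrict
      ⟨fun a b h => val_injective x (congrArg Subtype.val h), (val x).rangeRestrict_surjective⟩).symm.toRingHom.comp
    (c.T.codRestrict (val x).range fun g => c.range_val_eq ▸ ⟨g, rfl⟩)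

theorem val_E (g : O c.N) : val x (c.E g) = c.T g := by
  have := RingEquiv.apply_symm_apply (RingEquiv.ofBijective (val x).rangeRestrict
      ⟨fun a b h => val_injective x (congrArg Subtype.val h), (val x).rangeRestrict_surjective⟩)
    (c.T.codRestrict (val x).range (fun g => c.range_val_eq ▸ ⟨g, rfl⟩) g)
  exact congrArg Subtype.val this

theorem E_surjective : Function.Surjective c.E := fun a => by
  obtain ⟨g, hg⟩ := c.range_val_eq.le ⟨a, rfl⟩
  exact ⟨g, val_injective x ((c.val_E g).trans hg)⟩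

theorem ker_E [IsReduced X] : RingHom.ker c.E = c.I.map (polyHom c.N) := by
  ext g
  rw [RingHom.mem_ker, ← c.T_eq_zero_iff, ← c.val_E, map_eq_zero_iff _ (val_injective x)]

/-- The map from polynomials to the algebraic local ring. -/
def α : MvPolynomial (Fin c.N) ℂ →+* X.presheaf.stalk x.pt :=
  (X.presheaf.germ c.U x.pt c.mem).hom.comp c.φ

theorem isUnit_α_iff (p : MvPolynomial (Fin c.N) ℂ) : IsUnit (c.α p) ↔ eval 0 p ≠ 0 := by
  rw [← c.coord_self, ← c.ev_φ c.mem, ← pt_mem_basicOpen_iff, Scheme.mem_basicOpen _ _ _ c.mem]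
  rfl

theorem exists_α_eq (a : X.presheaf.stalk x.pt) :
    ∃ p h : MvPolynomial (Fin c.N) ℂ, eval 0 h ≠ 0 ∧ a * c.α h = c.α p := by
  letI := TopCat.Presheaf.algebra_section_stalk X.presheaf ⟨x.pt, c.mem⟩
  haveI := c.hU.isLocalization_stalk ⟨x.pt, c.mem⟩
  obtain ⟨⟨r, h⟩, he⟩ := IsLocalization.surj (c.hU.primeIdealOf ⟨x.pt, c.mem⟩).asIdeal.primeCompl a
  obtain ⟨pr, hpr⟩ := c.surj r
  obtain ⟨ph, hph⟩ := c.surj h.1
  have hu : IsUnit (c.α ph) := by
    have := IsLocalization.map_units (X.presheaf.stalk x.pt) h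
    rwa [← hph] at this
  refine ⟨pr, ph, (c.isUnit_α_iff ph).1 hu, ?_⟩
  rw [← hph, ← hpr] at he
  exact he

theorem exists_mul_mem_I {p : MvPolynomial (Fin c.N) ℂ} (hp : c.α p = 0) :
    ∃ h : MvPolynomial (Fin c.N) ℂ, eval 0 h ≠ 0 ∧ h * p ∈ c.I := by
  letI := TopCat.Presheaf.algebra_section_stalk X.presheaf ⟨x.pt, c.mem⟩
  haveI := c.hU.isLocalization_stalk ⟨x.pt, c.mem⟩
  obtain ⟨h, hh⟩ := (IsLocalization.map_eq_zero_iff (c.hU.primeIdealOf ⟨x.pt, c.mem⟩).asIdeal.primeCompl
    (X.presheaf.stalk x.pt) (c.φ p)).1 hp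
  obtain ⟨ph, hph⟩ := c.surj h.1
  refine ⟨ph, (c.isUnit_α_iff ph).1 ?_, ?_⟩
  · have := IsLocalization.map_units (X.presheaf.stalk x.pt) h
    rwa [← hph] at this
  · rw [I, RingHom.mem_ker, map_mul]
    rw [← hph] at hh
    exact hh

theorem E_polyHom (p : MvPolynomial (Fin c.N) ℂ) :
    c.E (polyHom c.N p) = (PresheafedSpace.Hom.stalkMap (anToScheme X) x).hom (c.α p) := by
  refine val_injective x ?_
  rw [c.val_E]
  have h := ConcreteCategory.congr_hom (PresheafedSpace.stalkMap_germ (anToScheme X) c.U x c.mem) (c.φ p)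
  simp only [CommRingCat.comp_apply] at h
  show _ = val x ((PresheafedSpace.Hom.stalkMap (anToScheme X) x).hom (X.presheaf.germ c.U x.pt c.mem (c.φ p)))
  erw [h, val_germ]
  rw [polyHom, RingHom.comp_apply, c.T_mk]
  refine Germ.coe_eq.2 ?_
  filter_upwards [c.eventually_mem_U] with y hy
  rw [ext0_apply _ (show y ∈ (Opens.map (anToScheme X).base).obj c.U from hy)]
  show (polyFun c.N p).1 (c.coord y) = y.ev c.U hy (c.φ p)
  rw [polyFun_apply, c.ev_φ]

end Chart

end Groth.Agent.AnLocal
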