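import Groth.Agent.AnLocal.Hol
import Mathlib.Analysis.Complex.CauchyIntegral
import Mathlib.Analysis.Analytic.IsolatedZeros
import Mathlib.Analysis.Analytic.Uniqueness
import Mathlib.Analysis.Normed.Group.FunctionSeries
import Mathlib.Analysis.SpecificLimits.Normed
import Mathlib.Analysis.Normed.Module.FiniteDimension

/-!
Division by a holomorphic function which is regular in the first coordinate.
-/

open Metric Filter Topology Set

noncomputable section

namespace Groth.Agent.AnLocal

variable {n : ℕ}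

local notation "E" => Fin (n + 1) → ℂ

/-- The difference quotient in the first coordinate, based at `0`. -/
def D (h : E → ℂ) : E → ℂ := dsl 0 0 h

/-- The restriction to the hyperplane `z 0 = 0`. -/
def P0 (h : E → ℂ) : E → ℂ := fun z => h (Function.update z 0 0)

theorem differentiableOn_D {h : E → ℂ} {R : ℝ} (hR : 0 < R) (hd : DifferentiableOn ℂ h (ball 0 R)) :
    DifferentiableOn ℂ (D h) (ball 0 R) :=
  differentiableOn_dsl (z₀ := (0 : E)) hd hR 0

theorem differentiableOn_iterate_D {h : E → ℂ} {R : ℝ} (hR : 0 < R) (hd : DifferentiableOn ℂ h (ball 0 R)) :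
    ∀ k, DifferentiableOn ℂ (D^[k] h) (ball 0 R)
  | 0 => hd
  | k + 1 => by rw [Function.iterate_succ_apply']; exact differentiableOn_D hR (differentiableOn_iterate_D hR hd k)

theorem differentiableOn_P0 {h : E → ℂ} {R : ℝ} (hR : 0 < R) (hd : DifferentiableOn ℂ h (ball 0 R)) :
    DifferentiableOn ℂ (P0 h) (ball 0 R) := by
  have hu : Differentiable ℂ fun z : E => Function.update z 0 0 := differentiable_pi.2 fun j => by
    by_cases hj : j = 0
    · subst hj; simp
    · simp only [Function.update_of_ne hj]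
      exact differentiable_apply (𝕜 := ℂ) (F' := fun _ : Fin (n + 1) => ℂ) j
  exact hd.comp hu.differentiableOn fun z hz => update_mem_ball hz 0 (by simpa using hR)

theorem apply_eq (h : E → ℂ) (z : E) : h z = P0 h z + z 0 * D h z := by
  have := sub_mul_dsl (0 : Fin (n + 1)) 0 h z
  rw [sub_zero] at this
  show h z = h (Function.update z 0 0) + z 0 * dsl 0 0 h z
  rw [this]; ring

theorem expansion (h : E → ℂ) (z : E) :
    ∀ d, h z = ∑ j ∈ Finset.range d, z 0 ^ j * P0 (D^[j] h) z + z 0 ^ d * D^[d] h z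
  | 0 => by simp
  | d + 1 => by
    rw [Finset.sum_range_succ, Function.iterate_succ_apply', expansion h z d]
    conv_lhs => rw [apply_eq (D^[d] h) z]
    ring

/-- Agreement on a ball passes to difference quotients. -/
theorem D_congr {a b : E → ℂ} {R : ℝ} (hR : 0 < R) (he : EqOn a b (ball 0 R)) : EqOn (D a) (D b) (ball 0 R) := by
  intro z hz
  have hz0 : z 0 ∈ ball (0 : ℂ) R := by
    rw [ball_pi (0 : E) hR, Set.mem_univ_pi] at hz; exact hz 0
  have hev : ∀ t ∈ ball (0 : ℂ) R, a (Function.update z 0 t) = b (Function.update z 0 t) := fun t ht =>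
    he (update_mem_ball hz 0 ht)
  show dslope _ _ _ = dslope _ _ _
  by_cases h : z 0 = 0
  · rw [h, dslope_same, dslope_same]
    exact Filter.EventuallyEq.deriv_eq (eventually_of_mem (isOpen_ball.mem_nhds (mem_ball_self hR)) hev)
  · rw [dslope_of_ne _ h, dslope_of_ne _ h, slope_def_field, slope_def_field, hev _ hz0, hev _ (mem_ball_self hR)]

theorem iterate_D_congr {a b : E → ℂ} {R : ℝ} (hR : 0 < R) (he : EqOn a b (ball 0 R)) :
    ∀ k, EqOn (D^[k] a) (D^[k] b) (ball 0 R)
  | 0 => he
  | k + 1 => by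
    simp only [Function.iterate_succ_apply']
    exact D_congr hR (iterate_D_congr hR he k)

theorem D_add {a b : E → ℂ} {R : ℝ} (hR : 0 < R) (ha : DifferentiableOn ℂ a (ball 0 R))
    (hb : DifferentiableOn ℂ b (ball 0 R)) : EqOn (D (a + b)) (D a + D b) (ball 0 R) := by
  intro z hz
  show dslope (fun t => a (Function.update z 0 t) + b (Function.update z 0 t)) 0 (z 0) =
    dslope (fun t => a (Function.update z 0 t)) 0 (z 0) + dslope (fun t => b (Function.update z 0 t)) 0 (z 0)
  by_cases h : z 0 = 0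
  · rw [h, dslope_same, dslope_same, dslope_same]
    have hm : (0 : ℂ) ∈ ball (((0 : E)) 0) R := mem_ball_self hR
    exact deriv_fun_add
      ((differentiableOn_update (sepDiff_of_differentiableOn isOpen_ball ha) hz 0).differentiableAt
        (isOpen_ball.mem_nhds hm))
      ((differentiableOn_update (sepDiff_of_differentiableOn isOpen_ball hb) hz 0).differentiableAt
        (isOpen_ball.mem_nhds hm))
  · simp only [dslope_of_ne _ h, slope_def_field, Pi.add_apply]
    ring

theorem iterate_D_add {a b : E → ℂ} {R : ℝ} (hR : 0 < R) (ha : DifferentiableOn ℂ a (ball 0 R))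
    (hb : DifferentiableOn ℂ b (ball 0 R)) : ∀ k, EqOn (D^[k] (a + b)) (D^[k] a + D^[k] b) (ball 0 R)
  | 0 => fun _ _ => rfl
  | k + 1 => by
    simp only [Function.iterate_succ_apply']
    exact (D_congr hR (iterate_D_add hR ha hb k)).trans
      (D_add hR (differentiableOn_iterate_D hR ha k) (differentiableOn_iterate_D hR hb k))

theorem D_mul_coord {a : E → ℂ} {R : ℝ} (hR : 0 < R) (ha : DifferentiableOn ℂ a (ball 0 R)) :
    EqOn (D fun z => z 0 * a z) a (ball 0 R) := by
  intro z hz
  show dslope (fun t => Function.update z 0 t 0 * a (Function.update z 0 t)) 0 (z 0) = a z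
  simp only [Function.update_self]
  by_cases h : z 0 = 0
  · have hm : (0 : ℂ) ∈ ball (((0 : E)) 0) R := mem_ball_self hR
    have hd := (differentiableOn_update (sepDiff_of_differentiableOn isOpen_ball ha) hz 0).differentiableAt
      (isOpen_ball.mem_nhds hm)
    have hu : Function.update z 0 0 = z := by conv_rhs => rw [← Function.update_eq_self 0 z, h]
    rw [h, dslope_same, deriv_fun_mul differentiableAt_fun_id hd]
    simp [hu]
  · rw [dslope_of_ne _ h, slope_def_field, Function.update_eq_self]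
    field_simp
    ring

theorem iterate_D_mul_pow {a : E → ℂ} {R : ℝ} (hR : 0 < R) (ha : DifferentiableOn ℂ a (ball 0 R)) :
    ∀ k, EqOn (D^[k] fun z => z 0 ^ k * a z) a (ball 0 R)
  | 0 => fun z _ => by simp
  | k + 1 => by
    have hk : DifferentiableOn ℂ (fun z : E => z 0 ^ k * a z) (ball 0 R) :=
      ((differentiable_apply (𝕜 := ℂ) (F' := fun _ : Fin (n + 1) => ℂ) 0).pow k).differentiableOn.mul ha
    have he : EqOn (D fun z : E => z 0 ^ (k + 1) * a z) (fun z => z 0 ^ k * a z) (ball 0 R) := by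
      refine EqOn.trans (D_congr hR fun z _ => ?_) (D_mul_coord hR hk)
      show z 0 ^ (k + 1) * a z = z 0 * (z 0 ^ k * a z)
      ring
    rw [Function.iterate_succ]
    exact (iterate_D_congr hR he k).trans (iterate_D_mul_pow hR ha k)

theorem norm_iterate_D_le {h : E → ℂ} {R M : ℝ} (hR : 0 < R) (hd : DifferentiableOn ℂ h (ball 0 R))
    (hM : ∀ z ∈ ball 0 R, ‖h z‖ ≤ M) : ∀ k, ∀ z ∈ ball (0 : E) R, ‖D^[k] h z‖ ≤ (2 / R) ^ k * M
  | 0 => by simpa using hM
  | k + 1 => by
    intro z hz
    rw [Function.iterate_succ_apply']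
    refine (norm_dsl_le (z₀ := (0 : E)) (differentiableOn_iterate_D hR hd k)
      (norm_iterate_D_le hR hd hM k) 0 hz).trans (le_of_eq ?_)
    ring

/-- Division on a ball on which the lower coefficients of `f` are small. -/
theorem division_core {f g : E → ℂ} {d : ℕ} {R m η C : ℝ} (hR : 0 < R) (hm : 0 < m)
    (hf : DifferentiableOn ℂ f (ball 0 R)) (hg : DifferentiableOn ℂ g (ball 0 R))
    (hfC : ∀ z ∈ ball 0 R, ‖f z‖ ≤ C) (hgC : ∀ z ∈ ball 0 R, ‖g z‖ ≤ C)
    (hu : ∀ z ∈ ball 0 R, m ≤ ‖D^[d] f z‖)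
    (hη : ∀ z ∈ ball 0 R, ‖∑ j ∈ Finset.range d, z 0 ^ j * P0 (D^[j] f) z‖ ≤ η)
    (hsmall : (2 / R) ^ d * η / m ≤ 1 / 2) :
    ∃ q, DifferentiableOn ℂ q (ball 0 R) ∧ ∀ z ∈ ball 0 R,
      g z = q z * f z + ∑ j ∈ Finset.range d, z 0 ^ j * P0 (D^[j] (fun w => g w - q w * f w)) z := by
  set Rf : E → ℂ := fun z => ∑ j ∈ Finset.range d, z 0 ^ j * P0 (D^[j] f) z with hRf
  set u : E → ℂ := D^[d] f with hudef
  have hu0 : ∀ z ∈ ball (0 : E) R, u z ≠ 0 := fun z hz h0 => by
    have := hu z hz; rw [h0, norm_zero] at this; linarith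
  have hud : DifferentiableOn ℂ u (ball 0 R) := differentiableOn_iterate_D hR hf d
  have hRfd : DifferentiableOn ℂ Rf (ball 0 R) := DifferentiableOn.fun_sum fun j _ =>
    ((differentiable_apply (𝕜 := ℂ) (F' := fun _ : Fin (n + 1) => ℂ) 0).pow j).differentiableOn.mul
      (differentiableOn_P0 hR (differentiableOn_iterate_D hR hf j))
  have hη0 : 0 ≤ η := (norm_nonneg _).trans (hη 0 (mem_ball_self hR))
  have hC0 : 0 ≤ C := (norm_nonneg _).trans (hfC 0 (mem_ball_self hR))
  let q : ℕ → E → ℂ := fun k => Nat.rec (fun z => D^[d] g z / u z) (fun _ qk z => -(D^[d] (fun w => qk w * Rf w) z) / u z) k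
  have hqd : ∀ k, DifferentiableOn ℂ (q k) (ball 0 R) := by
    intro k
    induction k with
    | zero =>
      show DifferentiableOn ℂ (fun z => D^[d] g z / u z) _
      simp only [div_eq_mul_inv]
      exact (differentiableOn_iterate_D hR hg d).fun_mul (hud.fun_inv hu0)
    | succ k ih =>
      show DifferentiableOn ℂ (fun z => -(D^[d] (fun w => q k w * Rf w) z) / u z) _
      simp only [div_eq_mul_inv]
      exact (differentiableOn_iterate_D hR (ih.fun_mul hRfd) d).fun_neg.fun_mul (hud.fun_inv hu0)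
  let M := (2 / R) ^ d * C / m
  have hM0 : 0 ≤ M := by positivity
  have hqb : ∀ k, ∀ z ∈ ball (0 : E) R, ‖q k z‖ ≤ M * (1 / 2) ^ k := by
    intro k
    induction k with
    | zero =>
      intro z hz
      show ‖D^[d] g z / u z‖ ≤ _
      rw [norm_div, pow_zero, mul_one]
      exact div_le_div₀ (by positivity) (norm_iterate_D_le hR hg hgC d z hz) hm (hu z hz)
    | succ k ih =>
      intro z hz
      show ‖-(D^[d] (fun w => q k w * Rf w) z) / u z‖ ≤ _
      have h1 : ‖D^[d] (fun w => q k w * Rf w) z‖ ≤ (2 / R) ^ d * (M * (1 / 2) ^ k * η) :=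
        norm_iterate_D_le hR ((hqd k).fun_mul hRfd) (fun w hw => by
          rw [norm_mul]; exact mul_le_mul (ih w hw) (hη w hw) (norm_nonneg _) (by positivity)) d z hz
      rw [norm_div, norm_neg]
      calc _ ≤ (2 / R) ^ d * (M * (1 / 2) ^ k * η) / m := by gcongr; exact hu z hz
        _ = (2 / R) ^ d * η / m * (M * (1 / 2) ^ k) := by ring
        _ ≤ 1 / 2 * (M * (1 / 2) ^ k) := by gcongr
        _ = _ := by ring
  let S : ℕ → E → ℂ := fun K z => ∑ k ∈ Finset.range K, q k z
  have hSd : ∀ K, DifferentiableOn ℂ (S K) (ball 0 R) := fun K => DifferentiableOn.fun_sum fun k _ => hqd k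
  have hlim : TendstoUniformlyOn S (fun z => ∑' k, q k z) atTop (ball 0 R) :=
    tendstoUniformlyOn_tsum_nat ((summable_geometric_of_lt_one (by norm_num) (by norm_num)).mul_left M) hqb
  set Q : E → ℂ := fun z => ∑' k, q k z with hQ
  have hQd : DifferentiableOn ℂ Q (ball 0 R) := differentiableOn_of_tendstoUniformlyOn isOpen_ball hSd hlim
  refine ⟨Q, hQd, fun z hz => ?_⟩
  suffices hT : ∀ z ∈ ball (0 : E) R, D^[d] (fun w => g w - Q w * f w) z = 0 by
    have := expansion (fun w => g w - Q w * f w) z d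
    rw [show D^[d] (fun w => g w - Q w * f w) z = 0 from hT z hz, mul_zero, add_zero] at this
    linear_combination this
  -- the partial sums
  have hstep : ∀ k, EqOn (D^[d] fun w => q k w * f w) (fun z => u z * q k z - u z * q (k + 1) z) (ball 0 R) := by
    intro k
    have hwd : DifferentiableOn ℂ (fun w : E => w 0 ^ d * (q k w * u w)) (ball 0 R) :=
      ((differentiable_apply (𝕜 := ℂ) (F' := fun _ : Fin (n + 1) => ℂ) 0).pow d).differentiableOn.mul ((hqd k).fun_mul hud)
    have he : EqOn (fun w => q k w * f w) ((fun w => q k w * Rf w) + fun w => w 0 ^ d * (q k w * u w)) (ball 0 R) := by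
      intro w _
      show q k w * f w = q k w * Rf w + w 0 ^ d * (q k w * u w)
      rw [expansion f w d]
      simp only [hRf, hudef]
      ring
    intro z hz
    rw [iterate_D_congr hR he d hz, iterate_D_add hR ((hqd k).fun_mul hRfd) hwd d hz, Pi.add_apply,
      iterate_D_mul_pow hR ((hqd k).fun_mul hud) d hz]
    show D^[d] (fun w => q k w * Rf w) z + q k z * u z = u z * q k z - u z * (-(D^[d] (fun w => q k w * Rf w) z) / u z)
    field_simp [hu0 z hz]
    ring
  have hSf : ∀ K, EqOn (D^[d] fun w => S K w * f w) (fun z => u z * q 0 z - u z * q K z) (ball 0 R) := by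
    intro K
    induction K with
    | zero =>
      intro z hz
      show _ = u z * q 0 z - u z * q 0 z
      rw [sub_self]
      refine norm_le_zero_iff.1 (le_trans (norm_iterate_D_le (M := 0) hR ((hSd 0).fun_mul hf) ?_ d z hz) (by simp))
      intro w _; simp [S]
    | succ K ih =>
      have he : EqOn (fun w => S (K + 1) w * f w) ((fun w => S K w * f w) + fun w => q K w * f w) (ball 0 R) :=
        fun w _ => by simp only [S, Finset.sum_range_succ, Pi.add_apply]; ring
      intro z hz
      rw [iterate_D_congr hR he d hz, iterate_D_add hR ((hSd K).fun_mul hf) ((hqd K).fun_mul hf) d hz, Pi.add_apply,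
        ih hz, hstep K hz]
      ring
  intro z hz
  have hbound : ∀ K, ∀ ε : ℝ, (∀ w ∈ ball (0 : E) R, ‖Q w - S K w‖ ≤ ε) →
      ‖D^[d] (fun w => g w - Q w * f w) z‖ ≤ ‖u z‖ * (M * (1 / 2) ^ K) + (2 / R) ^ d * (ε * C) := by
    intro K ε hε
    have hgd : DifferentiableOn ℂ (fun w => g w - Q w * f w) (ball 0 R) := hg.sub (hQd.mul hf)
    have hrd : DifferentiableOn ℂ (fun w => (Q w - S K w) * f w) (ball 0 R) := (hQd.sub (hSd K)).mul hf
    have he : EqOn g (((fun w => g w - Q w * f w) + fun w => (Q w - S K w) * f w) + fun w => S K w * f w) (ball 0 R) :=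
      fun w _ => by simp only [Pi.add_apply]; ring
    have h1 := iterate_D_congr hR he d hz
    rw [iterate_D_add hR (hgd.add hrd) ((hSd K).fun_mul hf) d hz, Pi.add_apply,
      iterate_D_add hR hgd hrd d hz, Pi.add_apply, hSf K hz] at h1
    have h2 : u z * q 0 z = D^[d] g z := mul_div_cancel₀ _ (hu0 z hz)
    have h3 : D^[d] (fun w => g w - Q w * f w) z = u z * q K z - D^[d] (fun w => (Q w - S K w) * f w) z := by
      show D^[d] (fun w => g w - Q w * f w) z = u z * q K z - D^[d] (fun w => (Q w - S K w) * f w) z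
      linear_combination -h1 - h2
    rw [h3]
    refine (norm_sub_le _ _).trans (add_le_add ?_ ?_)
    · rw [norm_mul]; exact mul_le_mul_of_nonneg_left (hqb K z hz) (norm_nonneg _)
    · refine norm_iterate_D_le hR hrd (fun w hw => ?_) d z hz
      rw [norm_mul]
      exact mul_le_mul (hε w hw) (hfC w hw) (norm_nonneg _) ((norm_nonneg _).trans (hε w hw))
  refine norm_le_zero_iff.1 (le_of_forall_pos_le_add fun δ hδ => ?_)
  have h1 : Tendsto (fun K : ℕ => ‖u z‖ * (M * (1 / 2) ^ K)) atTop (𝓝 0) := by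
    simpa using ((tendsto_pow_atTop_nhds_zero_of_lt_one (by norm_num : (0 : ℝ) ≤ 1 / 2) (by norm_num)).const_mul M).const_mul ‖u z‖
  have hε : 0 < δ / 2 / ((2 / R) ^ d * (C + 1)) := by positivity
  obtain ⟨K, hK1, hK2⟩ := ((h1.eventually_lt_const (half_pos hδ)).and
    (Metric.tendstoUniformlyOn_iff.1 hlim _ hε)).exists
  have hb := hbound K _ (fun w hw => by rw [← dist_eq_norm]; exact (hK2 w hw).le)
  have h4 : (2 / R) ^ d * (δ / 2 / ((2 / R) ^ d * (C + 1)) * C) ≤ δ / 2 := by
    have hp : 0 < (2 / R) ^ d := by positivity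
    rw [show (2 / R) ^ d * (δ / 2 / ((2 / R) ^ d * (C + 1)) * C) = δ / 2 * (C / (C + 1)) by field_simp]
    exact mul_le_of_le_one_right (half_pos hδ).le ((div_le_one (by linarith)).2 (by linarith))
  linarith

/-- Scaling of the last coordinates. -/
def scale (c : ℂ) : E →L[ℂ] E :=
  ContinuousLinearMap.pi fun j => if j = 0 then ContinuousLinearMap.proj j else c • ContinuousLinearMap.proj j

theorem scale_apply (c : ℂ) (z : E) (j : Fin (n + 1)) : scale c z j = if j = 0 then z j else c * z j := by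
  unfold scale
  split_ifs with h <;> simp [h]

theorem scale_update (c : ℂ) (z : E) (t : ℂ) :
    scale c (Function.update z 0 t) = Function.update (scale c z) 0 t := by
  ext j
  rw [scale_apply]
  by_cases hj : j = 0
  · subst hj; simp
  · simp [Function.update_of_ne hj, if_neg hj, scale_apply]

theorem scale_mem {c : ℂ} (hc : ‖c‖ ≤ 1) {z : E} {R : ℝ} (hz : z ∈ ball 0 R) : scale c z ∈ ball 0 R := by
  have hR := dist_nonneg.trans_lt (mem_ball.1 hz)
  rw [mem_ball_zero_iff, pi_norm_lt_iff hR] at hz ⊢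
  intro j
  rw [scale_apply]
  split_ifs
  · exact hz j
  · rw [norm_mul]; exact lt_of_le_of_lt (mul_le_of_le_one_left (norm_nonneg _) hc) (hz j)

theorem D_comp_scale (c : ℂ) (h : E → ℂ) : D (h ∘ scale c) = D h ∘ scale c := by
  funext z
  show dslope (fun t => h (scale c (Function.update z 0 t))) 0 (z 0) =
    dslope (fun t => h (Function.update (scale c z) 0 t)) 0 (scale c z 0)
  rw [show scale c z 0 = z 0 from (scale_apply c z 0).trans (if_pos rfl)]
  simp only [scale_update]

theorem iterate_D_comp_scale (c : ℂ) (h : E → ℂ) : ∀ k, D^[k] (h ∘ scale c) = D^[k] h ∘ scale c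
  | 0 => rfl
  | k + 1 => by rw [Function.iterate_succ_apply', iterate_D_comp_scale c h k, D_comp_scale, Function.iterate_succ_apply']

theorem P0_comp_scale (c : ℂ) (h : E → ℂ) : P0 (h ∘ scale c) = P0 h ∘ scale c := by
  funext z; show h (scale c (Function.update z 0 0)) = _; rw [scale_update]; rfl

theorem scale_inv {c : ℂ} (hc : c ≠ 0) (z : E) : scale c (scale c⁻¹ z) = z := by
  ext j
  rw [scale_apply, scale_apply]
  split_ifs with h
  · rfl
  · rw [← mul_assoc, mul_inv_cancel₀ hc, one_mul]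

/-- The axis of the first coordinate. -/
def axis (t : ℂ) : E := Function.update 0 0 t

/-- `f` is regular of order `d` in the first coordinate. -/
def IsRegular (f : E → ℂ) (d : ℕ) : Prop := D^[d] f 0 ≠ 0 ∧ ∀ j < d, D^[j] f 0 = 0

theorem iterate_D_axis (f : E → ℂ) : ∀ k t, D^[k] f (axis t) = (Function.swap dslope 0)^[k] (fun s => f (axis s)) t
  | 0, t => rfl
  | k + 1, t => by
    rw [Function.iterate_succ_apply', Function.iterate_succ_apply']
    show dslope (fun s => D^[k] f (Function.update (axis t) 0 s)) 0 (axis t 0) = dslope _ 0 t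
    simp only [axis, Function.update_self, Function.update_idem]
    congr 1
    funext s
    exact iterate_D_axis f k s

theorem exists_isRegular {f : E → ℂ} {R : ℝ} (hR : 0 < R) (hf : DifferentiableOn ℂ f (ball 0 R))
    (hne : ¬ ∀ᶠ t in 𝓝 (0 : ℂ), f (axis t) = 0) : ∃ d, IsRegular f d := by
  classical
  have hd : DifferentiableOn ℂ (fun t => f (axis t)) (ball (0 : ℂ) R) :=
    differentiableOn_update (z₀ := (0 : E)) (sepDiff_of_differentiableOn isOpen_ball hf) (mem_ball_self hR) 0
  obtain ⟨p, hp⟩ := hd.analyticAt (ball_mem_nhds 0 hR)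
  have hp0 : p ≠ 0 := fun h => hne (hp.locally_zero_iff.2 h)
  have hex : ∃ d, D^[d] f 0 ≠ 0 := ⟨p.order, by
    have := hp.iterate_dslope_fslope_ne_zero hp0
    rwa [← iterate_D_axis, show axis (0 : ℂ) = (0 : E) from Function.update_eq_self _ _] at this⟩
  exact ⟨Nat.find hex, Nat.find_spec hex, fun j hj => not_not.1 (Nat.find_min hex hj)⟩

/-- **Weierstrass division**. -/
theorem division {f g : E → ℂ} {d : ℕ} {R : ℝ} (hR : 0 < R) (hf : DifferentiableOn ℂ f (ball 0 R))
    (hreg : IsRegular f d) (hg : DifferentiableOn ℂ g (ball 0 R)) :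
    ∃ (r : ℝ) (_ : 0 < r) (q : E → ℂ) (a : ℕ → (Fin n → ℂ) → ℂ), DifferentiableOn ℂ q (ball 0 r) ∧
      (∀ j, DifferentiableOn ℂ (a j) (ball 0 r)) ∧
      ∀ z ∈ ball (0 : E) r, g z = q z * f z + ∑ j ∈ Finset.range d, z 0 ^ j * a j (Fin.tail z) := by
  obtain ⟨hu0, hlow⟩ := hreg
  set u := D^[d] f with hu
  have hud : DifferentiableOn ℂ u (ball 0 R) := differentiableOn_iterate_D hR hf d
  obtain ⟨ρ₁, hρ₁, hρ₁u⟩ := Metric.mem_nhds_iff.1
    ((hud.continuousOn.continuousAt (ball_mem_nhds 0 hR)).norm.eventually_const_le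
      (show ‖u 0‖ / 2 < ‖u 0‖ from half_lt_self (norm_pos_iff.2 hu0)))
  set ρ := min (min ρ₁ (R / 2)) 1 with hρdef
  have hρ : 0 < ρ := lt_min (lt_min hρ₁ (half_pos hR)) one_pos
  have hsub : closedBall (0 : E) ρ ⊆ ball 0 R :=
    closedBall_subset_ball (lt_of_le_of_lt ((min_le_left _ _).trans (min_le_right _ _)) (half_lt_self hR))
  obtain ⟨Cf, hCf⟩ := (isCompact_closedBall (0 : E) ρ).exists_bound_of_continuousOn (hf.continuousOn.mono hsub)
  obtain ⟨Cg, hCg⟩ := (isCompact_closedBall (0 : E) ρ).exists_bound_of_continuousOn (hg.continuousOn.mono hsub)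
  set m := ‖u 0‖ / 2
  have hm : 0 < m := half_pos (norm_pos_iff.2 hu0)
  let η := m / (2 * (2 / ρ) ^ d)
  have hη : 0 < η := by positivity
  have hcoef : ∀ᶠ y in 𝓝 (0 : E), ∑ j ∈ Finset.range d, ρ ^ j * ‖D^[j] f y‖ < η := by
    have hc : ContinuousAt (fun y : E => ∑ j ∈ Finset.range d, ρ ^ j * ‖D^[j] f y‖) 0 :=
      tendsto_finset_sum _ fun j _ => (((differentiableOn_iterate_D hR hf j).continuousOn.continuousAt
        (ball_mem_nhds 0 hR)).norm.const_mul (ρ ^ j))
    refine hc.eventually_lt_const (lt_of_eq_of_lt ?_ hη)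
    exact Finset.sum_eq_zero fun j hj => by rw [hlow j (Finset.mem_range.1 hj), norm_zero, mul_zero]
  obtain ⟨δ, hδ, hδη⟩ := Metric.mem_nhds_iff.1 hcoef
  set c : ℝ := min 1 (δ / (ρ + 1)) with hcdef
  have hc : 0 < c := lt_min one_pos (by positivity)
  have hcn : ‖(c : ℂ)‖ = c := by rw [Complex.norm_real, Real.norm_of_nonneg hc.le]
  have hc1 : ‖(c : ℂ)‖ ≤ 1 := by rw [hcn]; exact min_le_left _ _
  have hin : ∀ z ∈ ball (0 : E) ρ, scale (c : ℂ) z ∈ ball (0 : E) ρ := fun z hz => scale_mem hc1 hz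
  have hfs : DifferentiableOn ℂ (f ∘ scale (c : ℂ)) (ball 0 ρ) :=
    hf.comp (scale (c : ℂ)).differentiable.differentiableOn fun z hz => hsub (ball_subset_closedBall (hin z hz))
  have hgs : DifferentiableOn ℂ (g ∘ scale (c : ℂ)) (ball 0 ρ) :=
    hg.comp (scale (c : ℂ)).differentiable.differentiableOn fun z hz => hsub (ball_subset_closedBall (hin z hz))
  have hsm : (2 / ρ) ^ d * η / m ≤ 1 / 2 := le_of_eq (by simp only [η]; field_simp)
  obtain ⟨q, hqd, hq⟩ := division_core (d := d) (m := m) (η := η) (C := max Cf Cg) hρ hm hfs hgs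
    (fun z hz => (hCf _ (ball_subset_closedBall (hin z hz))).trans (le_max_left _ _))
    (fun z hz => (hCg _ (ball_subset_closedBall (hin z hz))).trans (le_max_right _ _))
    (fun z hz => by
      rw [iterate_D_comp_scale]
      exact hρ₁u (ball_subset_ball ((min_le_left _ _).trans (min_le_left _ _)) (hin z hz)))
    (fun z hz => by
      have hy : Function.update (scale (c : ℂ) z) 0 0 ∈ ball (0 : E) δ := by
        rw [mem_ball_zero_iff, pi_norm_lt_iff hδ]
        intro j
        by_cases hj : j = 0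
        · subst hj; simpa using hδ
        · rw [Function.update_of_ne hj, scale_apply, if_neg hj, norm_mul, hcn]
          have hzj : ‖z j‖ < ρ := (norm_le_pi_norm z j).trans_lt (mem_ball_zero_iff.1 hz)
          calc c * ‖z j‖ ≤ δ / (ρ + 1) * ρ := mul_le_mul (min_le_right _ _) hzj.le (norm_nonneg _) (by positivity)
            _ < δ := by
              rw [div_mul_eq_mul_div, div_lt_iff₀ (by positivity)]; nlinarith
      have hz0 : ‖z 0‖ ≤ ρ := (norm_le_pi_norm z 0).trans (mem_ball_zero_iff.1 hz).le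
      refine (norm_sum_le _ _).trans (le_trans (Finset.sum_le_sum fun j _ => ?_) (hδη hy).le)
      rw [norm_mul, norm_pow, iterate_D_comp_scale, P0_comp_scale]
      exact mul_le_mul_of_nonneg_right (pow_le_pow_left₀ (norm_nonneg _) hz0 _) (norm_nonneg _))
    hsm
  have hcne : ((c : ℝ) : ℂ) ≠ 0 := by exact_mod_cast hc.ne'
  refine ⟨c * ρ, by positivity, q ∘ scale ((c : ℂ))⁻¹,
    fun j y => P0 (D^[j] (fun w => (g ∘ scale (c : ℂ)) w - q w * (f ∘ scale (c : ℂ)) w))
      (scale ((c : ℂ))⁻¹ (Fin.cons 0 y)), ?_, fun j => ?_, fun z hz => ?_⟩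
  all_goals
    have hmem : ∀ w ∈ ball (0 : E) (c * ρ), scale ((c : ℂ))⁻¹ w ∈ ball (0 : E) ρ := fun w hw => by
      rw [mem_ball_zero_iff, pi_norm_lt_iff hρ]
      intro k
      have hwk : ‖w k‖ < c * ρ := (norm_le_pi_norm w k).trans_lt (mem_ball_zero_iff.1 hw)
      rw [scale_apply]
      split_ifs
      · exact hwk.trans_le (mul_le_of_le_one_left hρ.le (min_le_left _ _))
      · rw [norm_mul, norm_inv, hcn, inv_mul_lt_iff₀ hc]; exact hwk
  · exact hqd.comp (scale _).differentiable.differentiableOn hmem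
  · refine (differentiableOn_P0 hρ (differentiableOn_iterate_D hρ (hgs.sub (hqd.mul hfs)) j)).comp
      ((scale ((c : ℂ))⁻¹).differentiable.comp (differentiable_pi.2 fun k => ?_)).differentiableOn fun y hy => hmem _ ?_
    · refine Fin.cases ?_ (fun i => ?_) k
      · simp
      · simp only [Fin.cons_succ]; exact differentiable_apply (𝕜 := ℂ) (F' := fun _ : Fin n => ℂ) i
    · rw [mem_ball_zero_iff, pi_norm_lt_iff (by positivity)] at hy ⊢
      refine Fin.cases ?_ (fun i => ?_)
      · simp only [Fin.cons_zero, norm_zero]; positivity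
      · simpa using hy i
  · have h := hq _ (hmem z hz)
    simp only [Function.comp_apply, scale_inv hcne] at h
    rw [h]
    congr 1
    refine Finset.sum_congr rfl fun j _ => ?_
    rw [scale_apply, if_pos rfl]
    congr 1
    show D^[j] _ (Function.update _ 0 0) = D^[j] _ (Function.update _ 0 0)
    rw [← scale_update, ← scale_update, Fin.update_cons_zero]
    have hcons : (Fin.cons 0 (Fin.tail z) : E) = Function.update z 0 0 := by
      conv_rhs => rw [← Fin.cons_self_tail z, Fin.update_cons_zero]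
    rw [hcons]
    rfl

end Groth.Agent.AnLocal
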